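import Mathlib

set_option autoImplicit false

namespace Cfsg.Agent.Helper53

open Subgroup

/-- Normalizer growth, in `relIndex` form: if `T ≤ H` is a `p`-group, then
`[H ∩ N(T) : T] ≡ [H : T] mod p`. -/
theorem relIndex_normalizer_modEq {G : Type*} [Group G] [Finite G] {p : ℕ} [hp : Fact p.Prime]
    {T H : Subgroup G} (hTH : T ≤ H) (hT : IsPGroup p ↥T) :
    T.relIndex (H ⊓ normalizer (T : Set G)) ≡ T.relIndex H [MOD p] := by
  obtain ⟨n, hn⟩ := IsPGroup.iff_card.mp hT
  have hcard : Nat.card ↥(T.subgroupOf H) = p ^ n := by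
    rw [← hn]
    exact Nat.card_congr (subgroupOfEquivOfLe hTH).toEquiv
  have key := Sylow.card_quotient_normalizer_modEq_card_quotient (G := ↥H) (H := T.subgroupOf H) hcard
  have e1 : Nat.card (↥H ⧸ T.subgroupOf H) = T.relIndex H := rfl
  have e2 : Nat.card (↥(normalizer ((T.subgroupOf H : Subgroup ↥H) : Set ↥H)) ⧸
      (T.subgroupOf H).comap (normalizer ((T.subgroupOf H : Subgroup ↥H) : Set ↥H)).subtype)
      = T.relIndex (H ⊓ normalizer (T : Set G)) := by
    change ((T.subgroupOf H).subgroupOf (normalizer ((T.subgroupOf H : Subgroup ↥H) : Set ↥H))).index = _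
    rw [← relIndex, ← subgroupOf_normalizer_eq hTH]
    have : (normalizer (T : Set G)).subgroupOf H = (H ⊓ normalizer (T : Set G)).subgroupOf H := by
      rw [inf_comm, inf_subgroupOf_right]
    rw [this, relIndex_subgroupOf inf_le_left]
  rw [e1, e2] at key
  exact key

/-- If `T ≤ H` is a `p`-group and `p ∣ [H : T]` then `p ∣ [H ∩ N(T) : T]`. -/
theorem dvd_relIndex_normalizer {G : Type*} [Group G] [Finite G] {p : ℕ} [hp : Fact p.Prime]
    {T H : Subgroup G} (hTH : T ≤ H) (hT : IsPGroup p ↥T) (h : p ∣ T.relIndex H) :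
    p ∣ T.relIndex (H ⊓ normalizer (T : Set G)) := by
  have := relIndex_normalizer_modEq (p := p) hTH hT
  exact (Nat.modEq_zero_iff_dvd).1 (this.trans ((Nat.modEq_zero_iff_dvd).2 h))

end Cfsg.Agent.Helper53
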