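import Mathlib

set_option autoImplicit false

namespace Cfsg.Agent.Helper53

/-- Arithmetic behind the 2-groups with a cyclic maximal subgroup and a unique involution:
if `r² ≡ 1`, `r ≢ 1`, `s (r - 1) ≡ 0` and `s + i (r + 1) ≢ 0` for all `i` (mod `2^k`), then
`r ≡ -1`. -/
theorem ar_lemma (k : ℕ) (r s : ℤ) (h1 : (2 ^ k : ℤ) ∣ r ^ 2 - 1) (h2 : ¬ (2 ^ k : ℤ) ∣ r - 1)
    (h3 : (2 ^ k : ℤ) ∣ s * (r - 1)) (h4 : ∀ i : ℤ, ¬ (2 ^ k : ℤ) ∣ s + i * (r + 1)) :
    (2 ^ k : ℤ) ∣ r + 1 := by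
  rcases k with _ | k
  · exfalso; apply h2; simp
  -- `r` is odd
  have hrodd : Odd r := by
    rcases Int.even_or_odd r with he | ho
    · exfalso
      obtain ⟨m, hm⟩ := he
      have h2' : (2 : ℤ) ∣ r ^ 2 - 1 := dvd_trans (dvd_pow_self 2 (Nat.succ_ne_zero k)) h1
      obtain ⟨c, hc⟩ := h2'
      have : r ^ 2 = 2 * (2 * m * m) := by rw [hm]; ring
      omega
    · exact ho
  obtain ⟨m, hm⟩ := hrodd
  have hr1 : r - 1 = 2 * m := by rw [hm]; ring
  have hr2 : r + 1 = 2 * (m + 1) := by rw [hm]; ring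
  have hr3 : r ^ 2 - 1 = 4 * (m * (m + 1)) := by rw [hm]; ring
  have h2k : (2 : ℤ) ^ (k + 1) = 2 * 2 ^ k := by rw [pow_succ]; ring
  rcases Int.even_or_odd m with he | ho
  · -- `m` even, `m + 1` odd
    exfalso
    have hodd1 : Odd (m + 1) := he.add_one
    have hcop : IsCoprime (m + 1) ((2 : ℤ) ^ (k + 1)) := by
      apply IsCoprime.pow_right
      obtain ⟨t, ht⟩ := hodd1
      exact ⟨1, -t, by rw [ht]; ring⟩
    have hcop' : IsCoprime (m + 1) ((2 : ℤ) ^ k) := by
      apply IsCoprime.pow_right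
      obtain ⟨t, ht⟩ := hodd1
      exact ⟨1, -t, by rw [ht]; ring⟩
    have h5 : (2 : ℤ) ^ (k + 1) ∣ 4 * m := by
      rw [hr3] at h1
      have : (2 : ℤ) ^ (k + 1) ∣ (4 * m) * (m + 1) := by
        have e : 4 * (m * (m + 1)) = (4 * m) * (m + 1) := by ring
        rwa [e] at h1
      exact hcop.symm.dvd_of_dvd_mul_right this
    -- `r - 1 = 2^k t`
    have h6 : (2 : ℤ) ^ k ∣ r - 1 := by
      rw [hr1]
      have e : 4 * m = 2 * (2 * m) := by ring
      rw [h2k, e] at h5
      exact (mul_dvd_mul_iff_left (by norm_num : (2 : ℤ) ≠ 0)).mp h5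
    obtain ⟨t, ht⟩ := h6
    have htodd : Odd t := by
      rcases Int.even_or_odd t with he' | ho'
      · exfalso
        apply h2
        obtain ⟨t', ht'⟩ := he'
        refine ⟨t', ?_⟩
        rw [ht, ht', h2k]; ring
      · exact ho'
    -- `s` is even
    have hs : (2 : ℤ) ∣ s := by
      rw [ht, h2k] at h3
      have e : s * (2 ^ k * t) = 2 ^ k * (s * t) := by ring
      have e2 : (2 : ℤ) * 2 ^ k = 2 ^ k * 2 := by ring
      rw [e, e2] at h3
      have h7 : (2 : ℤ) ∣ s * t :=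
        (mul_dvd_mul_iff_left (pow_ne_zero k (by norm_num : (2 : ℤ) ≠ 0))).mp h3
      rcases Int.Prime.dvd_mul' Nat.prime_two h7 with h8 | h8
      · exact_mod_cast h8
      · exfalso
        have h9 : (2 : ℤ) ∣ t := by exact_mod_cast h8
        obtain ⟨t', ht'⟩ := htodd
        omega
    obtain ⟨s', hs'⟩ := hs
    obtain ⟨α, β, hαβ⟩ := hcop'
    apply h4 (-(s' * α))
    refine ⟨s' * β, ?_⟩
    rw [hs', hr2, h2k]
    have : 1 - α * (m + 1) = β * 2 ^ k := by linear_combination -hαβ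
    calc 2 * s' + -(s' * α) * (2 * (m + 1)) = 2 * s' * (1 - α * (m + 1)) := by ring
      _ = 2 * s' * (β * 2 ^ k) := by rw [this]
      _ = 2 * 2 ^ k * (s' * β) := by ring
  · -- `m` odd
    have hcop : IsCoprime m ((2 : ℤ) ^ (k + 1)) := by
      apply IsCoprime.pow_right
      obtain ⟨t, ht⟩ := ho
      exact ⟨1, -t, by rw [ht]; ring⟩
    have h5 : (2 : ℤ) ^ (k + 1) ∣ 4 * (m + 1) := by
      rw [hr3] at h1
      have : (2 : ℤ) ^ (k + 1) ∣ (4 * (m + 1)) * m := by
        have e : 4 * (m * (m + 1)) = (4 * (m + 1)) * m := by ring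
        rwa [e] at h1
      exact hcop.symm.dvd_of_dvd_mul_right this
    have h6 : (2 : ℤ) ^ k ∣ r + 1 := by
      rw [hr2]
      have e : 4 * (m + 1) = 2 * (2 * (m + 1)) := by ring
      rw [h2k, e] at h5
      exact (mul_dvd_mul_iff_left (by norm_num : (2 : ℤ) ≠ 0)).mp h5
    obtain ⟨t, ht⟩ := h6
    -- `2^k ∣ s`
    have hs : (2 : ℤ) ^ k ∣ s := by
      rw [hr1, h2k] at h3
      have e : s * (2 * m) = (2 * s) * m := by ring
      rw [e] at h3
      have h7 : (2 : ℤ) * 2 ^ k ∣ 2 * s := by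
        rw [← h2k] at h3 ⊢
        exact hcop.symm.dvd_of_dvd_mul_right h3
      exact (mul_dvd_mul_iff_left (by norm_num : (2 : ℤ) ≠ 0)).mp h7
    obtain ⟨s', hs'⟩ := hs
    rcases Int.even_or_odd t with he' | ho'
    · obtain ⟨t', ht'⟩ := he'
      refine ⟨t', ?_⟩
      rw [ht, ht', h2k]; ring
    · exfalso
      obtain ⟨t', ht'⟩ := ho'
      apply h4 s'
      refine ⟨s' * (t' + 1), ?_⟩
      rw [hs', ht, ht', h2k]; ring

/-- `-1` is not a square modulo `4`. -/
theorem not_four_dvd_sq_add_one (r : ℤ) : ¬ (4 : ℤ) ∣ r ^ 2 + 1 := by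
  rintro ⟨c, hc⟩
  rcases Int.even_or_odd r with ⟨m, hm⟩ | ⟨m, hm⟩
  · have : r ^ 2 = 4 * (m * m) := by rw [hm]; ring
    omega
  · have : r ^ 2 = 4 * (m * m + m) + 1 := by rw [hm]; ring
    omega

/-- In a finite `2`-group a nontrivial element has even order. -/
theorem two_dvd_orderOf_of_ne_one {A : Type*} [Group A] (hA : IsPGroup 2 A) (x : A) (hx : x ≠ 1) :
    2 ∣ orderOf x := by
  obtain ⟨e, he⟩ := IsPGroup.iff_orderOf.mp hA x
  rcases e with _ | e
  · rw [pow_zero] at he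
    exact absurd (orderOf_eq_one_iff.mp he) hx
  · rw [he, pow_succ]; exact dvd_mul_left _ _

/-- the involution of a nontrivial cyclic `2`-subgroup. -/
theorem orderOf_pow_half {A : Type*} [Group A] (g : A) (e : ℕ) (hg : orderOf g = 2 ^ (e + 1)) :
    orderOf (g ^ 2 ^ e) = 2 := by
  rw [orderOf_pow_of_dvd (pow_ne_zero _ (by norm_num))
    (by rw [hg]; exact pow_dvd_pow 2 (Nat.le_succ e)), hg, pow_succ,
    Nat.mul_div_cancel_left _ (pow_pos (by norm_num) e)]

/-- A finite commutative `2`-group with at most one involution is cyclic. -/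
theorem isCyclic_of_comm_of_unique_invol {A : Type*} [Group A] [Finite A] (hA : IsPGroup 2 A)
    (hcomm : ∀ x y : A, x * y = y * x)
    (hU : ∀ x y : A, orderOf x = 2 → orderOf y = 2 → x = y) : IsCyclic A := by
  classical
  let _ : CommGroup A := { ‹Group A› with mul_comm := hcomm }
  obtain ⟨g, hg⟩ := Monoid.exists_orderOf_eq_exponent (G := A) Monoid.ExponentExists.of_finite
  obtain ⟨e, he⟩ := IsPGroup.iff_orderOf.mp hA g
  refine ⟨g, fun x => ?_⟩
  by_contra hx
  -- find `x'` outside `⟨g⟩` with square inside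
  have hex : ∃ j : ℕ, x ^ 2 ^ j ∈ Subgroup.zpowers g := by
    obtain ⟨f, hf⟩ := IsPGroup.iff_orderOf.mp hA x
    refine ⟨f, ?_⟩
    rw [← hf, pow_orderOf_eq_one]
    exact one_mem _
  have hj0 : Nat.find hex ≠ 0 := by
    intro h0
    have := Nat.find_spec hex
    rw [h0, pow_zero, pow_one] at this
    exact hx this
  obtain ⟨j, hj⟩ := Nat.exists_eq_succ_of_ne_zero hj0
  have hx'1 : x ^ 2 ^ j ∉ Subgroup.zpowers g := by
    apply Nat.find_min hex
    rw [hj]; exact Nat.lt_succ_self j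
  have hx'2 : (x ^ 2 ^ j) ^ 2 ∈ Subgroup.zpowers g := by
    have := Nat.find_spec hex
    rw [hj, pow_succ, pow_mul] at this
    exact this
  obtain ⟨x', hx'⟩ : ∃ x', x' = x ^ 2 ^ j := ⟨_, rfl⟩
  rw [← hx'] at hx'1 hx'2
  have hx'ne : x' ≠ 1 := by
    intro h; apply hx'1; rw [h]; exact one_mem _
  have hgfin : IsOfFinOrder g := isOfFinOrder_of_finite g
  rw [← mem_powers_iff_mem_zpowers] at hx'2
  obtain ⟨s, hs⟩ := hx'2
  rcases Nat.even_or_odd s with ⟨t, ht⟩ | hodd
  · -- `s = 2 t`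
    obtain ⟨y, hy⟩ : ∃ y, y = x' * (g ^ t)⁻¹ := ⟨_, rfl⟩
    have hy2 : y ^ 2 = 1 := by
      rw [hy, mul_pow, inv_pow, ← pow_mul, ← hs, ht, ← two_mul, mul_comm t 2, mul_inv_cancel]
    have hynot : y ∉ Subgroup.zpowers g := by
      intro h
      apply hx'1
      have : x' = y * g ^ t := by rw [hy]; group
      rw [this]
      exact mul_mem h (Subgroup.pow_mem _ (Subgroup.mem_zpowers g) t)
    have hy1 : y ≠ 1 := by
      intro h; apply hynot; rw [h]; exact one_mem _
    have hyo : orderOf y = 2 := orderOf_eq_prime hy2 hy1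
    rcases e with _ | e
    · rw [pow_zero] at he
      rw [he] at hg
      have : orderOf y ∣ 1 := by rw [hg]; exact Monoid.order_dvd_exponent y
      rw [hyo] at this
      omega
    · have := hU y (g ^ 2 ^ e) hyo (orderOf_pow_half g e he)
      apply hynot
      rw [this]
      exact Subgroup.pow_mem _ (Subgroup.mem_zpowers g) _
  · -- `s` odd
    have hcop : Nat.Coprime (orderOf g) s := by
      rw [he]
      exact Nat.Coprime.pow_left _ (Nat.coprime_two_left.mpr hodd)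
    have h1 : orderOf (x' ^ 2) = orderOf g := by
      rw [← hs, hcop.orderOf_pow]
    have h2 : orderOf (x' ^ 2) = orderOf x' / 2 := by
      rw [orderOf_pow_of_dvd (by norm_num) (two_dvd_orderOf_of_ne_one hA x' hx'ne)]
    have h3 : orderOf x' = 2 * orderOf g := by
      have := two_dvd_orderOf_of_ne_one hA x' hx'ne
      omega
    have h4 : orderOf x' ∣ orderOf g := by
      rw [hg]; exact Monoid.order_dvd_exponent x'
    have hpos : 0 < orderOf g := orderOf_pos g
    have := Nat.le_of_dvd hpos h4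
    omega

end Cfsg.Agent.Helper53
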