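import Mathlib

set_option autoImplicit false

namespace Cfsg.Agent.Helper53

/-- A nontrivial normal subgroup of a finite `p`-group meets the centre nontrivially. -/
theorem exists_ne_one_mem_center_of_normal' {G : Type*} [Group G] [Finite G] {p : ℕ}
    [Fact p.Prime] (hG : IsPGroup p G) (N : Subgroup G) [N.Normal] (hN : N ≠ ⊥) :
    ∃ z ∈ N, z ≠ 1 ∧ z ∈ Subgroup.center G := by
  have hG' : IsPGroup p (ConjAct G) := hG.of_equiv ConjAct.toConjAct
  have hNp : IsPGroup p N := hG.to_subgroup N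
  have : Nontrivial N := (Subgroup.nontrivial_iff_ne_bot N).mpr hN
  have dvd : p ∣ Nat.card N := by
    obtain ⟨n, hn0, hn⟩ := hNp.nontrivial_iff_card.mp inferInstance
    exact hn.symm ▸ dvd_pow_self _ (ne_of_gt hn0)
  have h1 : (1 : N) ∈ MulAction.fixedPoints (ConjAct G) N := by
    intro g
    exact smul_one g
  obtain ⟨b, hb, hb1⟩ := hG'.exists_fixed_point_of_prime_dvd_card_of_fixed_point N dvd h1
  refine ⟨b, b.2, ?_, ?_⟩
  · intro h
    apply hb1
    ext
    simp [h]
  · rw [Subgroup.mem_center_iff]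
    intro g
    have := hb (ConjAct.toConjAct g)
    have h2 := congrArg Subtype.val this
    rw [ConjAct.Subgroup.val_conj_smul, ConjAct.smul_def] at h2
    simp only [ConjAct.ofConjAct_toConjAct] at h2
    calc g * (b : G) = g * b * g⁻¹ * g := by group
      _ = b * g := by rw [h2]

/-- A finite `p`-group has a normal abelian subgroup containing its own centralizer. -/
theorem exists_normal_abelian_self_centralizing {G : Type*} [Group G] [Finite G] {p : ℕ}
    [Fact p.Prime] (hG : IsPGroup p G) :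
    ∃ A : Subgroup G, A.Normal ∧ (∀ x ∈ A, ∀ y ∈ A, x * y = y * x) ∧
      Subgroup.centralizer (A : Set G) ≤ A := by
  classical
  have h0 : (fun A : Subgroup G => A.Normal ∧ ∀ x ∈ A, ∀ y ∈ A, x * y = y * x) ⊥ := by
    refine ⟨inferInstance, ?_⟩
    intro x hx y hy
    rw [Subgroup.mem_bot] at hx hy
    rw [hx, hy]
  obtain ⟨A, -, hAmax⟩ := Finite.exists_le_maximal
    (p := fun A : Subgroup G => A.Normal ∧ ∀ x ∈ A, ∀ y ∈ A, x * y = y * x) h0
  obtain ⟨hAn, hAc⟩ := hAmax.prop
  refine ⟨A, hAn, hAc, ?_⟩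
  by_contra hnot
  have hCn : (Subgroup.centralizer (A : Set G)).Normal := inferInstance
  -- the image of the centralizer in the quotient
  have hmapn : ((Subgroup.centralizer (A : Set G)).map (QuotientGroup.mk' A)).Normal :=
    hCn.map _ (QuotientGroup.mk'_surjective A)
  have hmapne : (Subgroup.centralizer (A : Set G)).map (QuotientGroup.mk' A) ≠ ⊥ := by
    intro h
    apply hnot
    intro c hc
    have : QuotientGroup.mk' A c ∈ (Subgroup.centralizer (A : Set G)).map (QuotientGroup.mk' A) :=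
      Subgroup.mem_map_of_mem _ hc
    rw [h, Subgroup.mem_bot] at this
    exact (QuotientGroup.eq_one_iff c).mp this
  have hQ : IsPGroup p (G ⧸ A) := hG.to_quotient A
  obtain ⟨zb, hzb, hzb1, hzbc⟩ := exists_ne_one_mem_center_of_normal' hQ _ hmapne
  obtain ⟨x, hxC, hxz⟩ := Subgroup.mem_map.mp hzb
  have hxA : x ∉ A := by
    intro h
    apply hzb1
    rw [← hxz]
    exact (QuotientGroup.eq_one_iff x).mpr h
  -- the bigger subgroup
  have hZn : (Subgroup.zpowers zb).Normal := by
    refine ⟨fun n hn g => ?_⟩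
    obtain ⟨k, rfl⟩ := hn
    have hc : zb ^ k ∈ Subgroup.center (G ⧸ A) := Subgroup.zpow_mem _ hzbc k
    rw [Subgroup.mem_center_iff] at hc
    have : g * zb ^ k * g⁻¹ = zb ^ k := by
      rw [hc g]; group
    rw [this]
    exact ⟨k, rfl⟩
  obtain ⟨B, hB⟩ : ∃ B : Subgroup G, B = (Subgroup.zpowers zb).comap (QuotientGroup.mk' A) :=
    ⟨_, rfl⟩
  have hBn : B.Normal := by rw [hB]; exact hZn.comap _
  have hxcomm : ∀ a ∈ A, Commute x a := by
    intro a ha
    exact (Subgroup.mem_centralizer_iff.mp hxC a ha).symm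
  have hBform : ∀ u ∈ B, ∃ i : ℤ, ∃ a ∈ A, u = x ^ i * a := by
    intro u hu
    rw [hB, Subgroup.mem_comap] at hu
    obtain ⟨i, hi⟩ := hu
    refine ⟨i, (x ^ i)⁻¹ * u, ?_, by group⟩
    have : QuotientGroup.mk' A (x ^ i) = QuotientGroup.mk' A u := by
      rw [map_zpow, hxz]; exact hi
    exact (QuotientGroup.eq).mp this
  have hBc : ∀ u ∈ B, ∀ v ∈ B, u * v = v * u := by
    intro u hu v hv
    obtain ⟨i, a, ha, rfl⟩ := hBform u hu
    obtain ⟨j, b, hb, rfl⟩ := hBform v hv
    have h1 : Commute (x ^ j) a := (hxcomm a ha).zpow_left j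
    have h2 : Commute (x ^ i) b := (hxcomm b hb).zpow_left i
    have h3 : Commute (x ^ i) (x ^ j) := (Commute.refl x).zpow_zpow i j
    have h4 : a * b = b * a := hAc a ha b hb
    calc x ^ i * a * (x ^ j * b) = x ^ i * (a * x ^ j) * b := by group
      _ = x ^ i * (x ^ j * a) * b := by rw [h1.eq]
      _ = (x ^ i * x ^ j) * (a * b) := by group
      _ = (x ^ j * x ^ i) * (b * a) := by rw [h3.eq, h4]
      _ = x ^ j * (x ^ i * b) * a := by group
      _ = x ^ j * (b * x ^ i) * a := by rw [h2.eq]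
      _ = x ^ j * b * (x ^ i * a) := by group
  have hAB : A ≤ B := by
    intro a ha
    rw [hB, Subgroup.mem_comap]
    have : QuotientGroup.mk' A a = 1 := (QuotientGroup.eq_one_iff a).mpr ha
    rw [this]
    exact one_mem _
  have hxB : x ∈ B := by
    rw [hB, Subgroup.mem_comap, hxz]
    exact Subgroup.mem_zpowers zb
  exact hxA (hAmax.le_of_ge ⟨hBn, hBc⟩ hAB hxB)

end Cfsg.Agent.Helper53
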