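import Mathlib
import Cfsg.Agent.Lib.Helper53.UniqueInvol1
import Cfsg.Agent.Lib.Helper53.UniqueInvol2

set_option autoImplicit false

namespace Cfsg.Agent.Helper53

/-- Generalized-quaternion-type structure of order `2 ^ (k + 1)`: a cyclic subgroup `⟨a⟩` of
order `2 ^ k`, `k ≥ 2`, of index two, inverted by `g`, with `g² = a ^ 2 ^ (k - 1)`. -/
structure QuatType {G : Type*} [Group G] (k : ℕ) (a g : G) : Prop where
  two_le : 2 ≤ k
  orderOf_a : orderOf a = 2 ^ k
  g_not_mem : g ∉ Subgroup.zpowers a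
  cover : ∀ h : G, h ∈ Subgroup.zpowers a ∨ ∃ x ∈ Subgroup.zpowers a, h = g * x
  conj : g * a * g⁻¹ = a⁻¹
  sq : g * g = a ^ 2 ^ (k - 1)

/-- A finite non-commutative `2`-group with at most one involution is of generalized quaternion
type. -/
theorem quatType_of_unique_invol {G : Type*} [Group G] [Finite G] (hG : IsPGroup 2 G)
    (hU : ∀ x y : G, orderOf x = 2 → orderOf y = 2 → x = y)
    (hnc : ¬ ∀ x y : G, x * y = y * x) : ∃ (k : ℕ) (a g : G), QuatType k a g := by
  classical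
  obtain ⟨A, hAn, hAc, hCA⟩ := exists_normal_abelian_self_centralizing hG
  have hAp : IsPGroup 2 ↥A := hG.to_subgroup A
  have hAU : ∀ x y : ↥A, orderOf x = 2 → orderOf y = 2 → x = y := by
    intro x y hx hy
    apply Subtype.ext
    apply hU
    · rw [Subgroup.orderOf_coe]; exact hx
    · rw [Subgroup.orderOf_coe]; exact hy
  have hAcyc : IsCyclic ↥A :=
    isCyclic_of_comm_of_unique_invol hAp (fun x y => Subtype.ext (hAc x x.2 y y.2)) hAU
  obtain ⟨a₀, ha₀⟩ := hAcyc.exists_generator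
  obtain ⟨a, haa₀⟩ : ∃ a : G, a = (a₀ : G) := ⟨_, rfl⟩
  have haA : a ∈ A := by rw [haa₀]; exact a₀.2
  have hAz : ∀ y ∈ A, y ∈ Subgroup.zpowers a := by
    intro y hy
    obtain ⟨j, hj⟩ := Subgroup.mem_zpowers_iff.mp (ha₀ ⟨y, hy⟩)
    refine ⟨j, ?_⟩
    have := congrArg Subtype.val hj
    rw [haa₀]
    simpa using this
  obtain ⟨k, hk⟩ := IsPGroup.iff_orderOf.mp hG a
  have hcent : ∀ h : G, h * a = a * h → h ∈ A := by
    intro h hh
    apply hCA
    rw [Subgroup.mem_centralizer_iff]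
    intro y hy
    obtain ⟨j, rfl⟩ := hAz y hy
    exact ((Commute.zpow_right (show Commute h a from hh) j).eq).symm
  have hGA : ∃ g, g ∉ A := by
    by_contra hall
    push Not at hall
    exact hnc (fun x y => hAc x (hall x) y (hall y))
  have hconj : ∀ h : G, ∃ r : ℤ, h * a * h⁻¹ = a ^ r := by
    intro h
    have := hAn.conj_mem a haA h
    obtain ⟨r, hr⟩ := hAz _ this
    exact ⟨r, hr.symm⟩
  have hdvd : ∀ m : ℤ, a ^ m = 1 ↔ (2 ^ k : ℤ) ∣ m := by
    intro m
    rw [← orderOf_dvd_iff_zpow_eq_one, hk]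
    push_cast
    rfl
  -- `k ≥ 2`
  have hk2 : 2 ≤ k := by
    by_contra hlt
    push Not at hlt
    obtain ⟨g, hg⟩ := hGA
    apply hg
    apply hcent
    have hk' : k = 0 ∨ k = 1 := by omega
    rcases hk' with h0 | h1
    · rw [h0, pow_zero, orderOf_eq_one_iff] at hk
      rw [hk, mul_one, one_mul]
    · rw [h1, pow_one] at hk
      have h2 : (g * a * g⁻¹) ^ 2 = 1 := by
        rw [conj_pow, ← hk, pow_orderOf_eq_one]; group
      have h3 : g * a * g⁻¹ ≠ 1 := by
        intro h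
        have : a = 1 := by
          have : a = g⁻¹ * (g * a * g⁻¹) * g := by group
          rw [this, h]; group
        rw [this, orderOf_one] at hk
        omega
      have h4 := hU _ _ (orderOf_eq_prime h2 h3) hk
      calc g * a = (g * a * g⁻¹) * g := by group
        _ = a * g := by rw [h4]
  obtain ⟨k', rfl⟩ : ∃ k', k = k' + 1 := ⟨k - 1, by omega⟩
  have hzo : orderOf (a ^ 2 ^ k') = 2 := orderOf_pow_half a k' hk
  have hinv : ∀ y : G, y * y = 1 → y ∈ A := by
    intro y hy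
    by_cases hy1 : y = 1
    · rw [hy1]; exact one_mem _
    · have : orderOf y = 2 := orderOf_eq_prime (by rw [pow_two]; exact hy) hy1
      rw [hU y _ this hzo]
      exact Subgroup.pow_mem _ haA _
  -- (F2)
  have hF2 : ∀ g : G, g ∉ A → g * g ∈ A → g * a * g⁻¹ = a⁻¹ := by
    intro g hg hgg
    obtain ⟨r, hr⟩ := hconj g
    obtain ⟨s, hs⟩ := hAz _ hgg
    have hs' : a ^ s = g * g := hs
    have hconjpow : ∀ i : ℤ, g * a ^ i * g⁻¹ = a ^ (r * i) := by
      intro i
      rw [← conj_zpow, hr, zpow_mul]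
    have h1 : (2 ^ (k' + 1) : ℤ) ∣ r ^ 2 - 1 := by
      rw [← hdvd]
      have e1 : g * (g * a * g⁻¹) * g⁻¹ = a ^ (r * r) := by rw [hr, hconjpow]
      have e2 : g * (g * a * g⁻¹) * g⁻¹ = a := by
        have hc := hAc (g * g) hgg a haA
        calc g * (g * a * g⁻¹) * g⁻¹ = (g * g * a) * (g * g)⁻¹ := by group
          _ = (a * (g * g)) * (g * g)⁻¹ := by rw [hc]
          _ = a := by group
      have e3 : a ^ (r * r) = a := by rw [← e1, e2]
      have : r ^ 2 - 1 = r * r - 1 := by ring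
      rw [this, zpow_sub, zpow_one, e3, mul_inv_cancel]
    have h2 : ¬ (2 ^ (k' + 1) : ℤ) ∣ r - 1 := by
      intro h
      rw [← hdvd, zpow_sub, zpow_one, mul_inv_eq_one] at h
      apply hg
      apply hcent
      rw [h] at hr
      calc g * a = (g * a * g⁻¹) * g := by group
        _ = a * g := by rw [hr]
    have h3 : (2 ^ (k' + 1) : ℤ) ∣ s * (r - 1) := by
      rw [← hdvd]
      have e1 : g * (g * g) * g⁻¹ = a ^ (r * s) := by rw [← hs', hconjpow]
      have e2 : g * (g * g) * g⁻¹ = g * g := by group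
      have e3 : a ^ (r * s) = a ^ s := by rw [← e1, e2, hs']
      have : s * (r - 1) = r * s - s := by ring
      rw [this, zpow_sub, e3, mul_inv_cancel]
    have h4 : ∀ i : ℤ, ¬ (2 ^ (k' + 1) : ℤ) ∣ s + i * (r + 1) := by
      intro i h
      rw [← hdvd] at h
      apply hg
      have e1 : (g * a ^ i) * (g * a ^ i) = a ^ (s + i * (r + 1)) := by
        calc (g * a ^ i) * (g * a ^ i) = (g * a ^ i * g⁻¹) * (g * g) * a ^ i := by group
          _ = a ^ (r * i) * a ^ s * a ^ i := by rw [hconjpow, hs']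
          _ = a ^ (s + i * (r + 1)) := by
            rw [← zpow_add, ← zpow_add]
            congr 1
            ring
      have e2 : g * a ^ i ∈ A := hinv _ (by rw [e1, h])
      have : g = (g * a ^ i) * (a ^ i)⁻¹ := by group
      rw [this]
      exact mul_mem e2 (inv_mem (Subgroup.zpow_mem _ haA i))
    have h5 := ar_lemma (k' + 1) r s h1 h2 h3 h4
    rw [← hdvd, zpow_add, zpow_one] at h5
    rw [hr]
    exact eq_inv_of_mul_eq_one_left h5
  -- (F3)
  have hF3 : ∀ h : G, h * h ∈ A := by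
    intro h
    by_contra hh
    have hex : ∃ j : ℕ, h ^ 2 ^ j ∈ A := by
      obtain ⟨f, hf⟩ := IsPGroup.iff_orderOf.mp hG h
      refine ⟨f, ?_⟩
      rw [← hf, pow_orderOf_eq_one]
      exact one_mem _
    have hj0 : Nat.find hex ≠ 0 := by
      intro h0
      have := Nat.find_spec hex
      rw [h0, pow_zero, pow_one] at this
      exact hh (mul_mem this this)
    have hj1 : Nat.find hex ≠ 1 := by
      intro h0
      have := Nat.find_spec hex
      rw [h0, pow_one, pow_two] at this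
      exact hh this
    obtain ⟨j, hj⟩ : ∃ j, Nat.find hex = j + 2 := ⟨Nat.find hex - 2, by omega⟩
    obtain ⟨h', hh'⟩ : ∃ h', h' = h ^ 2 ^ j := ⟨_, rfl⟩
    have e1 : h' * h' ∉ A := by
      have : h' * h' = h ^ 2 ^ (j + 1) := by
        rw [hh', ← pow_two, ← pow_mul, ← pow_succ]
      rw [this]
      apply Nat.find_min hex
      rw [hj]; omega
    have e2 : (h' * h') * (h' * h') ∈ A := by
      have : (h' * h') * (h' * h') = h ^ 2 ^ (j + 2) := by
        rw [hh', ← pow_two, ← pow_two, ← pow_mul, ← pow_mul, pow_succ, pow_succ]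
        congr 1
        ring
      rw [this, ← hj]
      exact Nat.find_spec hex
    have e3 := hF2 (h' * h') e1 e2
    obtain ⟨r, hr⟩ := hconj h'
    have e4 : (h' * h') * a * (h' * h')⁻¹ = a ^ (r * r) := by
      calc (h' * h') * a * (h' * h')⁻¹ = h' * (h' * a * h'⁻¹) * h'⁻¹ := by group
        _ = h' * a ^ r * h'⁻¹ := by rw [hr]
        _ = (h' * a * h'⁻¹) ^ r := by rw [conj_zpow]
        _ = a ^ (r * r) := by rw [hr, zpow_mul]
    have e5 : (2 ^ (k' + 1) : ℤ) ∣ r * r + 1 := by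
      rw [← hdvd, zpow_add, zpow_one, ← e4, e3, inv_mul_cancel]
    apply not_four_dvd_sq_add_one r
    have e6 : (4 : ℤ) ∣ 2 ^ (k' + 1) := by
      obtain ⟨k'', rfl⟩ : ∃ k'', k' = k'' + 1 := ⟨k' - 1, by omega⟩
      refine ⟨2 ^ k'', ?_⟩
      rw [pow_succ, pow_succ]; ring
    have : r ^ 2 + 1 = r * r + 1 := by ring
    rw [this]
    exact dvd_trans e6 e5
  -- conclusion
  obtain ⟨g, hg⟩ := hGA
  have hga := hF2 g hg (hF3 g)
  refine ⟨k' + 1, a, g, hk2, hk, fun h => hg (Subgroup.zpowers_le.mpr haA h), ?_, hga, ?_⟩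
  · intro h
    by_cases hh : h ∈ A
    · left; exact hAz h hh
    · right
      refine ⟨g⁻¹ * h, ?_, by group⟩
      apply hAz
      apply hcent
      have hha := hF2 h hh (hF3 h)
      have e1 : g⁻¹ * a⁻¹ * g = a := by
        calc g⁻¹ * a⁻¹ * g = g⁻¹ * (g * a * g⁻¹) * g := by rw [hga]
          _ = a := by group
      calc g⁻¹ * h * a = g⁻¹ * (h * a * h⁻¹) * h := by group
        _ = g⁻¹ * a⁻¹ * h := by rw [hha]
        _ = (g⁻¹ * a⁻¹ * g) * (g⁻¹ * h) := by group
        _ = a * (g⁻¹ * h) := by rw [e1]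
  · obtain ⟨s, hs⟩ := hAz _ (hF3 g)
    have hs' : a ^ s = g * g := hs
    have e1 : g * (g * g) * g⁻¹ = (g * g)⁻¹ := by
      rw [← hs', ← conj_zpow, hga, inv_zpow]
    have e2 : g * (g * g) * g⁻¹ = g * g := by group
    have e3 : (g * g) * (g * g) = 1 := by
      have : (g * g)⁻¹ = g * g := by rw [← e1, e2]
      calc (g * g) * (g * g) = (g * g)⁻¹ * (g * g) := by rw [this]
        _ = 1 := by group
    have e4 : g * g ≠ 1 := fun h => hg (hinv g h)
    have e5 : orderOf (g * g) = 2 := orderOf_eq_prime (by rw [pow_two]; exact e3) e4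
    rw [Nat.add_sub_cancel]
    exact hU _ _ e5 hzo

end Cfsg.Agent.Helper53
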