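import Mathlib
import Cfsg.Agent.Lib.Helper53.UniqueInvol3

set_option autoImplicit false
set_option linter.unusedSectionVars false

namespace Cfsg.Agent.Helper53

/-- `g ^ i` for `i : ZMod N` (meaningful when `g ^ N = 1`). -/
noncomputable def zmp {G : Type*} [Group G] (N : ℕ) (g : G) (i : ZMod N) : G := g ^ (i.cast : ℤ)

section zmp
variable {G : Type*} [Group G] {N : ℕ} [NeZero N] {g : G}

theorem zmp_zpow_eq_of_modEq (hg : g ^ N = 1) {k l : ℤ} (h : k ≡ l [ZMOD N]) : g ^ k = g ^ l := by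
  rw [zpow_eq_zpow_iff_modEq]
  exact h.of_dvd (Int.natCast_dvd_natCast.mpr (orderOf_dvd_of_pow_eq_one hg))

theorem zmp_intCast (hg : g ^ N = 1) (k : ℤ) : zmp N g (k : ZMod N) = g ^ k := by
  unfold zmp
  apply zmp_zpow_eq_of_modEq hg
  rw [← ZMod.intCast_eq_intCast_iff]
  simp

theorem zmp_natCast (hg : g ^ N = 1) (k : ℕ) : zmp N g (k : ZMod N) = g ^ k := by
  have := zmp_intCast hg (k : ℤ)
  simpa using this

theorem zmp_zero : zmp N g 0 = 1 := by
  unfold zmp
  simp

theorem zmp_add (hg : g ^ N = 1) (a b : ZMod N) : zmp N g (a + b) = zmp N g a * zmp N g b := by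
  unfold zmp
  rw [← zpow_add]
  apply zmp_zpow_eq_of_modEq hg
  rw [← ZMod.intCast_eq_intCast_iff]
  simp

theorem zmp_neg (hg : g ^ N = 1) (a : ZMod N) : zmp N g (-a) = (zmp N g a)⁻¹ := by
  rw [eq_inv_iff_mul_eq_one, ← zmp_add hg]
  simp [zmp_zero]

theorem zmp_sub (hg : g ^ N = 1) (a b : ZMod N) :
    zmp N g (a - b) = zmp N g a * (zmp N g b)⁻¹ := by
  rw [sub_eq_add_neg, zmp_add hg, zmp_neg hg]

theorem exists_zmp_of_mem_zpowers (hg : g ^ N = 1) {h : G} (hh : h ∈ Subgroup.zpowers g) :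
    ∃ a : ZMod N, h = zmp N g a := by
  obtain ⟨k, rfl⟩ := hh
  exact ⟨(k : ZMod N), (zmp_intCast hg k).symm⟩

theorem zmp_eq_one_iff (ho : orderOf g = N) (a : ZMod N) : zmp N g a = 1 ↔ a = 0 := by
  constructor
  · intro h
    unfold zmp at h
    have h2 := (orderOf_dvd_iff_zpow_eq_one).mpr h
    rw [ho] at h2
    have := (ZMod.intCast_zmod_eq_zero_iff_dvd (a.cast : ℤ) N).mpr h2
    simpa using this
  · rintro rfl
    exact zmp_zero

theorem zmp_comm (a b : ZMod N) : zmp N g a * zmp N g b = zmp N g b * zmp N g a := by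
  unfold zmp
  exact ((Commute.refl g).zpow_zpow _ _).eq

theorem zmp_mem (a : ZMod N) : zmp N g a ∈ Subgroup.zpowers g := ⟨_, rfl⟩

end zmp

/-- the map from the quaternion group attached to a pair `a, g`. -/
noncomputable def quatMap {G : Type*} [Group G] (n : ℕ) (a g : G) : QuaternionGroup n → G
  | QuaternionGroup.a i => zmp (2 * n) a i
  | QuaternionGroup.xa i => g * zmp (2 * n) a i

/-- A group of generalized quaternion type is isomorphic to Mathlib's `QuaternionGroup`. -/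
theorem QuatType.nonempty_mulEquiv {G : Type*} [Group G] {k : ℕ} {a g : G} (h : QuatType k a g) :
    Nonempty (G ≃* QuaternionGroup (2 ^ (k - 1))) := by
  obtain ⟨k', rfl⟩ : ∃ k', k = k' + 1 := ⟨k - 1, by have := h.two_le; omega⟩
  rw [Nat.add_sub_cancel]
  have h2n : 2 * 2 ^ k' = 2 ^ (k' + 1) := by rw [pow_succ]; ring
  have hne : NeZero (2 * 2 ^ k') := ⟨by positivity⟩
  have hord : orderOf a = 2 * 2 ^ k' := by rw [h.orderOf_a, h2n]
  have hpow : a ^ (2 * 2 ^ k') = 1 := by rw [← hord]; exact pow_orderOf_eq_one a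
  have hsq : g * g = a ^ 2 ^ k' := by
    have := h.sq
    rwa [Nat.add_sub_cancel] at this
  -- `g` inverts the powers of `a`
  have hinv : ∀ i : ZMod (2 * 2 ^ k'),
      zmp (2 * 2 ^ k') a i * g = g * (zmp (2 * 2 ^ k') a i)⁻¹ := by
    intro i
    unfold zmp
    have h1 : g⁻¹ * a * g = a⁻¹ := by
      have := h.conj
      have e : g⁻¹ * a⁻¹ * g = a := by
        calc g⁻¹ * a⁻¹ * g = g⁻¹ * (g * a * g⁻¹) * g := by rw [this]
          _ = a := by group
      calc g⁻¹ * a * g = (g⁻¹ * a⁻¹ * g)⁻¹ := by group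
        _ = a⁻¹ := by rw [e]
    have h2 : g⁻¹ * a ^ (i.cast : ℤ) * g = (a ^ (i.cast : ℤ))⁻¹ := by
      have := conj_zpow (a := g⁻¹) (b := a) (i := (i.cast : ℤ))
      rw [inv_inv] at this
      rw [← this, h1, inv_zpow]
    calc a ^ (i.cast : ℤ) * g = g * (g⁻¹ * a ^ (i.cast : ℤ) * g) := by group
      _ = g * (a ^ (i.cast : ℤ))⁻¹ := by rw [h2]
  have hmul : ∀ x y : QuaternionGroup (2 ^ k'),
      quatMap (2 ^ k') a g (x * y) = quatMap (2 ^ k') a g x * quatMap (2 ^ k') a g y := by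
    rintro (i | i) (j | j)
    · simp only [QuaternionGroup.a_mul_a, quatMap]
      exact zmp_add hpow i j
    · simp only [QuaternionGroup.a_mul_xa, quatMap]
      rw [zmp_sub hpow, ← mul_assoc (zmp (2 * 2 ^ k') a i), hinv i, ← zmp_neg hpow, mul_assoc,
        zmp_comm j]
    · simp only [QuaternionGroup.xa_mul_a, quatMap]
      rw [zmp_add hpow, mul_assoc]
    · simp only [QuaternionGroup.xa_mul_xa, quatMap]
      rw [zmp_sub hpow, zmp_add hpow, zmp_natCast hpow, ← hsq]
      calc g * g * zmp (2 * 2 ^ k') a j * (zmp (2 * 2 ^ k') a i)⁻¹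
          = g * (g * (zmp (2 * 2 ^ k') a i)⁻¹) * zmp (2 * 2 ^ k') a j := by
            have h3 : zmp (2 * 2 ^ k') a j * (zmp (2 * 2 ^ k') a i)⁻¹ =
                (zmp (2 * 2 ^ k') a i)⁻¹ * zmp (2 * 2 ^ k') a j := by
              rw [← zmp_neg hpow, zmp_comm]
            rw [mul_assoc (g * g), h3]; group
        _ = g * (zmp (2 * 2 ^ k') a i * g) * zmp (2 * 2 ^ k') a j := by rw [hinv i]
        _ = g * zmp (2 * 2 ^ k') a i * (g * zmp (2 * 2 ^ k') a j) := by group
  let ψ : QuaternionGroup (2 ^ k') →* G := MonoidHom.mk' (quatMap (2 ^ k') a g) hmul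
  have hinj : Function.Injective ψ := by
    rw [injective_iff_map_eq_one]
    rintro (i | i) hi
    · have : zmp (2 * 2 ^ k') a i = 1 := hi
      rw [zmp_eq_one_iff hord] at this
      rw [this]; rfl
    · exfalso
      have : g * zmp (2 * 2 ^ k') a i = 1 := hi
      apply h.g_not_mem
      have e : g = (zmp (2 * 2 ^ k') a i)⁻¹ := eq_inv_of_mul_eq_one_left this
      rw [e]
      exact inv_mem (zmp_mem i)
  have hsurj : Function.Surjective ψ := by
    intro x
    rcases h.cover x with hx | ⟨y, hy, rfl⟩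
    · obtain ⟨i, rfl⟩ := exists_zmp_of_mem_zpowers hpow hx
      exact ⟨QuaternionGroup.a i, rfl⟩
    · obtain ⟨i, rfl⟩ := exists_zmp_of_mem_zpowers hpow hy
      exact ⟨QuaternionGroup.xa i, rfl⟩
  exact ⟨(MulEquiv.ofBijective ψ ⟨hinj, hsurj⟩).symm⟩

/-- A finite `2`-group with at most one involution is cyclic or generalized quaternion. -/
theorem isCyclic_or_quaternion_of_unique_invol {G : Type*} [Group G] [Finite G]
    (hG : IsPGroup 2 G) (hU : ∀ x y : G, orderOf x = 2 → orderOf y = 2 → x = y) :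
    IsCyclic G ∨ ∃ n : ℕ, 1 ≤ n ∧ Nonempty (G ≃* QuaternionGroup (2 ^ n)) := by
  by_cases hc : ∀ x y : G, x * y = y * x
  · left
    exact isCyclic_of_comm_of_unique_invol hG hc hU
  · right
    obtain ⟨k, a, g, h⟩ := quatType_of_unique_invol hG hU hc
    exact ⟨k - 1, by have := h.two_le; omega, h.nonempty_mulEquiv⟩

end Cfsg.Agent.Helper53
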