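import Mathlib

set_option autoImplicit false

namespace Cfsg.Agent.Helper53

open Subgroup

/-- A `p`-subgroup `C` normalizing a nontrivial `p`-subgroup `I` centralizes a nontrivial
element of `I`. -/
theorem exists_fixed_of_normalizes {X : Type*} [Group X] [Finite X] {p : ℕ} [Fact p.Prime]
    (I C : Subgroup X) (hI : IsPGroup p ↥I) (hC : IsPGroup p ↥C)
    (hnorm : C ≤ normalizer (I : Set X)) (hne : I ≠ ⊥) :
    ∃ u ∈ I, u ≠ 1 ∧ ∀ c ∈ C, c * u = u * c := by
  let act : MulAction ↥C ↥I :=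
    { smul := fun c u => ⟨c * u * c⁻¹, (mem_normalizer_iff.mp (hnorm c.2) u).1 u.2⟩
      one_smul := fun u => by
        apply Subtype.ext
        change (1 : X) * u * (1 : X)⁻¹ = u
        simp
      mul_smul := fun c d u => by
        apply Subtype.ext
        change ((c : X) * d) * u * ((c : X) * d)⁻¹ = c * (d * u * (d : X)⁻¹) * (c : X)⁻¹
        group }
  have hsmul : ∀ (c : ↥C) (u : ↥I), ((c • u : ↥I) : X) = c * u * (c : X)⁻¹ := fun _ _ => rfl
  have hdvd : p ∣ Nat.card ↥I := by
    have hnt : Nontrivial ↥I := (Subgroup.nontrivial_iff_ne_bot I).mpr hne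
    obtain ⟨n, hn0, hn⟩ := hI.nontrivial_iff_card.mp hnt
    exact hn.symm ▸ dvd_pow_self _ (ne_of_gt hn0)
  have h1 : (1 : ↥I) ∈ MulAction.fixedPoints ↥C ↥I := by
    intro c
    apply Subtype.ext
    rw [hsmul]
    simp
  obtain ⟨b, hb, hb1⟩ := hC.exists_fixed_point_of_prime_dvd_card_of_fixed_point (α := ↥I) hdvd h1
  refine ⟨b, b.2, ?_, ?_⟩
  · intro h
    apply hb1
    apply Subtype.ext
    exact h.symm
  · intro c hc
    have := hb ⟨c, hc⟩
    have h2 : (c : X) * b * c⁻¹ = b := by
      have := congrArg (Subtype.val) this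
      rwa [hsmul] at this
    calc c * b = (c * b * c⁻¹) * c := by group
      _ = b * c := by rw [h2]

end Cfsg.Agent.Helper53
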