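import Mathlib

set_option autoImplicit false

namespace Cfsg.Agent.Helper53

open scoped commutatorElement

/-- In a finite `p`-group the commutator subgroup lies in every maximal subgroup. -/
theorem commutator_le_of_isCoatom {G : Type*} [Group G] [Finite G] {p : ℕ} [Fact p.Prime]
    (hG : IsPGroup p G) (M : Subgroup G) (hM : IsCoatom M) : commutator G ≤ M := by
  have hnil : Group.IsNilpotent G := hG.isNilpotent
  have hMn : M.Normal :=
    Subgroup.NormalizerCondition.normal_of_coatom M Group.normalizerCondition_of_isNilpotent hM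
  have hQ : IsPGroup p (G ⧸ M) := hG.to_quotient M
  have hnt : Nontrivial (G ⧸ M) := QuotientGroup.nontrivial_iff.mpr hM.1
  have hZ : Subgroup.center (G ⧸ M) ≠ ⊥ := (hQ.bot_lt_center).ne'
  obtain ⟨Z', hZ'⟩ : ∃ Z' : Subgroup G,
      Z' = (Subgroup.center (G ⧸ M)).comap (QuotientGroup.mk' M) := ⟨_, rfl⟩
  have hMZ : M ≤ Z' := by
    intro m hm
    have h1 : QuotientGroup.mk' M m = 1 := (QuotientGroup.eq_one_iff m).mpr hm
    rw [hZ', Subgroup.mem_comap, h1]
    exact one_mem _
  have hne : M ≠ Z' := by
    intro h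
    apply hZ
    rw [eq_bot_iff]
    intro q hq
    obtain ⟨x, rfl⟩ := QuotientGroup.mk'_surjective M q
    have hx : x ∈ Z' := by rw [hZ', Subgroup.mem_comap]; exact hq
    rw [← h] at hx
    rw [Subgroup.mem_bot]
    exact (QuotientGroup.eq_one_iff x).mpr hx
  have htop : Z' = ⊤ := hM.2 Z' (lt_of_le_of_ne hMZ hne)
  rw [commutator_def, Subgroup.commutator_le]
  intro x _ y _
  have hx : QuotientGroup.mk' M x ∈ Subgroup.center (G ⧸ M) := by
    have : x ∈ Z' := by rw [htop]; exact Subgroup.mem_top x
    rwa [hZ', Subgroup.mem_comap] at this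
  rw [← QuotientGroup.eq_one_iff, commutatorElement_def]
  change QuotientGroup.mk' M (x * y * x⁻¹ * y⁻¹) = 1
  rw [map_mul, map_mul, map_mul, map_inv, map_inv,
    ← (Subgroup.mem_center_iff.mp hx) (QuotientGroup.mk' M y)]
  group

/-- A finite `p`-group with cyclic abelianization is cyclic. -/
theorem isCyclic_of_isCyclic_abelianization {G : Type*} [Group G] [Finite G] {p : ℕ}
    [Fact p.Prime] (hG : IsPGroup p G) (h : IsCyclic (Abelianization G)) : IsCyclic G := by
  obtain ⟨gb, hgb⟩ := h.exists_generator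
  obtain ⟨g, rfl⟩ := QuotientGroup.mk'_surjective (commutator G) gb
  have hsup : Subgroup.zpowers g ⊔ commutator G = ⊤ := by
    rw [eq_top_iff]
    intro x _
    obtain ⟨i, hi⟩ := Subgroup.mem_zpowers_iff.mp (hgb (QuotientGroup.mk' (commutator G) x))
    have h1 : (g ^ i)⁻¹ * x ∈ commutator G := by
      rw [← QuotientGroup.eq_one_iff]
      change QuotientGroup.mk' (commutator G) ((g ^ i)⁻¹ * x) = 1
      have hi' : (QuotientGroup.mk' (commutator G) g) ^ i =
          QuotientGroup.mk' (commutator G) x := hi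
      rw [map_mul, map_inv, map_zpow, hi', inv_mul_cancel]
    have : x = g ^ i * ((g ^ i)⁻¹ * x) := by group
    rw [this]
    exact Subgroup.mul_mem_sup (Subgroup.zpow_mem _ (Subgroup.mem_zpowers g) i) h1
  have hle : commutator G ≤ frattini G := by
    unfold frattini Order.radical
    exact le_iInf₂ fun M hM => commutator_le_of_isCoatom hG M hM
  have h2 : Subgroup.zpowers g ⊔ frattini G = ⊤ := by
    rw [eq_top_iff, ← hsup]
    exact sup_le_sup_left hle _
  have h3 : Subgroup.zpowers g = ⊤ := frattini_nongenerating h2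
  refine ⟨g, fun x => ?_⟩
  have : x ∈ Subgroup.zpowers g := by rw [h3]; exact Subgroup.mem_top x
  exact this

end Cfsg.Agent.Helper53
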