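import Mathlib

set_option autoImplicit false

namespace Cfsg.Agent.Helper53

open Matrix

section SL2

variable {F : Type*} [Field F]

/-- the element `-1` of `SL₂(F)`. -/
def negOneSL2 (F : Type*) [Field F] : Matrix.SpecialLinearGroup (Fin 2) F :=
  ⟨!![-1, 0; 0, -1], by simp [Matrix.det_fin_two]⟩

/-- the element `[[0,-1],[1,0]]` of `SL₂(F)`. -/
def wSL2 (F : Type*) [Field F] : Matrix.SpecialLinearGroup (Fin 2) F :=
  ⟨!![0, -1; 1, 0], by simp [Matrix.det_fin_two]⟩

theorem sl2_ext (A B : Matrix.SpecialLinearGroup (Fin 2) F)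
    (h00 : A.1 0 0 = B.1 0 0) (h01 : A.1 0 1 = B.1 0 1) (h10 : A.1 1 0 = B.1 1 0)
    (h11 : A.1 1 1 = B.1 1 1) : A = B := by
  apply Subtype.ext
  ext i j
  fin_cases i <;> fin_cases j <;> assumption

theorem sl2_det (A : Matrix.SpecialLinearGroup (Fin 2) F) :
    A.1 0 0 * A.1 1 1 - A.1 0 1 * A.1 1 0 = 1 := by
  have := A.2
  rwa [Matrix.det_fin_two] at this

theorem sl2_mul_apply (A B : Matrix.SpecialLinearGroup (Fin 2) F) (i j : Fin 2) :
    (A * B).1 i j = A.1 i 0 * B.1 0 j + A.1 i 1 * B.1 1 j := by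
  change (A.1 * B.1) i j = _
  rw [Matrix.mul_apply, Fin.sum_univ_two]

theorem negOneSL2_ne_one (h2 : (2 : F) ≠ 0) : negOneSL2 F ≠ 1 := by
  intro h
  have := congrArg (fun M : Matrix.SpecialLinearGroup (Fin 2) F => M.1 0 0) h
  simp [negOneSL2] at this
  apply h2
  linear_combination -this

theorem negOneSL2_mul_self : negOneSL2 F * negOneSL2 F = 1 := by
  apply sl2_ext <;> rw [sl2_mul_apply] <;> simp [negOneSL2]

/-- involutions of `SL₂(F)` in characteristic `≠ 2`. -/
theorem sl2_invol (h2 : (2 : F) ≠ 0) (A : Matrix.SpecialLinearGroup (Fin 2) F) (hA : A * A = 1) :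
    A = 1 ∨ A = negOneSL2 F := by
  have hdet := sl2_det A
  have e00 := congrArg (fun M : Matrix.SpecialLinearGroup (Fin 2) F => M.1 0 0) hA
  have e01 := congrArg (fun M : Matrix.SpecialLinearGroup (Fin 2) F => M.1 0 1) hA
  have e10 := congrArg (fun M : Matrix.SpecialLinearGroup (Fin 2) F => M.1 1 0) hA
  have e11 := congrArg (fun M : Matrix.SpecialLinearGroup (Fin 2) F => M.1 1 1) hA
  simp only [sl2_mul_apply] at e00 e01 e10 e11
  simp at e00 e01 e10 e11
  set a := A.1 0 0
  set b := A.1 0 1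
  set c := A.1 1 0
  set d := A.1 1 1
  have hsum : (a + d) ^ 2 = 4 := by linear_combination e00 + e11 + 2 * hdet
  have hne : a + d ≠ 0 := by
    intro h0
    rw [h0] at hsum
    have : (4 : F) = 2 * 2 := by norm_num
    have h4 : (4 : F) ≠ 0 := by rw [this]; exact mul_ne_zero h2 h2
    apply h4
    rw [← hsum]; ring
  have hb : b = 0 := by
    have : b * (a + d) = 0 := by linear_combination e01
    rcases mul_eq_zero.mp this with h | h
    · exact h
    · exact absurd h hne
  have hc : c = 0 := by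
    have : c * (a + d) = 0 := by linear_combination e10
    rcases mul_eq_zero.mp this with h | h
    · exact h
    · exact absurd h hne
  have ha2 : (a - 1) * (a + 1) = 0 := by
    have : a * a = 1 := by rw [hb] at e00; linear_combination e00
    linear_combination this
  have had : a * d = 1 := by rw [hb] at hdet; linear_combination hdet
  rcases mul_eq_zero.mp ha2 with h | h
  · left
    have ha : a = 1 := by linear_combination h
    have hd : d = 1 := by rw [ha] at had; linear_combination had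
    apply sl2_ext <;> simp <;> assumption
  · right
    have ha : a = -1 := by linear_combination h
    have hd : d = -1 := by rw [ha] at had; linear_combination -had
    apply sl2_ext <;> simp [negOneSL2] <;> assumption

theorem wSL2_mul_self : wSL2 F * wSL2 F = negOneSL2 F := by
  apply sl2_ext <;> rw [sl2_mul_apply] <;> simp [negOneSL2, wSL2]

/-- an element of order 4 exists in `SL₂(F)` (any field): `w² = -1`. -/
theorem sl2_ex4 : ∃ U : Matrix.SpecialLinearGroup (Fin 2) F, U * U = negOneSL2 F :=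
  ⟨wSL2 F, wSL2_mul_self⟩

/-- If `U² = -1` in `SL₂(F)` then `U` has trace zero (char ≠ 2). -/
theorem sl2_trace_zero (U : Matrix.SpecialLinearGroup (Fin 2) F)
    (hU : U * U = negOneSL2 F) : U.1 1 1 = - U.1 0 0 := by
  have hdet := sl2_det U
  have e00 := congrArg (fun M : Matrix.SpecialLinearGroup (Fin 2) F => M.1 0 0) hU
  have e01 := congrArg (fun M : Matrix.SpecialLinearGroup (Fin 2) F => M.1 0 1) hU
  have e10 := congrArg (fun M : Matrix.SpecialLinearGroup (Fin 2) F => M.1 1 0) hU
  have e11 := congrArg (fun M : Matrix.SpecialLinearGroup (Fin 2) F => M.1 1 1) hU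
  simp only [sl2_mul_apply] at e00 e01 e10 e11
  simp [negOneSL2] at e00 e01 e10 e11
  set a := U.1 0 0
  set b := U.1 0 1
  set c := U.1 1 0
  set d := U.1 1 1
  -- (a+d) * a = 0 ... use: (a + d)^2 = a^2 + 2ad + d^2 = (-1 - bc) + 2(1 + bc) + (-1 - bc) = 0
  have hsum : (a + d) ^ 2 = 0 := by linear_combination e00 + e11 + 2 * hdet
  have : a + d = 0 := by
    exact pow_eq_zero_iff (two_ne_zero) |>.mp hsum
  linear_combination this

/-- representation of `1` by the binary quadratic form attached to `U`. -/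
theorem exists_quad_eq_one [Fintype F] (hodd : Fintype.card F % 2 = 1) (h2 : (2 : F) ≠ 0)
    (p q r : F) (hdet : -p ^ 2 - q * r = 1) :
    ∃ v₁ v₂ : F, r * v₁ ^ 2 - 2 * p * v₁ * v₂ - q * v₂ ^ 2 = 1 := by
  by_cases hr : r = 0
  · have hp2 : p ^ 2 = -1 := by rw [hr] at hdet; linear_combination -hdet
    have hp : p ≠ 0 := by
      intro h; rw [h] at hp2; simp at hp2
    refine ⟨-(q + 1) / (2 * p), 1, ?_⟩
    rw [hr]
    field_simp
    ring
  · have hf2 : (Polynomial.C r * Polynomial.X ^ 2 : Polynomial F).degree = 2 :=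
      Polynomial.degree_C_mul_X_pow 2 hr
    have hri : r⁻¹ ≠ 0 := inv_ne_zero hr
    have hg2 : (Polynomial.C r⁻¹ * Polynomial.X ^ 2 - Polynomial.C 1 : Polynomial F).degree = 2 := by
      rw [Polynomial.degree_sub_eq_left_of_degree_lt]
      · exact Polynomial.degree_C_mul_X_pow 2 hri
      · rw [Polynomial.degree_C_mul_X_pow 2 hri]
        exact lt_of_le_of_lt Polynomial.degree_C_le (by norm_num)
    obtain ⟨X, Y, hXY⟩ := FiniteField.exists_root_sum_quadratic hf2 hg2 hodd
    simp only [Polynomial.eval_mul, Polynomial.eval_C, Polynomial.eval_pow, Polynomial.eval_X,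
      Polynomial.eval_sub] at hXY
    obtain ⟨t, ht⟩ : ∃ t, p = t * r := ⟨p / r, by field_simp⟩
    refine ⟨X + t * Y, Y, ?_⟩
    have hqr : q * r = -p ^ 2 - 1 := by linear_combination -hdet
    have hq : q = -t ^ 2 * r - r⁻¹ := by
      have : q * r = (-t ^ 2 * r - r⁻¹) * r := by
        rw [hqr, ht]
        field_simp
      exact mul_right_cancel₀ hr this
    rw [ht, hq]
    linear_combination hXY

/-- every `U` with `U² = -1` is conjugate in `SL₂(F)` to `w`. -/
theorem sl2_conj_w [Fintype F] (hodd : Fintype.card F % 2 = 1) (h2 : (2 : F) ≠ 0)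
    (U : Matrix.SpecialLinearGroup (Fin 2) F) (hU : U * U = negOneSL2 F) :
    ∃ g : Matrix.SpecialLinearGroup (Fin 2) F, g * wSL2 F * g⁻¹ = U := by
  have hdet := sl2_det U
  have htr := sl2_trace_zero U hU
  set p := U.1 0 0 with hp
  set q := U.1 0 1 with hq
  set r := U.1 1 0 with hr
  rw [htr] at hdet
  have hdet' : -p ^ 2 - q * r = 1 := by linear_combination hdet
  obtain ⟨v₁, v₂, hv⟩ := exists_quad_eq_one hodd h2 p q r hdet'
  let g : Matrix.SpecialLinearGroup (Fin 2) F :=
    ⟨!![v₁, p * v₁ + q * v₂; v₂, r * v₁ - p * v₂], by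
      rw [Matrix.det_fin_two]
      simp
      linear_combination hv⟩
  refine ⟨g, ?_⟩
  rw [mul_inv_eq_iff_eq_mul]
  have hpq : p ^ 2 + q * r = -1 := by linear_combination -hdet'
  apply sl2_ext
  · rw [sl2_mul_apply, sl2_mul_apply]
    simp [g, wSL2, ← hp, ← hq]
  · rw [sl2_mul_apply, sl2_mul_apply]
    simp [g, wSL2, ← hp, ← hq]
    linear_combination -v₁ * hpq
  · rw [sl2_mul_apply, sl2_mul_apply]
    simp [g, wSL2, ← hr, htr]
    ring
  · rw [sl2_mul_apply, sl2_mul_apply]
    simp [g, wSL2, ← hr, htr]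
    linear_combination -v₂ * hpq

/-- any two elements with square `-1` are conjugate in `SL₂(F)`. -/
theorem sl2_conj4 [Fintype F] (hodd : Fintype.card F % 2 = 1) (h2 : (2 : F) ≠ 0)
    (U V : Matrix.SpecialLinearGroup (Fin 2) F) (hU : U * U = negOneSL2 F)
    (hV : V * V = negOneSL2 F) :
    ∃ g : Matrix.SpecialLinearGroup (Fin 2) F, g * U * g⁻¹ = V := by
  obtain ⟨gU, hgU⟩ := sl2_conj_w hodd h2 U hU
  obtain ⟨gV, hgV⟩ := sl2_conj_w hodd h2 V hV
  refine ⟨gV * gU⁻¹, ?_⟩
  rw [← hgU, ← hgV]
  group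

end SL2

/-- Abstract properties of `SL₂(q)`, `q` odd, with respect to its central involution `c`. -/
structure SL2Like (L : Type*) [Group L] (c : L) : Prop where
  c_ne : c ≠ 1
  c_sq : c * c = 1
  invol : ∀ g : L, g * g = 1 → g = 1 ∨ g = c
  ex4 : ∃ u : L, u * u = c
  conj4 : ∀ u v : L, u * u = c → v * v = c → ∃ g : L, g * u * g⁻¹ = v

theorem two_ne_zero_of_odd_card {F : Type*} [Field F] [Fintype F] (hF : Odd (Fintype.card F)) :
    (2 : F) ≠ 0 := by
  have hchar : ringChar F ≠ 2 := by
    intro h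
    have := FiniteField.even_card_of_char_two h
    rcases hF with ⟨k, hk⟩
    omega
  exact Ring.two_ne_zero hchar

theorem sl2Like_SL2 {F : Type*} [Field F] [Fintype F] (hF : Odd (Fintype.card F)) :
    SL2Like (Matrix.SpecialLinearGroup (Fin 2) F) (negOneSL2 F) where
  c_ne := negOneSL2_ne_one (two_ne_zero_of_odd_card hF)
  c_sq := negOneSL2_mul_self
  invol := sl2_invol (two_ne_zero_of_odd_card hF)
  ex4 := sl2_ex4
  conj4 := sl2_conj4 (Nat.odd_iff.mp hF) (two_ne_zero_of_odd_card hF)

theorem SL2Like.map {L L' : Type*} [Group L] [Group L'] {c : L} (h : SL2Like L c) (e : L ≃* L') :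
    SL2Like L' (e c) where
  c_ne := by
    intro hc
    apply h.c_ne
    apply e.injective
    rw [hc, map_one]
  c_sq := by rw [← map_mul, h.c_sq, map_one]
  invol := by
    intro g hg
    have : e.symm g * e.symm g = 1 := by rw [← map_mul, hg, map_one]
    rcases h.invol _ this with h1 | h1
    · left
      have := congrArg e h1
      rwa [e.apply_symm_apply, map_one] at this
    · right
      have := congrArg e h1
      rwa [e.apply_symm_apply] at this
  ex4 := by
    obtain ⟨u, hu⟩ := h.ex4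
    exact ⟨e u, by rw [← map_mul, hu]⟩
  conj4 := by
    intro u v hu hv
    have hu' : e.symm u * e.symm u = c := by
      rw [← map_mul, hu, e.symm_apply_apply]
    have hv' : e.symm v * e.symm v = c := by
      rw [← map_mul, hv, e.symm_apply_apply]
    obtain ⟨g, hg⟩ := h.conj4 _ _ hu' hv'
    refine ⟨e g, ?_⟩
    have := congrArg e hg
    rwa [map_mul, map_mul, map_inv, e.apply_symm_apply, e.apply_symm_apply] at this

end Cfsg.Agent.Helper53
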