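import Mathlib
import Cfsg.Agent.Lib.Helper53.PGroupAb

set_option autoImplicit false
set_option linter.unusedSectionVars false
set_option linter.style.haveILetI false

/-!
# `p`-groups of maximal class: the lower central series
-/

namespace Cfsg.Agent.Helper53

open scoped commutatorElement

universe u

/-- A group of order `p ^ r` with `r ≥ 2` has nilpotency class at most `r - 1`. -/
theorem nilpotencyClass_add_one_le {p : ℕ} [hp : Fact p.Prime] :
    ∀ (r : ℕ) (H : Type u) [Group H] [Finite H], 2 ≤ r → Nat.card H = p ^ r →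
      Group.nilpotencyClass H + 1 ≤ r := by
  intro r
  induction r using Nat.strong_induction_on with
  | _ r ih =>
    intro H _ _ hr hcard
    have hH : IsPGroup p H := IsPGroup.of_card hcard
    have hnil : Group.IsNilpotent H := hH.isNilpotent
    have hnt : Nontrivial H := by
      rw [← Finite.one_lt_card_iff_nontrivial, hcard]
      exact Nat.one_lt_pow (by omega) hp.out.one_lt
    -- the centre is nontrivial
    have hZ : Nontrivial (Subgroup.center H) := hH.center_nontrivial
    obtain ⟨z, hz⟩ := IsPGroup.iff_card.mp (hH.to_subgroup (Subgroup.center H))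
    have hz1 : 1 ≤ z := by
      rcases z with _ | z
      · exfalso
        rw [pow_zero] at hz
        have := (Finite.one_lt_card_iff_nontrivial).mpr hZ
        omega
      · omega
    have hq : Nat.card (H ⧸ Subgroup.center H) * p ^ z = p ^ r := by
      rw [← hz, ← hcard, Subgroup.card_eq_card_quotient_mul_card_subgroup (Subgroup.center H)]
    have hzr : z ≤ r := by
      have h1 : p ^ z ∣ p ^ r := Dvd.intro_left _ hq
      exact (Nat.pow_dvd_pow_iff_le_right hp.out.one_lt).mp h1
    have hq' : Nat.card (H ⧸ Subgroup.center H) = p ^ (r - z) := by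
      have h2 : p ^ r = p ^ (r - z) * p ^ z := by rw [← pow_add]; congr 1; omega
      rw [h2] at hq
      exact Nat.eq_of_mul_eq_mul_right (pow_pos hp.out.pos z) hq
    have hcl := Group.nilpotencyClass_quotient_center (G := H)
    by_cases hs : 2 ≤ r - z
    · have := ih (r - z) (by omega) (H ⧸ Subgroup.center H) hs hq'
      omega
    · -- the central quotient is cyclic, hence `H` is commutative
      have hcyc : IsCyclic (H ⧸ Subgroup.center H) := by
        have hle : r - z ≤ 1 := by omega
        rcases Nat.le_one_iff_eq_zero_or_eq_one.mp hle with h0 | h1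
        · rw [h0, pow_zero] at hq'
          have : Subsingleton (H ⧸ Subgroup.center H) :=
            (Finite.card_le_one_iff_subsingleton).mp (by rw [hq'])
          infer_instance
        · rw [h1, pow_one] at hq'
          exact isCyclic_of_prime_card hq'
      have hcomm : IsMulCommutative H :=
        MonoidHom.isMulCommutative_of_isCyclic_of_ker_le_center
          (QuotientGroup.mk' (Subgroup.center H)) (by rw [QuotientGroup.ker_mk'])
      have := (Group.IsNilpotent.nilpotencyClass_le_one_iff (G := H)).mpr hcomm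
      omega

section lcs

variable {G : Type*} [Group G]

/-- If two consecutive terms of the lower central series agree, the series is constant from there
on. -/
theorem lcs_const_of_eq (i : ℕ)
    (h : (⊤ : Subgroup G).lowerCentralSeries (i + 1) = (⊤ : Subgroup G).lowerCentralSeries i)
    (k : ℕ) : (⊤ : Subgroup G).lowerCentralSeries (i + k) = (⊤ : Subgroup G).lowerCentralSeries i := by
  induction k with
  | zero => rfl
  | succ k ih =>
    rw [← add_assoc, Subgroup.lowerCentralSeries_succ, ih, ← Subgroup.lowerCentralSeries_succ, h]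

/-- Below the nilpotency class the lower central series is strictly decreasing. -/
theorem lcs_lt [Group.IsNilpotent G] (i : ℕ) (hi : i < Group.nilpotencyClass G) :
    (⊤ : Subgroup G).lowerCentralSeries (i + 1) < (⊤ : Subgroup G).lowerCentralSeries i := by
  refine lt_of_le_of_ne (Subgroup.lowerCentralSeries_antitone _ (Nat.le_succ i)) ?_
  intro h
  have h1 := lcs_const_of_eq i h (Group.nilpotencyClass G - i)
  have h2 : i + (Group.nilpotencyClass G - i) = Group.nilpotencyClass G := by omega
  rw [h2, Subgroup.lowerCentralSeries_nilpotencyClass] at h1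
  have h3 : Group.nilpotencyClass G ≤ i :=
    Subgroup.lowerCentralSeries_eq_bot_iff_nilpotencyClass_le.mp h1.symm
  omega

end lcs

section maxclass

variable {G : Type*} [Group G] [Finite G] {p : ℕ} [hp : Fact p.Prime]

/-- In a finite `p`-group, a strict inclusion multiplies the index by a multiple of `p`. -/
theorem p_mul_index_dvd_of_lt (hG : IsPGroup p G) {H K : Subgroup G} (h : H < K) :
    p * K.index ∣ H.index := by
  rw [← Subgroup.relIndex_mul_index h.le]
  apply Nat.mul_dvd_mul_right
  have h1 : H.relIndex K ≠ 1 := by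
    intro h2
    exact (not_le_of_gt h) (Subgroup.relIndex_eq_one.mp h2)
  obtain ⟨n, hn⟩ := IsPGroup.iff_card.mp hG
  have h3 : H.relIndex K ∣ p ^ n := by
    rw [← hn]
    exact dvd_trans (Subgroup.relIndex_dvd_card H K) (Subgroup.card_subgroup_dvd_card K)
  obtain ⟨k, _, hk⟩ := (Nat.dvd_prime_pow hp.out).mp h3
  rw [hk]
  rcases k with _ | k
  · exfalso; apply h1; rw [hk, pow_zero]
  · exact dvd_pow_self p (Nat.succ_ne_zero k)

/-- The indices of the lower central series of a `p`-group of maximal class. -/
theorem index_lcs_of_maxClass (n : ℕ) (hG : Nat.card G = p ^ n)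
    (hcl : Group.nilpotencyClass G = n - 1) (hn : 3 ≤ n) (i : ℕ) (hi1 : 1 ≤ i) (hin : i ≤ n - 1) :
    ((⊤ : Subgroup G).lowerCentralSeries i).index = p ^ (i + 1) := by
  have hpG : IsPGroup p G := IsPGroup.of_card hG
  have hnil : Group.IsNilpotent G := hpG.isNilpotent
  set L : ℕ → Subgroup G := fun i => (⊤ : Subgroup G).lowerCentralSeries i with hL
  have hstep : ∀ j, j < n - 1 → p * (L j).index ∣ (L (j + 1)).index := by
    intro j hj
    exact p_mul_index_dvd_of_lt hpG (lcs_lt j (by rw [hcl]; exact hj))
  -- first step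
  have h1 : p ^ 2 ∣ (L 1).index := by
    have h0 := hstep 0 (by omega)
    have hidx0 : (L 0).index = 1 := by
      change ((⊤ : Subgroup G).lowerCentralSeries 0).index = 1
      rw [Subgroup.lowerCentralSeries_zero, Subgroup.index_top]
    rw [hidx0, mul_one] at h0
    have hdvd : (L 1).index ∣ p ^ n := by rw [← hG]; exact Subgroup.index_dvd_card _
    obtain ⟨k, _, hk⟩ := (Nat.dvd_prime_pow hp.out).mp hdvd
    rw [hk]
    apply pow_dvd_pow
    by_contra hk2
    have hk1 : k = 1 := by
      rcases k with _ | _ | k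
      · rw [hk, pow_zero] at h0
        exact absurd (Nat.le_of_dvd one_pos h0) (by have := hp.out.two_le; omega)
      · rfl
      · omega
    -- then the abelianization is cyclic, so `G` is cyclic, contradiction
    have hab : Nat.card (Abelianization G) = p := by
      have : (L 1) = commutator G := Subgroup.top_lowerCentralSeries_one
      rw [this, hk1, pow_one] at hk
      rw [← hk]
      exact (Subgroup.index_eq_card (commutator G)).symm
    have hcyc : IsCyclic (Abelianization G) := isCyclic_of_prime_card hab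
    have hGc : IsCyclic G := isCyclic_of_isCyclic_abelianization hpG hcyc
    have hcomm : IsMulCommutative G := ⟨⟨fun a b => by
      obtain ⟨g, hg⟩ := hGc.exists_generator
      obtain ⟨k, rfl⟩ := hg a
      obtain ⟨l, rfl⟩ := hg b
      exact ((Commute.refl g).zpow_zpow k l).eq⟩⟩
    have := (Group.IsNilpotent.nilpotencyClass_le_one_iff (G := G)).mpr hcomm
    omega
  have hlow : ∀ j, 1 ≤ j → j ≤ n - 1 → p ^ (j + 1) ∣ (L j).index := by
    intro j hj1
    induction j, hj1 using Nat.le_induction with
    | base => intro _; exact h1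
    | succ j hj ih =>
      intro hjn
      have h2 := ih (by omega)
      have h3 := hstep j (by omega)
      refine dvd_trans ?_ h3
      rw [pow_succ, mul_comm]
      exact Nat.mul_dvd_mul_left p h2
  have hup : ∀ k j, j + k ≤ n - 1 → (L j).index * p ^ k ∣ (L (j + k)).index := by
    intro k
    induction k with
    | zero => intro j _; simp
    | succ k ih =>
      intro j hjk
      have h2 := ih j (by omega)
      have h3 := hstep (j + k) (by omega)
      refine dvd_trans ?_ h3
      rw [pow_succ, ← mul_assoc, mul_comm]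
      exact Nat.mul_dvd_mul_left p h2
  have htop : (L (n - 1)).index = p ^ n := by
    change ((⊤ : Subgroup G).lowerCentralSeries (n - 1)).index = p ^ n
    rw [← hcl, Subgroup.lowerCentralSeries_nilpotencyClass, Subgroup.index_bot, hG]
  have h4 := hup (n - 1 - i) i (by omega)
  have h5 : i + (n - 1 - i) = n - 1 := by omega
  rw [h5, htop] at h4
  have h6 : p ^ n = p ^ (i + 1) * p ^ (n - 1 - i) := by rw [← pow_add]; congr 1; omega
  rw [h6] at h4
  have h7 : (L i).index ∣ p ^ (i + 1) :=
    Nat.dvd_of_mul_dvd_mul_right (pow_pos hp.out.pos _) h4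
  exact Nat.dvd_antisymm h7 (hlow i hi1 hin)

/-- A normal subgroup of index `p ^ r` contains the `r`-th term of the lower central series. -/
theorem lcs_le_of_index (N : Subgroup G) [N.Normal] (r : ℕ) (hr : 2 ≤ r) (hN : N.index = p ^ r) :
    (⊤ : Subgroup G).lowerCentralSeries (r - 1) ≤ N := by
  have hcard : Nat.card (G ⧸ N) = p ^ r := by rw [← hN]; exact (Subgroup.index_eq_card N).symm
  have hcl := nilpotencyClass_add_one_le (p := p) r (G ⧸ N) hr hcard
  have hnil : Group.IsNilpotent (G ⧸ N) := (IsPGroup.of_card hcard).isNilpotent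
  have h1 : (⊤ : Subgroup (G ⧸ N)).lowerCentralSeries (r - 1) = ⊥ :=
    Subgroup.lowerCentralSeries_eq_bot_iff_nilpotencyClass_le.mpr (by omega)
  have h2 : ((⊤ : Subgroup G).lowerCentralSeries (r - 1)).map (QuotientGroup.mk' N) = ⊥ := by
    rw [Subgroup.map_lowerCentralSeries, ← MonoidHom.range_eq_map,
      MonoidHom.range_eq_top.mpr (QuotientGroup.mk'_surjective N), h1]
  rw [← QuotientGroup.ker_mk' N]
  exact (Subgroup.map_eq_bot_iff _).mp h2

/-- In a `p`-group of maximal class the normal subgroups of index `p ^ r`, `r ≥ 2`, are the terms of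
the lower central series. -/
theorem eq_lcs_of_maxClass (n : ℕ) (hG : Nat.card G = p ^ n)
    (hcl : Group.nilpotencyClass G = n - 1) (hn : 3 ≤ n) (N : Subgroup G) [N.Normal] (r : ℕ)
    (hr : 2 ≤ r) (hN : N.index = p ^ r) : N = (⊤ : Subgroup G).lowerCentralSeries (r - 1) := by
  have hrn : r ≤ n := by
    have h1 : p ^ r ∣ p ^ n := by rw [← hN, ← hG]; exact Subgroup.index_dvd_card N
    exact (Nat.pow_dvd_pow_iff_le_right hp.out.one_lt).mp h1
  have hle := lcs_le_of_index N r hr hN
  have hidx := index_lcs_of_maxClass n hG hcl hn (r - 1) (by omega) (by omega)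
  have h2 : r - 1 + 1 = r := by omega
  rw [h2] at hidx
  symm
  apply Subgroup.eq_of_le_of_card_ge hle
  have e1 := Subgroup.card_mul_index N
  have e2 := Subgroup.card_mul_index ((⊤ : Subgroup G).lowerCentralSeries (r - 1))
  rw [hN] at e1
  rw [hidx] at e2
  have hpos : 0 < p ^ r := pow_pos hp.out.pos r
  have : Nat.card N * p ^ r = Nat.card ((⊤ : Subgroup G).lowerCentralSeries (r - 1)) * p ^ r := by
    rw [e1, e2]
  exact (Nat.eq_of_mul_eq_mul_right hpos this).le

theorem maxClass_normal_of_commutator_le (N : Subgroup G) (h : commutator G ≤ N) : N.Normal := by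
  refine ⟨fun n hn g => ?_⟩
  have h1 : g * n * g⁻¹ = ⁅g, n⁆ * n := by simp [commutatorElement_def]
  rw [h1]
  exact N.mul_mem (h (Subgroup.commutator_mem_commutator (Subgroup.mem_top _)
    (Subgroup.mem_top _))) hn

/-- A normal subgroup of prime index contains the commutator subgroup. -/
theorem commutator_le_of_index_prime (N : Subgroup G) [N.Normal] (hN : N.index = p) :
    commutator G ≤ N := by
  have hcard : Nat.card (G ⧸ N) = p := by rw [← hN]; exact (Subgroup.index_eq_card N).symm
  have hcyc : IsCyclic (G ⧸ N) := isCyclic_of_prime_card hcard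
  letI : CommGroup (G ⧸ N) := IsCyclic.commGroup
  have := Abelianization.commutator_subset_ker (QuotientGroup.mk' N)
  rwa [QuotientGroup.ker_mk'] at this

/-- In a `p`-group of maximal class, the abelianization is not cyclic. -/
theorem not_isCyclic_abelianization_of_maxClass (n : ℕ) (hG : Nat.card G = p ^ n)
    (hcl : Group.nilpotencyClass G = n - 1) (hn : 3 ≤ n) : ¬ IsCyclic (Abelianization G) := by
  intro hcyc
  have hpG : IsPGroup p G := IsPGroup.of_card hG
  have hnil : Group.IsNilpotent G := hpG.isNilpotent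
  have hGc : IsCyclic G := isCyclic_of_isCyclic_abelianization hpG hcyc
  have hcomm : IsMulCommutative G := ⟨⟨fun a b => by
    obtain ⟨g, hg⟩ := hGc.exists_generator
    obtain ⟨k, rfl⟩ := hg a
    obtain ⟨l, rfl⟩ := hg b
    exact ((Commute.refl g).zpow_zpow k l).eq⟩⟩
  have := (Group.IsNilpotent.nilpotencyClass_le_one_iff (G := G)).mpr hcomm
  omega

/-- For `x` outside the commutator subgroup, `G' ⟨x⟩` is a normal subgroup of index `p`. -/
theorem index_commutator_sup_zpowers (n : ℕ) (hG : Nat.card G = p ^ n)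
    (hcl : Group.nilpotencyClass G = n - 1) (hn : 3 ≤ n) (x : G) (hx : x ∉ commutator G) :
    (commutator G ⊔ Subgroup.zpowers x).index = p := by
  have hpG : IsPGroup p G := IsPGroup.of_card hG
  have hidx : (commutator G).index = p ^ 2 := by
    have := index_lcs_of_maxClass n hG hcl hn 1 le_rfl (by omega)
    rwa [Subgroup.top_lowerCentralSeries_one] at this
  set M := commutator G ⊔ Subgroup.zpowers x with hM
  have hlt : commutator G < M := by
    refine lt_of_le_of_ne le_sup_left ?_
    intro h
    apply hx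
    rw [h]
    exact Subgroup.mem_sup_right (Subgroup.mem_zpowers x)
  have h1 := p_mul_index_dvd_of_lt hpG hlt
  rw [hidx, pow_two] at h1
  have h2 : M.index ∣ p := Nat.dvd_of_mul_dvd_mul_left hp.out.pos h1
  rcases (Nat.dvd_prime hp.out).mp h2 with h3 | h3
  · exfalso
    -- then `M = ⊤` and the abelianization is cyclic
    have hMtop : M = ⊤ := Subgroup.index_eq_one.mp h3
    apply not_isCyclic_abelianization_of_maxClass n hG hcl hn
    refine ⟨⟨Abelianization.of x, fun y => ?_⟩⟩
    obtain ⟨g, rfl⟩ := QuotientGroup.mk'_surjective (commutator G) y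
    have hg : g ∈ commutator G ⊔ Subgroup.zpowers x := by rw [← hM, hMtop]; exact Subgroup.mem_top g
    rw [← SetLike.mem_coe, Subgroup.normal_mul] at hg
    obtain ⟨c, hc, z, ⟨k, rfl⟩, rfl⟩ := hg
    refine ⟨k, ?_⟩
    change (Abelianization.of x) ^ k = Abelianization.of (c * x ^ k)
    rw [map_mul, map_zpow]
    have : Abelianization.of c = 1 := (QuotientGroup.eq_one_iff c).mpr hc
    rw [this, one_mul]
  · exact h3

/-- In a `p`-group of maximal class there are exactly `p + 1` normal subgroups of index `p`. -/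
theorem card_normal_index_p_of_maxClass (n : ℕ) (hG : Nat.card G = p ^ n)
    (hcl : Group.nilpotencyClass G = n - 1) (hn : 3 ≤ n) :
    Nat.card {N : Subgroup G // N.Normal ∧ N.index = p} = p + 1 := by
  classical
  have hpG : IsPGroup p G := IsPGroup.of_card hG
  set Φ := commutator G with hΦ
  have hidx : Φ.index = p ^ 2 := by
    have := index_lcs_of_maxClass n hG hcl hn 1 le_rfl (by omega)
    rwa [Subgroup.top_lowerCentralSeries_one] at this
  -- uniqueness: a normal subgroup of index `p` containing `x ∉ Φ` is `Φ ⊔ ⟨x⟩`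
  have huniq : ∀ N : Subgroup G, N.Normal → N.index = p → ∀ x ∈ N, x ∉ Φ →
      N = Φ ⊔ Subgroup.zpowers x := by
    intro N hNn hN x hxN hxΦ
    have hle : Φ ⊔ Subgroup.zpowers x ≤ N :=
      sup_le (commutator_le_of_index_prime N hN) (by rwa [Subgroup.zpowers_le])
    symm
    apply Subgroup.eq_of_le_of_card_ge hle
    have e1 := Subgroup.card_mul_index N
    have e2 := Subgroup.card_mul_index (Φ ⊔ Subgroup.zpowers x)
    rw [hN] at e1
    rw [index_commutator_sup_zpowers n hG hcl hn x hxΦ] at e2
    have : Nat.card N * p = Nat.card ↥(Φ ⊔ Subgroup.zpowers x) * p := by rw [e1, e2]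
    exact (Nat.eq_of_mul_eq_mul_right hp.out.pos this).le
  -- the bijection
  let 𝒩 := {N : Subgroup G // N.Normal ∧ N.index = p}
  let f : (Σ N : 𝒩, {x : G // x ∈ N.1 ∧ x ∉ Φ}) → {x : G // x ∉ Φ} := fun a => ⟨a.2.1, a.2.2.2⟩
  have hf : Function.Bijective f := by
    constructor
    · rintro ⟨⟨N₁, hN₁n, hN₁⟩, ⟨x₁, hx₁N, hx₁Φ⟩⟩ ⟨⟨N₂, hN₂n, hN₂⟩, ⟨x₂, hx₂N, hx₂Φ⟩⟩ h
      have hx : x₁ = x₂ := congrArg Subtype.val h
      subst hx
      have hN : N₁ = N₂ := by
        rw [huniq N₁ hN₁n hN₁ x₁ hx₁N hx₁Φ, huniq N₂ hN₂n hN₂ x₁ hx₂N hx₂Φ]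
      subst hN
      rfl
    · rintro ⟨x, hx⟩
      have hidx' := index_commutator_sup_zpowers n hG hcl hn x hx
      have hnorm : (Φ ⊔ Subgroup.zpowers x).Normal :=
        maxClass_normal_of_commutator_le _ le_sup_left
      exact ⟨⟨⟨Φ ⊔ Subgroup.zpowers x, hnorm, hidx'⟩,
        ⟨x, Subgroup.mem_sup_right (Subgroup.mem_zpowers x), hx⟩⟩, rfl⟩
  have hfin𝒩 : Finite 𝒩 := inferInstance
  have hFt : Fintype 𝒩 := Fintype.ofFinite 𝒩
  -- cardinalities
  obtain ⟨q, hq⟩ : ∃ q, Nat.card Φ = q := ⟨_, rfl⟩
  have hq2 : q * p ^ 2 = p ^ n := by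
    rw [← hq, ← hidx, Subgroup.card_mul_index, hG]
  have hfib : ∀ N : 𝒩, Nat.card {x : G // x ∈ N.1 ∧ x ∉ Φ} = p * q - q := by
    rintro ⟨N, hNn, hN⟩
    have hΦN : Φ ≤ N := commutator_le_of_index_prime N hN
    have hcN : Nat.card N = p * q := by
      have e1 := Subgroup.card_mul_index N
      rw [hN, hG, ← hq2] at e1
      have : Nat.card N * p = p * q * p := by rw [e1]; ring
      exact Nat.eq_of_mul_eq_mul_right hp.out.pos this
    have h1 : Nat.card {x : G // x ∈ N ∧ x ∉ Φ} = Set.ncard ((N : Set G) \ (Φ : Set G)) := by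
      rw [← Nat.card_coe_set_eq]
      rfl
    rw [h1, Set.ncard_sdiff (by exact_mod_cast hΦN), ← Nat.card_coe_set_eq,
      ← Nat.card_coe_set_eq]
    change Nat.card N - Nat.card Φ = _
    rw [hcN, hq]
  have htot : Nat.card {x : G // x ∉ Φ} = p * p * q - q := by
    have h1 : Nat.card {x : G // x ∉ Φ} = Set.ncard ((Set.univ : Set G) \ (Φ : Set G)) := by
      rw [← Nat.card_coe_set_eq]
      apply Nat.card_congr
      exact Equiv.subtypeEquivRight (fun x => by simp)
    rw [h1, Set.ncard_sdiff (Set.subset_univ _), Set.ncard_univ, ← Nat.card_coe_set_eq]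
    change Nat.card G - Nat.card Φ = _
    rw [hG, hq, ← hq2]
    congr 1
    ring
  have hsum : Nat.card (Σ N : 𝒩, {x : G // x ∈ N.1 ∧ x ∉ Φ}) = Nat.card 𝒩 * (p * q - q) := by
    rw [Nat.card_sigma, Finset.sum_congr rfl (fun N _ => hfib N), Finset.sum_const,
      Finset.card_univ, smul_eq_mul, Nat.card_eq_fintype_card]
  have hmain : Nat.card 𝒩 * (p * q - q) = p * p * q - q := by
    rw [← hsum, ← htot]
    exact Nat.card_congr (Equiv.ofBijective f hf)
  -- arithmetic
  have hqpos : 0 < q := by
    rw [← hq]; exact Nat.card_pos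
  have hle : q ≤ p * q := Nat.le_mul_of_pos_left q hp.out.pos
  obtain ⟨d, hd⟩ : ∃ d, p * q = d + q := ⟨p * q - q, by omega⟩
  have hdpos : 0 < d := by
    have h2 : 2 * q ≤ p * q := Nat.mul_le_mul_right q hp.out.two_le
    omega
  have e1 : p * q - q = d := by omega
  have e2 : p * p * q - q = (p + 1) * d := by
    have : p * p * q = (p + 1) * d + q := by
      calc p * p * q = p * (p * q) := by ring
        _ = p * (d + q) := by rw [hd]
        _ = p * d + p * q := by ring
        _ = p * d + (d + q) := by rw [hd]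
        _ = (p + 1) * d + q := by ring
    omega
  rw [e1, e2] at hmain
  exact Nat.eq_of_mul_eq_mul_right hdpos hmain

end maxclass

end Cfsg.Agent.Helper53
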