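import Mathlib

set_option autoImplicit false

namespace Cfsg.Agent.Helper53

open Subgroup

/-- Two `p`-subgroups `A`, `B` of a subgroup `K` of a finite group: some `K`-conjugate of `B`
lies together with `A` in a Sylow `p`-subgroup of the whole group. -/
theorem exists_conj_le_sylow {J : Type*} [Group J] [Finite J] {p : ℕ} [Fact p.Prime]
    {K A B : Subgroup J} (hA : A ≤ K) (hB : B ≤ K) (hpA : IsPGroup p ↥A) (hpB : IsPGroup p ↥B) :
    ∃ h ∈ K, ∃ P' : Sylow p J, A ≤ (P' : Subgroup J) ∧ ∀ b ∈ B, h * b * h⁻¹ ∈ (P' : Subgroup J) := by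
  have hA' : IsPGroup p ↥(A.subgroupOf K) :=
    hpA.of_equiv (subgroupOfEquivOfLe hA).symm
  have hB' : IsPGroup p ↥(B.subgroupOf K) :=
    hpB.of_equiv (subgroupOfEquivOfLe hB).symm
  obtain ⟨R, hR⟩ := hA'.exists_le_sylow
  obtain ⟨R', hR'⟩ := hB'.exists_le_sylow
  obtain ⟨h, hh⟩ := MulAction.exists_smul_eq (↥K) R' R
  have hRp : IsPGroup p ↥((R : Subgroup ↥K).map K.subtype) :=
    R.2.map K.subtype
  obtain ⟨P', hP'⟩ := hRp.exists_le_sylow
  refine ⟨h, h.2, P', ?_, ?_⟩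
  · intro a ha
    apply hP'
    exact ⟨⟨a, hA ha⟩, hR (by simpa [mem_subgroupOf] using ha), rfl⟩
  · intro b hb
    apply hP'
    have hb' : (⟨b, hB hb⟩ : ↥K) ∈ (R' : Subgroup ↥K) := hR' (by simpa [mem_subgroupOf] using hb)
    have : h * ⟨b, hB hb⟩ * h⁻¹ ∈ (R : Subgroup ↥K) := by
      rw [← hh, Sylow.coe_subgroup_smul]
      have := Subgroup.smul_mem_pointwise_smul (⟨b, hB hb⟩ : ↥K) (MulAut.conj h) (R' : Subgroup ↥K) hb'
      simpa [MulAut.conj_apply] using this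
    exact ⟨h * ⟨b, hB hb⟩ * h⁻¹, this, by simp⟩

end Cfsg.Agent.Helper53
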