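import Mathlib
import Cfsg.Agent.Lib.Helper53.SylowConj

set_option autoImplicit false

namespace Cfsg.Agent.Helper53

open Subgroup

theorem mem_smul_sylow_iff {G : Type*} [Group G] {p : ℕ} (h g : G) (U : Sylow p G) :
    g ∈ ((h • U : Sylow p G) : Subgroup G) ↔ h⁻¹ * g * h ∈ (U : Subgroup G) := by
  rw [Sylow.coe_subgroup_smul, Subgroup.mem_pointwise_smul_iff_inv_smul_mem]
  simp [MulAut.conj_apply]

/-- Sylow's theorem inside a subgroup `K` containing a full Sylow `p`-subgroup `U` of `G`: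
every `p`-subgroup of `K` lies in a `K`-conjugate of `U`. -/
theorem exists_conj_sylow_ge {G : Type*} [Group G] [Finite G] {p : ℕ} [Fact p.Prime]
    {K A : Subgroup G} (U : Sylow p G) (hU : (U : Subgroup G) ≤ K) (hA : A ≤ K)
    (hpA : IsPGroup p ↥A) :
    ∃ h ∈ K, A ≤ ((h • U : Sylow p G) : Subgroup G) := by
  obtain ⟨h, hhK, P', hAP', hUP'⟩ := exists_conj_le_sylow hA hU hpA U.2
  refine ⟨h, hhK, ?_⟩
  have hle : ((h • U : Sylow p G) : Subgroup G) ≤ (P' : Subgroup G) := by
    intro g hg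
    rw [mem_smul_sylow_iff] at hg
    have := hUP' _ hg
    have e : h * (h⁻¹ * g * h) * h⁻¹ = g := by group
    rwa [e] at this
  have heq : (P' : Subgroup G) = ((h • U : Sylow p G) : Subgroup G) :=
    (h • U).3 P'.2 hle
  rw [← heq]
  exact hAP'

end Cfsg.Agent.Helper53
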