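import Mathlib
import Cfsg.Prelude.Def_OddOrder
import Cfsg.Prelude.Def_OddOrderLocal
import Cfsg.Agent.Lib.Helper96.BGU
import Cfsg.Agent.Lib.Helper96.BGU3
import Cfsg.Agent.Lib.Helper53.SylowConj2

/-!
# B–G Lemma 9.5, Case A rank input (requested by helper73, board #2453)

If `L ≠ M` are maximal subgroups of a minimal simple group of odd order sharing a Sylow
`p`-subgroup `P` of `G` with `N_G(P) ≤ L`, and `F(L)` has `t`-rank at least `3`, then `M` has
`t`-rank at most `2`.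
-/

set_option autoImplicit false

namespace Cfsg.Agent.Helper53.BG95CA

open Cfsg Subgroup
open Cfsg.Agent.Helper96.BGU

variable {G : Type*} [Group G] [Finite G]

/-- a `q`-subgroup of a nonabelian simple group is proper -/
theorem ne_top_of_isPGroup_simple (hs : IsSimpleGroup G) (hna : ¬ IsMulCommutative G) {q : ℕ}
    [Fact q.Prime] {T : Subgroup G} (hT : IsPGroup q T) : T ≠ ⊤ := by
  intro h
  have hnil : Group.IsNilpotent ↥T := hT.isNilpotent
  have hsol : Group.IsSolvable ↥T := inferInstance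
  apply hna
  have h1 : Group.IsSolvable G := by
    have e : ↥T ≃* G := by rw [h]; exact Subgroup.topEquiv
    exact Group.isSolvable_of_surjective (f := e.toMonoidHom) e.surjective
  exact ⟨⟨IsSimpleGroup.comm_iff_isSolvable.mpr h1⟩⟩

omit [Finite G] in
/-- conjugating a subgroup by one of its own elements does nothing -/
theorem map_conj_eq_self_of_mem {L : Subgroup G} {g : G} (hg : g ∈ L) :
    L.map (MulAut.conj g).toMonoidHom = L := by
  ext x
  constructor
  · rintro ⟨y, hy, rfl⟩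
    simp only [MulEquiv.coe_toMonoidHom, MulAut.conj_apply]
    exact L.mul_mem (L.mul_mem hg hy) (L.inv_mem hg)
  · intro hx
    refine ⟨g⁻¹ * x * g, L.mul_mem (L.mul_mem (L.inv_mem hg) hx) hg, ?_⟩
    simp [MulAut.conj_apply, mul_assoc]

theorem caseA_rank (hG : IsMinSimpleOddOrder G)
    (h94 : ∀ (M : Subgroup G), IsCoatom M → ∀ (p : ℕ) [Fact p.Prime],
      ¬ PRankLE p 2 ↥(fittingOf M) → ∀ A : Subgroup G, IsPGroup p A → IsMulCommutative A →
        ¬ PRankLE p 2 ↥A → InUniqueMaximal A)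
    (L M : Subgroup G) (hL : IsCoatom L) (hM : IsCoatom M) (hne : M ≠ L) (t : ℕ) [Fact t.Prime]
    (ht : ¬ PRankLE t 2 ↥(fittingOf L)) (p : ℕ) [Fact p.Prime] (P : Sylow p G)
    (hPL : (P : Subgroup G) ≤ L) (hPM : (P : Subgroup G) ≤ M)
    (hNL : normalizer ((P : Subgroup G) : Set G) ≤ L) : PRankLE t 2 ↥M := by
  by_contra hcon
  obtain ⟨U, hUM, hUe, hUc⟩ := exists_elemAb_of_not_pRankLE hcon
  obtain ⟨U0, hU0F, hU0e, hU0c⟩ := exists_elemAb_of_not_pRankLE ht
  have hFL : fittingOf L ≤ L := Subgroup.map_subtype_le _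
  have hU0L : U0 ≤ L := hU0F.trans hFL
  have hUu : InUniqueMaximal U :=
    h94 L hL t ht U (isPGroup_of_elemAb hUe) hUe.1 (not_pRankLE_of_elemAb U le_rfl hUe hUc)
  have hU0u : InUniqueMaximal U0 :=
    h94 L hL t ht U0 (isPGroup_of_elemAb hU0e) hU0e.1 (not_pRankLE_of_elemAb U0 le_rfl hU0e hU0c)
  obtain ⟨SU, hSU⟩ := (isPGroup_of_elemAb hUe).exists_le_sylow
  obtain ⟨S0, hS0⟩ := (isPGroup_of_elemAb hU0e).exists_le_sylow
  have hSUtop : (SU : Subgroup G) ≠ ⊤ := ne_top_of_isPGroup_simple hG.2.1 hG.2.2.1 SU.2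
  have hSUM : (SU : Subgroup G) ≤ M := le_of_inUniqueMaximal hUu hM hUM hSU hSUtop
  obtain ⟨g, hg⟩ := MulAction.exists_smul_eq G S0 SU
  have h1 : U0.map (MulAut.conj g).toMonoidHom ≤ M := by
    have := Cfsg.Agent.Helper96.BGU.map_conj_le_sylow S0 g hS0
    rw [hg] at this
    exact this.trans hSUM
  have h2 : InUniqueMaximal (U0.map (MulAut.conj g).toMonoidHom) := inUniqueMaximal_conj g hU0u
  have h3 : IsCoatom (L.map (MulAut.conj g).toMonoidHom) := isCoatom_map_equiv (MulAut.conj g) hL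
  have h4 : U0.map (MulAut.conj g).toMonoidHom ≤ L.map (MulAut.conj g).toMonoidHom :=
    Subgroup.map_mono hU0L
  have hML : M = L.map (MulAut.conj g).toMonoidHom := by
    obtain ⟨M', _, huniq⟩ := h2
    rw [huniq M ⟨hM, h1⟩, huniq _ ⟨h3, h4⟩]
  have hA : ((g⁻¹ • P : Sylow p G) : Subgroup G) ≤ L := by
    intro x hx
    rw [Cfsg.Agent.Helper53.mem_smul_sylow_iff] at hx
    have hx' := hPM hx
    rw [hML] at hx'
    obtain ⟨y, hy, hyx⟩ := hx'
    have hyx' : y = x := by
      simp only [MulEquiv.coe_toMonoidHom, MulAut.conj_apply, inv_inv] at hyx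
      have := congrArg (fun z => g⁻¹ * z * g) hyx
      simpa [mul_assoc] using this
    rwa [← hyx']
  obtain ⟨h, hhL, hle⟩ :=
    Cfsg.Agent.Helper53.exists_conj_sylow_ge P hPL hA (g⁻¹ • P : Sylow p G).2
  have heq : (h • P : Sylow p G) = g⁻¹ • P := by
    apply Sylow.ext
    exact ((g⁻¹ • P : Sylow p G).3 (h • P : Sylow p G).2 hle)
  have hgh : (g * h) • P = P := by
    rw [mul_smul, heq, smul_inv_smul]
  have hmem : g * h ∈ normalizer ((P : Subgroup G) : Set G) :=
    Sylow.smul_eq_iff_mem_normalizer.mp hgh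
  have hgL : g ∈ L := by
    have := L.mul_mem (hNL hmem) (L.inv_mem hhL)
    simpa using this
  apply hne
  rw [hML]
  exact map_conj_eq_self_of_mem hgL

/-- `caseA_rank` in exactly the shape of the field `ca` of `Helper73.BG95.Inputs`. -/
theorem ca_field (hG : IsMinSimpleOddOrder G)
    (h94 : ∀ (M : Subgroup G), IsCoatom M → ∀ (p : ℕ) [Fact p.Prime],
      ¬ PRankLE p 2 ↥(fittingOf M) → ∀ A : Subgroup G, IsPGroup p A → IsMulCommutative A →
        ¬ PRankLE p 2 ↥A → InUniqueMaximal A) :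
    ∀ (L M : Subgroup G), IsCoatom L → IsCoatom M → M ≠ L → ∀ (t : ℕ) [Fact t.Prime],
      ¬ PRankLE t 2 ↥(fittingOf L) → ∀ (p : ℕ) [Fact p.Prime] (P : Sylow p G),
        (P : Subgroup G) ≤ L → (P : Subgroup G) ≤ M → normalizer ((P : Subgroup G) : Set G) ≤ L →
        PRankLE t 2 ↥M :=
  fun L M hL hM hne t _ ht p _ P hPL hPM hNL =>
    caseA_rank hG h94 L M hL hM hne t ht p P hPL hPM hNL

end Cfsg.Agent.Helper53.BG95CA
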