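import Mathlib
import Cfsg.Prelude.Def_Characters
import Cfsg.Prelude.Def_Blocks

/-!
# IP (helper53): definitions for S4463 (Isaacs–Passman: an abelian subgroup of index at most `(b!)²`,
`b` the largest irreducible character degree)
-/

set_option autoImplicit false

namespace Cfsg.Agent.Helper53.IP

open Cfsg

universe u

/-- every irreducible character of `G` has degree at most `b` -/
def DegLe (G : Type u) [Group G] (b : ℕ) : Prop :=
  ∀ χ : IrrCharacter G, charDegree (χ : G → ℂ) ≤ b

/-- `G` has an abelian subgroup of index at most `n` -/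
def HasAb (G : Type u) [Group G] (n : ℕ) : Prop :=
  ∃ A : Subgroup G, (∀ x ∈ A, ∀ y ∈ A, x * y = y * x) ∧ A.index ≤ n

/-- the two reduction mechanisms: (L) a subgroup of index at most `b²` with all degrees `< b`, or (N) a
subgroup of index at most `(b!/⌊b/2⌋!)²` with all degrees at most `⌊b/2⌋` -/
def Alt (G : Type u) [Group G] (b : ℕ) : Prop :=
  (∃ H : Subgroup G, H.index ≤ b ^ 2 ∧ DegLe H (b - 1)) ∨
  (∃ K : Subgroup G, K.index ≤ (b.factorial / (b / 2).factorial) ^ 2 ∧ DegLe K (b / 2))

end Cfsg.Agent.Helper53.IP
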