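import Mathlib
import Cfsg.Prelude.Def_Transfer

set_option autoImplicit false

namespace Cfsg.Agent.Helper53

open Subgroup

/-- arithmetic: `2^m * a = b * 2^l` with `a b` odd forces `m = l`. -/
theorem two_pow_mul_odd_eq {m l a b : ℕ} (ha : ¬ 2 ∣ a) (hb : ¬ 2 ∣ b) (h : 2 ^ m * a = b * 2 ^ l) :
    m = l := by
  have hca : Nat.Coprime (2 ^ l) a :=
    Nat.Coprime.pow_left _ ((Nat.Prime.coprime_iff_not_dvd Nat.prime_two).mpr ha)
  have hcb : Nat.Coprime (2 ^ m) b :=
    Nat.Coprime.pow_left _ ((Nat.Prime.coprime_iff_not_dvd Nat.prime_two).mpr hb)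
  have h1 : 2 ^ m ∣ 2 ^ l := by
    have : 2 ^ m ∣ b * 2 ^ l := ⟨a, h.symm⟩
    exact hcb.dvd_of_dvd_mul_left this
  have h2 : 2 ^ l ∣ 2 ^ m := by
    have : 2 ^ l ∣ 2 ^ m * a := ⟨b, by rw [h]; ring⟩
    exact hca.dvd_of_dvd_mul_right this
  have h1' := (Nat.pow_dvd_pow_iff_le_right (by norm_num : 1 < 2)).mp h1
  have h2' := (Nat.pow_dvd_pow_iff_le_right (by norm_num : 1 < 2)).mp h2
  omega

/-- A normal subgroup of odd order and 2-power index is a normal 2-complement. -/
theorem hasNormalPComplement_of_odd_card {G : Type*} [Group G] [Finite G]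
    (N : Subgroup G) (hN : N.Normal) (hodd : ¬ 2 ∣ Nat.card ↥N) (k : ℕ) (hk : N.index = 2 ^ k) :
    Cfsg.HasNormalPComplement 2 G := by
  have : Fact (Nat.Prime 2) := ⟨Nat.prime_two⟩
  obtain ⟨P⟩ : Nonempty (Sylow 2 G) := inferInstance
  refine ⟨P, N, hN, ?_⟩
  obtain ⟨m, hm⟩ := IsPGroup.iff_card.mp P.2
  have hPi : ¬ 2 ∣ (P : Subgroup G).index := P.not_dvd_index
  have h1 : Nat.card ↥(P : Subgroup G) * (P : Subgroup G).index = Nat.card G :=
    (P : Subgroup G).card_mul_index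
  have h2 : Nat.card ↥N * N.index = Nat.card G := N.card_mul_index
  have hml : m = k := by
    apply two_pow_mul_odd_eq hPi hodd
    rw [← hm, h1, ← h2, hk]
  apply isComplement'_of_coprime
  · rw [hm, hml, ← hk, h2]
  · rw [hm]
    exact Nat.Coprime.pow_right _ (((Nat.Prime.coprime_iff_not_dvd Nat.prime_two).mpr hodd).symm)

/-- A normal 2-complement gives a normal subgroup of odd order and 2-power index. -/
theorem exists_odd_card_of_hasNormalPComplement {G : Type*} [Group G] [Finite G]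
    (h : Cfsg.HasNormalPComplement 2 G) :
    ∃ N : Subgroup G, N.Normal ∧ ¬ 2 ∣ Nat.card ↥N ∧ ∃ k : ℕ, N.index = 2 ^ k := by
  have : Fact (Nat.Prime 2) := ⟨Nat.prime_two⟩
  obtain ⟨P, N, hN, hc⟩ := h
  refine ⟨N, hN, ?_, ?_⟩
  · rw [← hc.index_eq_card]
    exact P.not_dvd_index
  · obtain ⟨m, hm⟩ := IsPGroup.iff_card.mp P.2
    exact ⟨m, by rw [hc.symm.index_eq_card, hm]⟩

/-- Lifting a normal 2-complement from a normal subgroup of 2-power index. -/
theorem hasNormalPComplement_lift {G : Type*} [Group G] [Finite G]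
    (H : Subgroup G) [hHn : H.Normal] (k : ℕ) (hk : H.index = 2 ^ k)
    (hc : Cfsg.HasNormalPComplement 2 ↥H) : Cfsg.HasNormalPComplement 2 G := by
  obtain ⟨K, hKn, hKodd, j, hj⟩ := exists_odd_card_of_hasNormalPComplement hc
  have hcard : Nat.card ↥(K.map H.subtype) = Nat.card ↥K :=
    card_map_of_injective H.subtype_injective
  refine hasNormalPComplement_of_odd_card (K.map H.subtype) ?_ (by rw [hcard]; exact hKodd)
    (j + k) (by rw [index_map_subtype, hj, hk, pow_add])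
  constructor
  rintro n ⟨k₀, hk₀, rfl⟩ g
  have hmemH : g * (H.subtype k₀) * g⁻¹ ∈ H := hHn.conj_mem _ k₀.2 g
  have hord : orderOf (⟨g * (H.subtype k₀) * g⁻¹, hmemH⟩ : ↥H) = orderOf k₀ := by
    rw [Subgroup.orderOf_mk]
    have := (MulAut.conj g).orderOf_eq (H.subtype k₀)
    rw [MulAut.conj_apply] at this
    rw [this]
    exact Subgroup.orderOf_coe k₀
  have hdvd : orderOf k₀ ∣ Nat.card ↥K := by
    have := orderOf_dvd_natCard (⟨k₀, hk₀⟩ : ↥K)
    rwa [Subgroup.orderOf_mk] at this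
  have hcop : Nat.Coprime K.index (orderOf (⟨g * (H.subtype k₀) * g⁻¹, hmemH⟩ : ↥H)) := by
    rw [hord, hj]
    apply Nat.Coprime.pow_left
    rw [Nat.Prime.coprime_iff_not_dvd Nat.prime_two]
    intro h2
    exact hKodd (h2.trans hdvd)
  obtain ⟨m, hm⟩ := exists_pow_eq_self_of_coprime hcop
  have hmem : (⟨g * (H.subtype k₀) * g⁻¹, hmemH⟩ : ↥H) ∈ K := by
    rw [← hm]
    exact pow_mem (K.pow_index_mem _) m
  exact ⟨_, hmem, rfl⟩

/-- A finite group with a cyclic 2-subgroup of odd index has a normal 2-complement. -/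
theorem hasNormalPComplement_of_cyclic {G : Type*} [Group G] [Finite G]
    (C : Subgroup G) (hcyc : IsCyclic ↥C) (h2 : IsPGroup 2 ↥C) (hodd : ¬ 2 ∣ C.index) :
    Cfsg.HasNormalPComplement 2 G := by
  have : Fact (Nat.Prime 2) := ⟨Nat.prime_two⟩
  by_cases hev : 2 ∣ Nat.card G
  · have hmin : (Nat.card G).minFac = 2 := (Nat.minFac_eq_two_iff _).mpr hev
    have hcyc' : IsCyclic ↥((h2.toSylow hodd : Sylow 2 G) : Subgroup G) := hcyc
    have hP := IsCyclic.normalizer_le_centralizer hmin hcyc'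
    exact ⟨h2.toSylow hodd, (MonoidHom.transferSylow (h2.toSylow hodd) hP).ker, inferInstance,
      MonoidHom.ker_transferSylow_isComplement' (h2.toSylow hodd) hP⟩
  · refine hasNormalPComplement_of_odd_card ⊤ inferInstance ?_ 0 (by simp)
    rw [Subgroup.card_top]
    exact hev

end Cfsg.Agent.Helper53
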