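import Mathlib
import Cfsg.Agent.Lib.Helper86.TwoGroupAut

set_option autoImplicit false

namespace Cfsg.Agent.Helper53

/-- An element of odd order normalizing a subgroup whose automorphism group is a `2`-group
centralizes that subgroup. -/
theorem conj_eq_of_isPGroup_mulAut {G : Type*} [Group G] (Q : Subgroup G) (g : G)
    (hg : g ∈ Subgroup.normalizer (Q : Set G)) (hodd : Odd (orderOf g))
    (hA : IsPGroup 2 (MulAut Q)) : ∀ q ∈ Q, g * q * g⁻¹ = q := by
  intro q hq
  let N := Subgroup.normalizer (Q : Set G)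
  let e : Q.subgroupOf N ≃* Q := Subgroup.subgroupOfEquivOfLe Subgroup.le_normalizer
  have hA' : IsPGroup 2 (MulAut (Q.subgroupOf N)) := hA.of_equiv (MulAut.congr e).symm
  let α : MulAut (Q.subgroupOf N) := MulAut.conjNormal (⟨g, hg⟩ : N)
  have h1 : orderOf α ∣ orderOf g := by
    have := orderOf_map_dvd (MulAut.conjNormal (H := Q.subgroupOf N)) (⟨g, hg⟩ : N)
    rwa [Subgroup.orderOf_mk] at this
  obtain ⟨j, hj⟩ := IsPGroup.iff_orderOf.mp hA' α
  have hα : α = 1 := by
    rcases j with _ | j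
    · rw [pow_zero] at hj
      exact orderOf_eq_one_iff.mp hj
    · exfalso
      rw [hj] at h1
      have h2 : 2 ∣ orderOf g := dvd_trans (dvd_pow_self 2 (Nat.succ_ne_zero j)) h1
      obtain ⟨m, hm⟩ := hodd
      omega
  have hqN : q ∈ N := Subgroup.le_normalizer hq
  let q' : Q.subgroupOf N := ⟨⟨q, hqN⟩, Subgroup.mem_subgroupOf.mpr hq⟩
  have h3 : α q' = q' := by rw [hα]; rfl
  have h4 : ((α q' : Q.subgroupOf N) : N) = (⟨g, hg⟩ : N) * (q' : N) * (⟨g, hg⟩ : N)⁻¹ :=
    MulAut.conjNormal_apply _ _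
  rw [h3] at h4
  have h5 := congrArg (Subtype.val : N → G) h4
  exact h5.symm

/-- The automorphism group of a finite cyclic `2`-group is a `2`-group. -/
theorem isPGroup_mulAut_of_isCyclic {Q : Type*} [Group Q] [Finite Q] (hQ : IsPGroup 2 Q)
    (hc : IsCyclic Q) : IsPGroup 2 (MulAut Q) := by
  haveI : Fact (Nat.Prime 2) := ⟨Nat.prime_two⟩
  obtain ⟨m, hm⟩ := IsPGroup.iff_card.mp hQ
  have h1 := IsCyclic.card_mulAut Q
  rw [hm] at h1
  rcases m with _ | m
  · rw [pow_zero, Nat.totient_one] at h1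
    exact IsPGroup.of_card (n := 0) (by rw [h1, pow_zero])
  · rw [Nat.totient_prime_pow Nat.prime_two (Nat.succ_pos m)] at h1
    exact IsPGroup.of_card (n := m) (by rw [h1]; simp)

/-- The automorphism group of a generalized quaternion group of order at least `16` is a
`2`-group. -/
theorem isPGroup_mulAut_of_quaternion {Q : Type*} [Group Q] (k : ℕ) (hk : 2 ≤ k)
    (e : Q ≃* QuaternionGroup (2 ^ k)) : IsPGroup 2 (MulAut Q) :=
  (Cfsg.Agent.Helper86.quaternion_aut_isPGroup k hk).of_equiv (MulAut.congr e).symm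

end Cfsg.Agent.Helper53
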