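import Mathlib
import Cfsg.Agent.Lib.Helper53.UniqueInvol4

set_option autoImplicit false

namespace Cfsg.Agent.Helper53

/-- `quatMap` is multiplicative when the quaternion relations hold. -/
theorem quatMap_mul {G : Type*} [Group G] (n : ℕ) [NeZero n] (a g : G) (hpow : a ^ (2 * n) = 1)
    (hconj : g * a * g⁻¹ = a⁻¹) (hsq : g * g = a ^ n) (x y : QuaternionGroup n) :
    quatMap n a g (x * y) = quatMap n a g x * quatMap n a g y := by
  have hinv : ∀ i : ZMod (2 * n), zmp (2 * n) a i * g = g * (zmp (2 * n) a i)⁻¹ := by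
    intro i
    unfold zmp
    have h1 : g⁻¹ * a * g = a⁻¹ := by
      have e : g⁻¹ * a⁻¹ * g = a := by
        calc g⁻¹ * a⁻¹ * g = g⁻¹ * (g * a * g⁻¹) * g := by rw [hconj]
          _ = a := by group
      calc g⁻¹ * a * g = (g⁻¹ * a⁻¹ * g)⁻¹ := by group
        _ = a⁻¹ := by rw [e]
    have h2 : g⁻¹ * a ^ (i.cast : ℤ) * g = (a ^ (i.cast : ℤ))⁻¹ := by
      have := conj_zpow (a := g⁻¹) (b := a) (i := (i.cast : ℤ))
      rw [inv_inv] at this
      rw [← this, h1, inv_zpow]
    calc a ^ (i.cast : ℤ) * g = g * (g⁻¹ * a ^ (i.cast : ℤ) * g) := by group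
      _ = g * (a ^ (i.cast : ℤ))⁻¹ := by rw [h2]
  rcases x with i | i <;> rcases y with j | j
  · simp only [QuaternionGroup.a_mul_a, quatMap]
    exact zmp_add hpow i j
  · simp only [QuaternionGroup.a_mul_xa, quatMap]
    rw [zmp_sub hpow, ← mul_assoc (zmp (2 * n) a i), hinv i, ← zmp_neg hpow, mul_assoc,
      zmp_comm j]
  · simp only [QuaternionGroup.xa_mul_a, quatMap]
    rw [zmp_add hpow, mul_assoc]
  · simp only [QuaternionGroup.xa_mul_xa, quatMap]
    rw [zmp_sub hpow, zmp_add hpow, zmp_natCast hpow, ← hsq]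
    calc g * g * zmp (2 * n) a j * (zmp (2 * n) a i)⁻¹
        = g * (g * (zmp (2 * n) a i)⁻¹) * zmp (2 * n) a j := by
          have h3 : zmp (2 * n) a j * (zmp (2 * n) a i)⁻¹ =
              (zmp (2 * n) a i)⁻¹ * zmp (2 * n) a j := by
            rw [← zmp_neg hpow, zmp_comm]
          rw [mul_assoc (g * g), h3]; group
      _ = g * (zmp (2 * n) a i * g) * zmp (2 * n) a j := by rw [hinv i]
      _ = g * zmp (2 * n) a i * (g * zmp (2 * n) a j) := by group

/-- The homomorphism from the quaternion group defined by a pair satisfying the relations. -/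
noncomputable def quatHom {G : Type*} [Group G] (n : ℕ) [NeZero n] (a g : G)
    (hpow : a ^ (2 * n) = 1) (hconj : g * a * g⁻¹ = a⁻¹) (hsq : g * g = a ^ n) :
    QuaternionGroup n →* G :=
  MonoidHom.mk' (quatMap n a g) (quatMap_mul n a g hpow hconj hsq)

theorem quatHom_apply {G : Type*} [Group G] (n : ℕ) [NeZero n] (a g : G)
    (hpow : a ^ (2 * n) = 1) (hconj : g * a * g⁻¹ = a⁻¹) (hsq : g * g = a ^ n)
    (x : QuaternionGroup n) : quatHom n a g hpow hconj hsq x = quatMap n a g x := rfl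

/-- compatibility of `quatMap` with homomorphisms. -/
theorem map_quatMap {G H : Type*} [Group G] [Group H] (f : G →* H) (n : ℕ) (a g : G)
    (x : QuaternionGroup n) : f (quatMap n a g x) = quatMap n (f a) (f g) x := by
  rcases x with i | i
  · simp only [quatMap, zmp, map_zpow]
  · simp only [quatMap, zmp, map_zpow, map_mul]

/-- For a group of quaternion type, `quatMap` is a bijection. -/
theorem QuatType.quatMap_bijective {G : Type*} [Group G] {k : ℕ} {a g : G} (h : QuatType k a g) :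
    Function.Bijective (quatMap (2 ^ (k - 1)) a g) := by
  obtain ⟨k', rfl⟩ : ∃ k', k = k' + 1 := ⟨k - 1, by have := h.two_le; omega⟩
  rw [Nat.add_sub_cancel]
  have h2n : 2 * 2 ^ k' = 2 ^ (k' + 1) := by rw [pow_succ]; ring
  have hne : NeZero (2 * 2 ^ k') := ⟨by positivity⟩
  have hord : orderOf a = 2 * 2 ^ k' := by rw [h.orderOf_a, h2n]
  have hpow : a ^ (2 * 2 ^ k') = 1 := by rw [← hord]; exact pow_orderOf_eq_one a
  have hsq : g * g = a ^ 2 ^ k' := by
    have := h.sq
    rwa [Nat.add_sub_cancel] at this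
  have hinj : Function.Injective (quatHom (2 ^ k') a g hpow h.conj hsq) := by
    rw [injective_iff_map_eq_one]
    rintro (i | i) hi
    · have : zmp (2 * 2 ^ k') a i = 1 := hi
      rw [zmp_eq_one_iff hord] at this
      rw [this]; rfl
    · exfalso
      have : g * zmp (2 * 2 ^ k') a i = 1 := hi
      apply h.g_not_mem
      have e : g = (zmp (2 * 2 ^ k') a i)⁻¹ := eq_inv_of_mul_eq_one_left this
      rw [e]
      exact inv_mem (zmp_mem i)
  refine ⟨hinj, ?_⟩
  intro x
  rcases h.cover x with hx | ⟨y, hy, rfl⟩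
  · obtain ⟨i, rfl⟩ := exists_zmp_of_mem_zpowers hpow hx
    exact ⟨QuaternionGroup.a i, rfl⟩
  · obtain ⟨i, rfl⟩ := exists_zmp_of_mem_zpowers hpow hy
    exact ⟨QuaternionGroup.xa i, rfl⟩

/-- In a group of quaternion type the central elements have square one. -/
theorem QuatType.sq_eq_one_of_mem_center {G : Type*} [Group G] {k : ℕ} {a g : G}
    (h : QuatType k a g) (x : G) (hx : x ∈ Subgroup.center G) : x * x = 1 := by
  rw [Subgroup.mem_center_iff] at hx
  rcases h.cover x with hxa | ⟨y, hy, rfl⟩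
  · obtain ⟨i, rfl⟩ := hxa
    have h1 : g * a ^ i * g⁻¹ = (a ^ i)⁻¹ := by
      change g * a ^ (i : ℤ) * g⁻¹ = (a ^ (i : ℤ))⁻¹
      rw [← conj_zpow, h.conj, inv_zpow]
    have h2 : g * a ^ i * g⁻¹ = a ^ i := by
      have := hx g
      calc g * a ^ i * g⁻¹ = (a ^ i * g) * g⁻¹ := by rw [this]
        _ = a ^ i := by group
    have h3 : (a ^ i)⁻¹ = a ^ i := by rw [← h1, h2]
    calc a ^ i * a ^ i = (a ^ i)⁻¹ * a ^ i := by rw [h3]
      _ = 1 := by group
  · exfalso
    obtain ⟨i, rfl⟩ := hy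
    have h1 := hx a
    have h2 : a * g = g * a⁻¹ := by
      have := h.conj
      have e : g * a⁻¹ * g⁻¹ = a := by
        calc g * a⁻¹ * g⁻¹ = (g * a * g⁻¹)⁻¹ := by group
          _ = a⁻¹⁻¹ := by rw [this]
          _ = a := inv_inv a
      calc a * g = (g * a⁻¹ * g⁻¹) * g := by rw [e]
        _ = g * a⁻¹ := by group
    have h3 : g * a⁻¹ * a ^ i = g * a ^ i * a := by
      have e : a * (g * a ^ i) = g * a⁻¹ * a ^ i := by
        rw [← mul_assoc, h2]
      change a * (g * a ^ (i : ℤ)) = g * a ^ (i : ℤ) * a at h1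
      change a * (g * a ^ (i : ℤ)) = g * a⁻¹ * a ^ (i : ℤ) at e
      change g * a⁻¹ * a ^ (i : ℤ) = g * a ^ (i : ℤ) * a
      rw [← e, h1]
    have h4 : a * a = 1 := by
      have e1 : a⁻¹ * a ^ (i : ℤ) = a ^ (i : ℤ) * a := by
        have := mul_left_cancel (a := g) (by simpa [mul_assoc] using h3 :
          g * (a⁻¹ * a ^ (i : ℤ)) = g * (a ^ (i : ℤ) * a))
        exact this
      have e2 : a ^ (i : ℤ) * a = a * a ^ (i : ℤ) :=
        ((Commute.refl a).zpow_left i).eq
      have e3 : a⁻¹ * a ^ (i : ℤ) = a * a ^ (i : ℤ) := by rw [e1, e2]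
      have e4 : a⁻¹ = a := mul_right_cancel e3
      calc a * a = a⁻¹ * a := by rw [e4]
        _ = 1 := by group
    have h5 : orderOf a ∣ 2 := orderOf_dvd_of_pow_eq_one (by rw [pow_two]; exact h4)
    rw [h.orderOf_a] at h5
    have h6 : 2 ^ 2 ≤ 2 ^ k := Nat.pow_le_pow_right (by norm_num) h.two_le
    have := Nat.le_of_dvd (by norm_num) h5
    omega

end Cfsg.Agent.Helper53
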