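import Mathlib
import Cfsg.Agent.Lib.Helper53.UniqueInvol5
import Cfsg.Agent.Lib.Helper5.SL23

set_option autoImplicit false

/-!
# Recognition of `SL(2,3)` as `Q8 ⋊ C3`

A group generated by `i, j, y` with the relations of `Q8 ⋊ C3` in which `i ^ 2 ≠ 1` is
isomorphic to `SL(2, ZMod 3)`.
-/

namespace Cfsg.Agent.Helper53

open QuaternionGroup

/-- The automorphism of order three of the quaternion group of order `8`, as a function. -/
def q8sig : QuaternionGroup 2 → QuaternionGroup 2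
  | .a k => match k.val with
    | 0 => .a 0
    | 1 => .xa 0
    | 2 => .a 2
    | _ => .xa 2
  | .xa k => match k.val with
    | 0 => .xa 3
    | 1 => .a 3
    | 2 => .xa 1
    | _ => .a 1

/-- The action of `ZMod 3` on the quaternion group of order `8`. -/
def q8act (t : ZMod 3) (x : QuaternionGroup 2) : QuaternionGroup 2 := q8sig^[t.val] x

set_option maxRecDepth 100000 in
theorem q8act_mul : ∀ (t : ZMod 3) (x y : QuaternionGroup 2),
    q8act t (x * y) = q8act t x * q8act t y := by decide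

set_option maxRecDepth 100000 in
theorem q8act_add : ∀ (s t : ZMod 3) (x : QuaternionGroup 2),
    q8act (s + t) x = q8act s (q8act t x) := by decide

set_option maxRecDepth 100000 in
theorem q8act_zero : ∀ (x : QuaternionGroup 2), q8act 0 x = x := by decide

set_option maxRecDepth 100000 in
theorem q8act_faithful : ∀ (t : ZMod 3), (∀ x : QuaternionGroup 2, q8act t x = x) → t = 0 := by
  decide

set_option maxRecDepth 100000 in
theorem q8_pow_four : ∀ (x : QuaternionGroup 2), x ^ 4 = 1 := by decide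

set_option maxRecDepth 100000 in
theorem q8_sq_eq : ∀ (x : QuaternionGroup 2), x ≠ 1 → x = a 2 ∨ x * x = a 2 := by decide

set_option maxRecDepth 100000 in
theorem q8_gen : ∀ (x : QuaternionGroup 2), ∃ (e k : Fin 4), x = (xa 0) ^ e.val * (a 1) ^ k.val := by
  decide

/-- The action as a homomorphism into the automorphism group. -/
def q8phi : Multiplicative (ZMod 3) →* MulAut (QuaternionGroup 2) where
  toFun t :=
    { toFun := q8act (Multiplicative.toAdd t)
      invFun := q8act (-(Multiplicative.toAdd t))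
      left_inv := fun x => by rw [← q8act_add, neg_add_cancel, q8act_zero]
      right_inv := fun x => by rw [← q8act_add, add_neg_cancel, q8act_zero]
      map_mul' := q8act_mul _ }
  map_one' := by
    ext x
    exact q8act_zero x
  map_mul' s t := by
    ext x
    exact q8act_add _ _ x

theorem q8phi_apply (t : Multiplicative (ZMod 3)) (x : QuaternionGroup 2) :
    q8phi t x = q8act (Multiplicative.toAdd t) x := rfl

/-- The model `Q8 ⋊ C3` of `SL(2,3)`. -/
abbrev SL23Model : Type := QuaternionGroup 2 ⋊[q8phi] Multiplicative (ZMod 3)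

theorem card_SL23Model : Nat.card SL23Model = 24 := by
  rw [SemidirectProduct.card, Nat.card_eq_fintype_card, QuaternionGroup.card,
    Nat.card_eq_fintype_card, Fintype.card_multiplicative, ZMod.card]

section recog

variable {X : Type*} [Group X] (i j y : X)

/-- the homomorphism from `C3`. -/
noncomputable def c3Hom (hy3 : y ^ 3 = 1) : Multiplicative (ZMod 3) →* X :=
  MonoidHom.mk' (fun t => zmp 3 y (Multiplicative.toAdd t)) (by
    intro s t
    simp only [toAdd_mul]
    exact zmp_add hy3 _ _)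

theorem c3Hom_apply (hy3 : y ^ 3 = 1) (t : Multiplicative (ZMod 3)) :
    c3Hom y hy3 t = y ^ (Multiplicative.toAdd t).val := by
  change zmp 3 y (Multiplicative.toAdd t) = _
  unfold zmp
  rw [← ZMod.natCast_val, zpow_natCast]

theorem iterate_compat (f : QuaternionGroup 2 →* X)
    (h : ∀ x, f (q8sig x) = y * f x * y⁻¹) (k : ℕ) (x : QuaternionGroup 2) :
    f (q8sig^[k] x) = y ^ k * f x * (y ^ k)⁻¹ := by
  induction k generalizing x with
  | zero => simp
  | succ k ih =>
    rw [Function.iterate_succ_apply, ih, h, pow_succ]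
    group

theorem q8_hom_ext (A B : QuaternionGroup 2 →* X) (h1 : A (a 1) = B (a 1))
    (h2 : A (xa 0) = B (xa 0)) (x : QuaternionGroup 2) : A x = B x := by
  obtain ⟨e, k, rfl⟩ := q8_gen x
  simp only [map_mul, map_pow, h1, h2]

variable (h4 : i ^ (2 * 2) = 1) (hsq : j * j = i ^ 2) (hconj : j * i * j⁻¹ = i⁻¹)

theorem quatHom_a_one : quatHom 2 i j h4 hconj hsq (a 1) = i := by
  rw [quatHom_apply]
  change zmp (2 * 2) i 1 = i
  have := zmp_natCast (N := 2 * 2) h4 1
  simpa using this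

theorem quatHom_xa_zero : quatHom 2 i j h4 hconj hsq (xa 0) = j := by
  rw [quatHom_apply]
  change j * zmp (2 * 2) i 0 = j
  rw [zmp_zero, mul_one]

theorem quatHom_a_two : quatHom 2 i j h4 hconj hsq (a 2) = i ^ 2 := by
  rw [quatHom_apply]
  change zmp (2 * 2) i 2 = i ^ 2
  have := zmp_natCast (N := 2 * 2) h4 2
  simpa using this

theorem quatHom_xa_three : quatHom 2 i j h4 hconj hsq (xa 3) = j * i ^ 3 := by
  rw [quatHom_apply]
  change j * zmp (2 * 2) i 3 = j * i ^ 3
  have := zmp_natCast (N := 2 * 2) h4 3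
  rw [← this]
  rfl

theorem quatHom_injective_of_ne (hne : i ^ 2 ≠ 1) :
    Function.Injective (quatHom 2 i j h4 hconj hsq) := by
  rw [injective_iff_map_eq_one]
  intro q hq
  by_contra hq1
  apply hne
  rw [← quatHom_a_two i j h4 hsq hconj]
  rcases q8_sq_eq q hq1 with h | h
  · rw [← h, hq]
  · rw [← h, map_mul, hq, mul_one]

theorem quatHom_sig (hy1 : y * i * y⁻¹ = j) (hy2 : y * j * y⁻¹ = i * j) (x : QuaternionGroup 2) :
    quatHom 2 i j h4 hconj hsq (q8sig x) = y * quatHom 2 i j h4 hconj hsq x * y⁻¹ := by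
  have key := q8_hom_ext
    ((quatHom 2 i j h4 hconj hsq).comp (q8phi (Multiplicative.ofAdd 1)).toMonoidHom)
    ((MulAut.conj y).toMonoidHom.comp (quatHom 2 i j h4 hconj hsq)) ?_ ?_ x
  · exact key
  · change quatHom 2 i j h4 hconj hsq (xa 0) = y * quatHom 2 i j h4 hconj hsq (a 1) * y⁻¹
    rw [quatHom_xa_zero, quatHom_a_one, hy1]
  · change quatHom 2 i j h4 hconj hsq (xa 3) = y * quatHom 2 i j h4 hconj hsq (xa 0) * y⁻¹
    rw [quatHom_xa_zero, quatHom_xa_three, hy2]
    have e1 : i ^ 3 = i⁻¹ := by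
      rw [eq_inv_iff_mul_eq_one, ← pow_succ]
      exact h4
    have e2 : j * i = i⁻¹ * j := by
      rw [← hconj]; group
    rw [e1]
    calc j * i⁻¹ = i * (i⁻¹ * j) * i⁻¹ := by group
      _ = i * (j * i) * i⁻¹ := by rw [e2]
      _ = i * j := by group

theorem quatHom_compat (hy1 : y * i * y⁻¹ = j) (hy2 : y * j * y⁻¹ = i * j)
    (hy3 : y ^ 3 = 1) (t : Multiplicative (ZMod 3)) :
    (quatHom 2 i j h4 hconj hsq).comp (q8phi t).toMonoidHom =
      (MulAut.conj (c3Hom y hy3 t)).toMonoidHom.comp (quatHom 2 i j h4 hconj hsq) := by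
  ext x
  change quatHom 2 i j h4 hconj hsq (q8sig^[(Multiplicative.toAdd t).val] x) =
    c3Hom y hy3 t * quatHom 2 i j h4 hconj hsq x * (c3Hom y hy3 t)⁻¹
  rw [c3Hom_apply]
  exact iterate_compat y _ (quatHom_sig i j y h4 hsq hconj hy1 hy2) _ x

/-- The homomorphism from the model to a group with the relations. -/
noncomputable def modelHom (hy1 : y * i * y⁻¹ = j) (hy2 : y * j * y⁻¹ = i * j)
    (hy3 : y ^ 3 = 1) : SL23Model →* X :=
  SemidirectProduct.lift (quatHom 2 i j h4 hconj hsq) (c3Hom y hy3)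
    (quatHom_compat i j y h4 hsq hconj hy1 hy2 hy3)

theorem modelHom_apply (hy1 : y * i * y⁻¹ = j) (hy2 : y * j * y⁻¹ = i * j)
    (hy3 : y ^ 3 = 1) (m : SL23Model) :
    modelHom i j y h4 hsq hconj hy1 hy2 hy3 m =
      quatHom 2 i j h4 hconj hsq m.left * c3Hom y hy3 m.right := rfl

theorem modelHom_injective (hy1 : y * i * y⁻¹ = j) (hy2 : y * j * y⁻¹ = i * j)
    (hy3 : y ^ 3 = 1) (hne : i ^ 2 ≠ 1) :
    Function.Injective (modelHom i j y h4 hsq hconj hy1 hy2 hy3) := by
  have hinj := quatHom_injective_of_ne i j h4 hsq hconj hne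
  rw [injective_iff_map_eq_one]
  intro m hm
  rw [modelHom_apply] at hm
  set u := quatHom 2 i j h4 hconj hsq m.left with hu
  set v := c3Hom y hy3 m.right with hv
  have hu4 : u ^ 4 = 1 := by rw [hu, ← map_pow, q8_pow_four, map_one]
  have hv3 : v ^ 3 = 1 := by
    rw [hv, c3Hom_apply, ← pow_mul, mul_comm, pow_mul, hy3, one_pow]
  have huv : u = v⁻¹ := eq_inv_of_mul_eq_one_left hm
  have hu3 : u ^ 3 = 1 := by rw [huv, inv_pow, hv3, inv_one]
  have hu1 : u = 1 := by
    calc u = u ^ 4 * (u ^ 3)⁻¹ := by group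
      _ = 1 := by rw [hu4, hu3]; simp
  have hv1 : v = 1 := by rw [hu1] at huv; exact inv_eq_one.mp huv.symm
  have hl : m.left = 1 := by
    apply hinj
    rw [map_one]
    exact hu1
  have hr : Multiplicative.toAdd m.right = 0 := by
    apply q8act_faithful
    intro x
    apply hinj
    have := DFunLike.congr_fun (quatHom_compat i j y h4 hsq hconj hy1 hy2 hy3 m.right) x
    change quatHom 2 i j h4 hconj hsq (q8act (Multiplicative.toAdd m.right) x) =
      v * quatHom 2 i j h4 hconj hsq x * v⁻¹ at this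
    rw [this, hv1]
    simp
  apply SemidirectProduct.ext
  · rw [hl]; rfl
  · rw [SemidirectProduct.one_right]
    exact hr

theorem modelHom_inl_a_one (hy1 : y * i * y⁻¹ = j) (hy2 : y * j * y⁻¹ = i * j)
    (hy3 : y ^ 3 = 1) :
    modelHom i j y h4 hsq hconj hy1 hy2 hy3 (SemidirectProduct.inl (a 1)) = i := by
  unfold modelHom
  rw [SemidirectProduct.lift_inl, quatHom_a_one]

theorem modelHom_inl_xa_zero (hy1 : y * i * y⁻¹ = j) (hy2 : y * j * y⁻¹ = i * j)
    (hy3 : y ^ 3 = 1) :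
    modelHom i j y h4 hsq hconj hy1 hy2 hy3 (SemidirectProduct.inl (xa 0)) = j := by
  unfold modelHom
  rw [SemidirectProduct.lift_inl, quatHom_xa_zero]

theorem modelHom_inr_one (hy1 : y * i * y⁻¹ = j) (hy2 : y * j * y⁻¹ = i * j)
    (hy3 : y ^ 3 = 1) :
    modelHom i j y h4 hsq hconj hy1 hy2 hy3
      (SemidirectProduct.inr (Multiplicative.ofAdd 1)) = y := by
  unfold modelHom
  rw [SemidirectProduct.lift_inr, c3Hom_apply]
  change y ^ (1 : ZMod 3).val = y
  rw [ZMod.val_one, pow_one]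

end recog

/-- A group generated by `i, j, y` subject to the relations of `Q8 ⋊ C3`, in which `i ^ 2 ≠ 1`,
is isomorphic to the model. -/
theorem nonempty_model_mulEquiv {X : Type*} [Group X] (i j y : X)
    (h4 : i ^ (2 * 2) = 1) (hsq : j * j = i ^ 2) (hconj : j * i * j⁻¹ = i⁻¹)
    (hy1 : y * i * y⁻¹ = j) (hy2 : y * j * y⁻¹ = i * j)
    (hy3 : y ^ 3 = 1) (hne : i ^ 2 ≠ 1) (hgen : Subgroup.closure {i, j, y} = ⊤) :
    Nonempty (SL23Model ≃* X) := by
  refine ⟨MulEquiv.ofBijective (modelHom i j y h4 hsq hconj hy1 hy2 hy3)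
    ⟨modelHom_injective i j y h4 hsq hconj hy1 hy2 hy3 hne, ?_⟩⟩
  rw [← MonoidHom.range_eq_top, eq_top_iff, ← hgen, Subgroup.closure_le]
  intro x hx
  simp only [Set.mem_insert_iff, Set.mem_singleton_iff] at hx
  rcases hx with rfl | rfl | rfl
  · exact ⟨_, modelHom_inl_a_one x j y h4 hsq hconj hy1 hy2 hy3⟩
  · exact ⟨_, modelHom_inl_xa_zero i x y h4 hsq hconj hy1 hy2 hy3⟩
  · exact ⟨_, modelHom_inr_one i j x h4 hsq hconj hy1 hy2 hy3⟩

open Cfsg.Agent.Helper5 in
/-- the element of order three of `SL(2,3)` used for the recognition. -/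
def sl23Y : SL23 := ⟨!![1, 1; 0, 1], by decide⟩

set_option maxRecDepth 100000 in
open Cfsg.Agent.Helper5 in
theorem sl23_relations : qA ^ (2 * 2) = 1 ∧ qX * qX = qA ^ 2 ∧ qX * qA * qX⁻¹ = qA⁻¹ ∧
    sl23Y * qA * sl23Y⁻¹ = qX ∧ sl23Y * qX * sl23Y⁻¹ = qA * qX ∧ sl23Y ^ 3 = 1 ∧ qA ^ 2 ≠ 1 := by
  decide

open Cfsg.Agent.Helper5 in
/-- The model is isomorphic to `SL(2,3)`. -/
theorem nonempty_model_mulEquiv_SL23 :
    Nonempty (SL23Model ≃* Matrix.SpecialLinearGroup (Fin 2) (ZMod 3)) := by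
  obtain ⟨h4, hsq, hconj, hy1, hy2, hy3, hne⟩ := sl23_relations
  refine ⟨MulEquiv.ofBijective (modelHom qA qX sl23Y h4 hsq hconj hy1 hy2 hy3) ?_⟩
  apply Function.Injective.bijective_of_nat_card_le
    (modelHom_injective qA qX sl23Y h4 hsq hconj hy1 hy2 hy3 hne)
  rw [card_SL23Model]
  exact card_SL23.le

/-- **Recognition of `SL(2,3)`**: a group generated by `i, j, y` with `i ^ 4 = 1`, `j ^ 2 = i ^ 2`,
`j i j⁻¹ = i⁻¹`, `y i y⁻¹ = j`, `y j y⁻¹ = i j`, `y ^ 3 = 1` and `i ^ 2 ≠ 1` is isomorphic to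
`SL(2, 3)`. -/
theorem nonempty_mulEquiv_SL23_of_relations {X : Type*} [Group X] (i j y : X)
    (h4 : i ^ (2 * 2) = 1) (hsq : j * j = i ^ 2) (hconj : j * i * j⁻¹ = i⁻¹)
    (hy1 : y * i * y⁻¹ = j) (hy2 : y * j * y⁻¹ = i * j)
    (hy3 : y ^ 3 = 1) (hne : i ^ 2 ≠ 1) (hgen : Subgroup.closure {i, j, y} = ⊤) :
    Nonempty (X ≃* Matrix.SpecialLinearGroup (Fin 2) (ZMod 3)) := by
  obtain ⟨e1⟩ := nonempty_model_mulEquiv i j y h4 hsq hconj hy1 hy2 hy3 hne hgen
  obtain ⟨e2⟩ := nonempty_model_mulEquiv_SL23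
  exact ⟨e1.symm.trans e2⟩

end Cfsg.Agent.Helper53
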