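import Mathlib
import Cfsg.Agent.Lib.Helper53.SL23Model

set_option autoImplicit false

/-!
# Odd order automorphisms of `Q8` induced by conjugation

If an element `g` of odd order normalizes but does not centralize a subgroup `Q ≅ Q8`, then there are
`i, j ∈ Q` and `y ∈ {g, g⁻¹}` satisfying the relations of `Q8 ⋊ C3` (except possibly `y ^ 3 = 1`).
-/

namespace Cfsg.Agent.Helper53

open QuaternionGroup

/-- The endomorphism of the quaternion group determined by the images of the generators. -/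
def q8F (u v : QuaternionGroup 2) : QuaternionGroup 2 → QuaternionGroup 2
  | .a k => u ^ k.val
  | .xa k => v * u ^ k.val

set_option maxRecDepth 1000000 in
set_option maxHeartbeats 4000000 in
set_option synthInstance.maxHeartbeats 2000000 in
set_option synthInstance.maxSize 4096 in
theorem q8F_brute : ∀ u v : QuaternionGroup 2,
    (∀ x y, q8F u v (x * y) = q8F u v x * q8F u v y) →
    (∀ x y, q8F u v x = q8F u v y → x = y) →
    (∀ x, q8F u v (q8F u v (q8F u v (q8F u v x))) = x → q8F u v x = x) →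
    (∃ x, q8F u v x ≠ x) →
    ∃ x y, x * x ≠ 1 ∧ y * y = x * x ∧ y * x * y⁻¹ = x⁻¹ ∧
      ((q8F u v x = y ∧ q8F u v y = x * y) ∨ (q8F u v y = x ∧ q8F u v (x * y) = y)) := by
  decide

set_option maxRecDepth 100000 in
theorem q8F_id : ∀ x : QuaternionGroup 2, q8F (a 1) (xa 0) x = x := by decide

theorem hom_eq_q8F (β : QuaternionGroup 2 →* QuaternionGroup 2) (x : QuaternionGroup 2) :
    β x = q8F (β (a 1)) (β (xa 0)) x := by
  conv_lhs => rw [← q8F_id x]
  rcases x with k | k
  · simp only [q8F, map_pow]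
  · simp only [q8F, map_mul, map_pow]

/-- Abstract form: an injective endomorphism `β` of `Q8` of "odd order" which is not the identity. -/
theorem q8_hom_odd (β : QuaternionGroup 2 →* QuaternionGroup 2) (hinj : Function.Injective β)
    (h4 : ∀ x, β (β (β (β x))) = x → β x = x) (hne : ∃ x, β x ≠ x) :
    ∃ x y, x * x ≠ 1 ∧ y * y = x * x ∧ y * x * y⁻¹ = x⁻¹ ∧
      ((β x = y ∧ β y = x * y) ∨ (β y = x ∧ β (x * y) = y)) := by
  have key := q8F_brute (β (a 1)) (β (xa 0))
  simp only [← hom_eq_q8F β] at key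
  exact key (fun x y => map_mul β x y) (fun x y h => hinj h) h4 hne

/-- Conjugation by an element of the normalizer, as an endomorphism of the subgroup. -/
def conjHom {G : Type*} [Group G] (Q : Subgroup G) (g : G)
    (hg : g ∈ Subgroup.normalizer (Q : Set G)) : Q →* Q where
  toFun q := ⟨g * q * g⁻¹, (Subgroup.mem_normalizer_iff.mp hg q).mp q.2⟩
  map_one' := by ext; simp
  map_mul' a b := by ext; simp

theorem conjHom_coe {G : Type*} [Group G] (Q : Subgroup G) (g : G)
    (hg : g ∈ Subgroup.normalizer (Q : Set G)) (q : Q) :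
    ((conjHom Q g hg q : Q) : G) = g * q * g⁻¹ := rfl

/-- If `g` of odd order normalizes but does not centralize `Q ≅ Q8`, we find the relations of
`Q8 ⋊ C3`. -/
theorem exists_q8_relations {G : Type*} [Group G] (Q : Subgroup G)
    (e : Q ≃* QuaternionGroup 2) (g : G) (hg : g ∈ Subgroup.normalizer (Q : Set G))
    (hodd : Odd (orderOf g)) (hnc : ¬ ∀ q ∈ Q, g * q * g⁻¹ = q) :
    ∃ i j y : G, i ^ (2 * 2) = 1 ∧ j * j = i ^ 2 ∧ j * i * j⁻¹ = i⁻¹ ∧ y * i * y⁻¹ = j ∧
      y * j * y⁻¹ = i * j ∧ Odd (orderOf y) ∧ i ^ 2 ≠ 1 := by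
  let f : QuaternionGroup 2 →* G := Q.subtype.comp e.symm.toMonoidHom
  have hf : Function.Injective f := by
    intro x y h
    apply e.symm.injective
    exact Subtype.ext h
  let β : QuaternionGroup 2 →* QuaternionGroup 2 :=
    e.toMonoidHom.comp ((conjHom Q g hg).comp e.symm.toMonoidHom)
  have hfβ : ∀ x, f (β x) = g * f x * g⁻¹ := by
    intro x
    change ((e.symm (e (conjHom Q g hg (e.symm x))) : Q) : G) = g * ((e.symm x : Q) : G) * g⁻¹
    rw [MulEquiv.symm_apply_apply, conjHom_coe]
  have hβinj : Function.Injective β := by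
    intro x y h
    apply hf
    have h1 := hfβ x
    rw [h, hfβ y] at h1
    have h2 : f y = f x := by
      have := congrArg (fun t => g⁻¹ * t * g) h1
      simpa [mul_assoc] using this
    exact h2.symm
  have hβ4 : ∀ x, β (β (β (β x))) = x → β x = x := by
    intro x hx
    apply hf
    rw [hfβ]
    have h1 : g ^ 4 * f x * (g ^ 4)⁻¹ = f x := by
      conv_rhs => rw [← hx]
      rw [hfβ, hfβ, hfβ, hfβ]
      simp only [pow_succ, pow_zero, one_mul, mul_inv_rev, mul_assoc]
    have h2 : Commute (g ^ 4) (f x) := by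
      have : g ^ 4 * f x = f x * g ^ 4 := by
        calc g ^ 4 * f x = g ^ 4 * f x * (g ^ 4)⁻¹ * g ^ 4 := by group
          _ = f x * g ^ 4 := by rw [h1]
      exact this
    have hcop : Nat.Coprime 4 (orderOf g) := by
      have : Nat.Coprime 2 (orderOf g) := (Nat.coprime_two_left).mpr hodd
      exact Nat.Coprime.pow_left 2 this
    obtain ⟨m, hm⟩ := exists_pow_eq_self_of_coprime hcop
    have h3 : Commute g (f x) := by
      rw [← hm]
      exact h2.pow_left m
    calc g * f x * g⁻¹ = f x * g * g⁻¹ := by rw [h3.eq]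
      _ = f x := by group
  have hβne : ∃ x, β x ≠ x := by
    by_contra hcon
    push Not at hcon
    apply hnc
    intro q hq
    have h1 := hfβ (e ⟨q, hq⟩)
    rw [hcon] at h1
    have h2 : f (e ⟨q, hq⟩) = q := by
      change ((e.symm (e ⟨q, hq⟩) : Q) : G) = q
      rw [MulEquiv.symm_apply_apply]
    rw [h2] at h1
    exact h1.symm
  obtain ⟨x, y, hx, hyx, hconj, hcase⟩ := q8_hom_odd β hβinj hβ4 hβne
  have r4 : f x ^ (2 * 2) = 1 := by
    rw [← map_pow]
    have : x ^ (2 * 2) = 1 := q8_pow_four x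
    rw [this, map_one]
  have rsq : f y * f y = f x ^ 2 := by
    rw [← map_mul, hyx, pow_two, map_mul]
  have rconj : f y * f x * (f y)⁻¹ = (f x)⁻¹ := by
    rw [← map_inv, ← map_mul, ← map_mul, hconj, map_inv]
  have rne : f x ^ 2 ≠ 1 := by
    rw [pow_two, ← map_mul]
    intro h
    apply hx
    apply hf
    rw [h, map_one]
  rcases hcase with ⟨h1, h2⟩ | ⟨h1, h2⟩
  · refine ⟨f x, f y, g, r4, rsq, rconj, ?_, ?_, hodd, rne⟩
    · rw [← hfβ, h1]
    · rw [← hfβ, h2, map_mul]
  · refine ⟨f x, f y, g⁻¹, r4, rsq, rconj, ?_, ?_, by rwa [orderOf_inv], rne⟩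
    · have := hfβ y
      rw [h1] at this
      rw [this]
      group
    · have := hfβ (x * y)
      rw [h2, map_mul] at this
      calc g⁻¹ * f y * g⁻¹⁻¹ = g⁻¹ * (g * (f x * f y) * g⁻¹) * g⁻¹⁻¹ := by rw [← this]
        _ = f x * f y := by group

end Cfsg.Agent.Helper53
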