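import Mathlib
import Cfsg.Agent.Lib.Helper53.Q8Odd

set_option autoImplicit false

/-!
# A section isomorphic to `SL(2,3)` from the relations of `Q8 ⋊ C_odd`
-/

namespace Cfsg.Agent.Helper53

/-- From elements `i, j, y` with the relations of `Q8 ⋊ C`, where `y` has odd order, one gets a
section isomorphic to `SL(2,3)`. -/
theorem exists_SL23_section_of_relations {G : Type*} [Group G] (i j y : G)
    (h4 : i ^ (2 * 2) = 1) (hsq : j * j = i ^ 2) (hconj : j * i * j⁻¹ = i⁻¹)
    (hy1 : y * i * y⁻¹ = j) (hy2 : y * j * y⁻¹ = i * j) (hodd : Odd (orderOf y))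
    (hne : i ^ 2 ≠ 1) :
    ∃ (H K : Subgroup G) (hK : (K.subgroupOf H).Normal),
      Nonempty ((H ⧸ K.subgroupOf H) ≃* Matrix.SpecialLinearGroup (Fin 2) (ZMod 3)) := by
  -- `j i j = i`
  have hjij : j * i * j = i := by
    calc j * i * j = (j * i * j⁻¹) * (j * j) := by group
      _ = i⁻¹ * i ^ 2 := by rw [hconj, hsq]
      _ = i := by group
  -- `y ^ 3` centralizes `i`, `j`
  have hc_i : y ^ 3 * i = i * y ^ 3 := by
    have h : y ^ 3 * i * (y ^ 3)⁻¹ = i := by
      calc y ^ 3 * i * (y ^ 3)⁻¹ = y * (y * (y * i * y⁻¹) * y⁻¹) * y⁻¹ := by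
            simp only [pow_succ, pow_zero, one_mul, mul_inv_rev, mul_assoc]
        _ = y * (y * j * y⁻¹) * y⁻¹ := by rw [hy1]
        _ = y * (i * j) * y⁻¹ := by rw [hy2]
        _ = (y * i * y⁻¹) * (y * j * y⁻¹) := by group
        _ = j * (i * j) := by rw [hy1, hy2]
        _ = j * i * j := by group
        _ = i := hjij
    calc y ^ 3 * i = y ^ 3 * i * (y ^ 3)⁻¹ * y ^ 3 := by group
      _ = i * y ^ 3 := by rw [h]
  have hc_j : y ^ 3 * j = j * y ^ 3 := by
    have h : y ^ 3 * j * (y ^ 3)⁻¹ = j := by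
      calc y ^ 3 * j * (y ^ 3)⁻¹ = y * (y * (y * j * y⁻¹) * y⁻¹) * y⁻¹ := by
            simp only [pow_succ, pow_zero, one_mul, mul_inv_rev, mul_assoc]
        _ = y * (y * (i * j) * y⁻¹) * y⁻¹ := by rw [hy2]
        _ = y * ((y * i * y⁻¹) * (y * j * y⁻¹)) * y⁻¹ := by group
        _ = y * (j * (i * j)) * y⁻¹ := by rw [hy1, hy2]
        _ = y * (j * i * j) * y⁻¹ := by group
        _ = y * i * y⁻¹ := by rw [hjij]
        _ = j := hy1
    calc y ^ 3 * j = y ^ 3 * j * (y ^ 3)⁻¹ * y ^ 3 := by group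
      _ = j * y ^ 3 := by rw [h]
  have hc_y : y ^ 3 * y = y * y ^ 3 := by
    rw [← pow_succ, ← pow_succ']
  let H : Subgroup G := Subgroup.closure {i, j, y}
  let K : Subgroup G := Subgroup.zpowers (y ^ 3)
  have hiH : i ∈ H := Subgroup.subset_closure (by simp)
  have hjH : j ∈ H := Subgroup.subset_closure (by simp)
  have hyH : y ∈ H := Subgroup.subset_closure (by simp)
  have hHc : H ≤ Subgroup.centralizer {y ^ 3} := by
    change Subgroup.closure {i, j, y} ≤ _
    rw [Subgroup.closure_le]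
    intro x hx
    simp only [Set.mem_insert_iff, Set.mem_singleton_iff] at hx
    rw [SetLike.mem_coe, Subgroup.mem_centralizer_iff]
    intro z hz
    rw [Set.mem_singleton_iff] at hz
    subst hz
    rcases hx with rfl | rfl | rfl
    · exact hc_i
    · exact hc_j
    · exact hc_y
  have hcomm : ∀ h ∈ H, ∀ k ∈ K, h * k = k * h := by
    intro h hh k hk
    have h1 : y ^ 3 * h = h * y ^ 3 :=
      (Subgroup.mem_centralizer_iff.mp (hHc hh)) (y ^ 3) rfl
    obtain ⟨m, rfl⟩ := hk
    have : Commute h (y ^ 3) := h1.symm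
    exact (this.zpow_right m).eq
  have hK : (K.subgroupOf H).Normal := by
    refine ⟨fun n hn h => ?_⟩
    rw [Subgroup.mem_subgroupOf] at hn ⊢
    have e : ((h * n * h⁻¹ : H) : G) = (n : G) := by
      push_cast
      rw [hcomm h h.2 n hn]
      group
    rw [e]
    exact hn
  refine ⟨H, K, hK, ?_⟩
  let π : H →* H ⧸ K.subgroupOf H := QuotientGroup.mk' (K.subgroupOf H)
  let i' : H := ⟨i, hiH⟩
  let j' : H := ⟨j, hjH⟩
  let y' : H := ⟨y, hyH⟩
  have r4 : (π i') ^ (2 * 2) = 1 := by
    rw [← map_pow]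
    have : i' ^ (2 * 2) = 1 := Subtype.ext (by push_cast; exact h4)
    rw [this, map_one]
  have rsq : π j' * π j' = π i' ^ 2 := by
    rw [← map_pow, ← map_mul]
    congr 1
    exact Subtype.ext (by push_cast; exact hsq)
  have rconj : π j' * π i' * (π j')⁻¹ = (π i')⁻¹ := by
    rw [← map_inv, ← map_inv, ← map_mul, ← map_mul]
    congr 1
    exact Subtype.ext (by push_cast; exact hconj)
  have ry1 : π y' * π i' * (π y')⁻¹ = π j' := by
    rw [← map_inv, ← map_mul, ← map_mul]
    congr 1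
    exact Subtype.ext (by push_cast; exact hy1)
  have ry2 : π y' * π j' * (π y')⁻¹ = π i' * π j' := by
    rw [← map_inv, ← map_mul, ← map_mul, ← map_mul]
    congr 1
    exact Subtype.ext (by push_cast; exact hy2)
  have ry3 : π y' ^ 3 = 1 := by
    rw [← map_pow]
    change (QuotientGroup.mk (y' ^ 3) : H ⧸ K.subgroupOf H) = 1
    rw [QuotientGroup.eq_one_iff, Subgroup.mem_subgroupOf]
    push_cast
    exact Subgroup.mem_zpowers _
  have rne : π i' ^ 2 ≠ 1 := by
    rw [← map_pow]
    change (QuotientGroup.mk (i' ^ 2) : H ⧸ K.subgroupOf H) ≠ 1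
    rw [Ne, QuotientGroup.eq_one_iff, Subgroup.mem_subgroupOf]
    push_cast
    intro hmem
    have h1 : orderOf (i ^ 2) ∣ orderOf (y ^ 3) := orderOf_dvd_of_mem_zpowers hmem
    have h2 : orderOf (y ^ 3) ∣ orderOf y := orderOf_pow_dvd 3
    have h3 : orderOf (i ^ 2) = 2 := by
      apply orderOf_eq_prime
      · rw [← pow_mul]; exact h4
      · exact hne
    rw [h3] at h1
    have h5 : 2 ∣ orderOf y := dvd_trans h1 h2
    obtain ⟨m, hm⟩ := hodd
    omega
  have rgen : Subgroup.closure {π i', π j', π y'} = ⊤ := by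
    set C : Subgroup (H ⧸ K.subgroupOf H) := Subgroup.closure {π i', π j', π y'} with hC
    have h1 : H ≤ (C.comap π).map H.subtype := by
      change Subgroup.closure {i, j, y} ≤ _
      rw [Subgroup.closure_le]
      intro x hx
      simp only [Set.mem_insert_iff, Set.mem_singleton_iff] at hx
      rcases hx with rfl | rfl | rfl
      · exact ⟨i', Subgroup.subset_closure (by simp), rfl⟩
      · exact ⟨j', Subgroup.subset_closure (by simp), rfl⟩
      · exact ⟨y', Subgroup.subset_closure (by simp), rfl⟩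
    rw [eq_top_iff]
    intro x _
    obtain ⟨h, rfl⟩ := QuotientGroup.mk'_surjective (K.subgroupOf H) x
    obtain ⟨h', hh', he⟩ := h1 h.2
    have : h' = h := Subtype.ext he
    rw [← this]
    exact hh'
  exact nonempty_mulEquiv_SL23_of_relations (π i') (π j') (π y') r4 rsq rconj ry1 ry2 ry3 rne rgen

end Cfsg.Agent.Helper53
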