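import Mathlib

set_option autoImplicit false

namespace Cfsg.Agent.Helper53

open Matrix

theorem range_toGL_eq_ker_det' {F : Type*} [Field F] (n : ℕ) :
    (SpecialLinearGroup.toGL : SpecialLinearGroup (Fin n) F →* GL (Fin n) F).range =
      (GeneralLinearGroup.det : GL (Fin n) F →* Fˣ).ker := by
  ext g
  constructor
  · rintro ⟨s, rfl⟩
    simp
  · intro hg
    rw [MonoidHom.mem_ker] at hg
    have hdet : (g : Matrix (Fin n) (Fin n) F).det = 1 := by
      have := congrArg Units.val hg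
      simpa using this
    exact ⟨⟨g.val, hdet⟩, Units.ext rfl⟩

/-- `|SL_n(q)| * (q - 1) = |GL_n(q)|` for `n ≥ 1`. -/
theorem card_SL_mul_card_units' {F : Type*} [Field F] [Fintype F] (n : ℕ) (hn : 0 < n) :
    Nat.card (SpecialLinearGroup (Fin n) F) * Nat.card Fˣ = Nat.card (GL (Fin n) F) := by
  have : Nonempty (Fin n) := ⟨⟨0, hn⟩⟩
  have h4 := Subgroup.card_mul_index (GeneralLinearGroup.det : GL (Fin n) F →* Fˣ).ker
  rw [Subgroup.index_ker, MonoidHom.range_eq_top.2 GeneralLinearGroup.det_surjective] at h4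
  rw [← h4, ← range_toGL_eq_ker_det']
  congr 1
  · exact (Nat.card_congr (MonoidHom.ofInjective
      (SpecialLinearGroup.toGL_injective (n := Fin n) (R := F))).toEquiv)
  · exact (Nat.card_congr Subgroup.topEquiv.toEquiv).symm

/-- `|SL₂(q)| = k (k+1) (k+2)` with `q = k + 1`. -/
theorem card_SL2_succ {F : Type*} [Field F] [Fintype F] (k : ℕ) (hk : Fintype.card F = k + 1) :
    Nat.card (SpecialLinearGroup (Fin 2) F) = k * (k + 1) * (k + 2) := by
  have h1 := card_SL_mul_card_units' (F := F) 2 (by norm_num)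
  rw [Matrix.card_GL_field, Nat.card_units, Nat.card_eq_fintype_card (α := F), hk,
    Fin.prod_univ_two] at h1
  simp only [Fin.val_zero, Fin.val_one, pow_zero, pow_one, Nat.add_sub_cancel] at h1
  have hk0 : 0 < k := by
    have := Fintype.one_lt_card (α := F)
    omega
  have e1 : (k + 1) ^ 2 - 1 = k * (k + 2) := by
    have : (k + 1) ^ 2 = k * (k + 2) + 1 := by ring
    omega
  have e2 : (k + 1) ^ 2 - (k + 1) = k * (k + 1) := by
    have : (k + 1) ^ 2 = k * (k + 1) + (k + 1) := by ring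
    omega
  rw [e1, e2] at h1
  have : Nat.card (SpecialLinearGroup (Fin 2) F) * k = (k * (k + 1) * (k + 2)) * k := by
    rw [h1]; ring
  exact Nat.eq_of_mul_eq_mul_right hk0 this

/-- the order of `SL₂(q)` determines `q`. -/
theorem card_eq_of_card_SL2_eq {F₁ : Type*} [Field F₁] [Fintype F₁] {F₂ : Type*} [Field F₂]
    [Fintype F₂]
    (h : Nat.card (SpecialLinearGroup (Fin 2) F₁) = Nat.card (SpecialLinearGroup (Fin 2) F₂)) :
    Fintype.card F₁ = Fintype.card F₂ := by
  obtain ⟨k₁, hk₁⟩ : ∃ k, Fintype.card F₁ = k + 1 :=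
    ⟨Fintype.card F₁ - 1, by have := Fintype.one_lt_card (α := F₁); omega⟩
  obtain ⟨k₂, hk₂⟩ : ∃ k, Fintype.card F₂ = k + 1 :=
    ⟨Fintype.card F₂ - 1, by have := Fintype.one_lt_card (α := F₂); omega⟩
  rw [card_SL2_succ k₁ hk₁, card_SL2_succ k₂ hk₂] at h
  rw [hk₁, hk₂]
  have hmono : StrictMono (fun k : ℕ => k * (k + 1) * (k + 2)) := by
    intro a b hab
    have h1 : a * (a + 1) ≤ b * (b + 1) := Nat.mul_le_mul hab.le (by omega)
    have h2 : a + 2 < b + 2 := by omega
    have h3 : 0 < b * (b + 1) := by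
      have : 0 < b := by omega
      positivity
    calc a * (a + 1) * (a + 2) ≤ b * (b + 1) * (a + 2) := Nat.mul_le_mul_right _ h1
      _ < b * (b + 1) * (b + 2) := Nat.mul_lt_mul_of_pos_left h2 h3
  have := hmono.injective h
  omega

end Cfsg.Agent.Helper53
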