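import Mathlib
import Cfsg.Prelude.Def_Transfer

set_option autoImplicit false

/-! Basic lemmas on `Cfsg.IsElementaryAbelian` (adapted from helper10's `ElemAb.lean`,
re-proved here under fresh names so that this library is self-contained). -/

namespace Cfsg.Agent.Helper53

open Cfsg

universe u v

variable {G : Type u} [Group G] {H : Type v} [Group H]

lemma ea_iff {p : ℕ} {A : Subgroup G} :
    IsElementaryAbelian p A ↔ (∀ a ∈ A, ∀ b ∈ A, a * b = b * a) ∧ ∀ a ∈ A, a ^ p = 1 := by
  unfold IsElementaryAbelian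
  rw [isMulCommutative_iff_of_setLike]

lemma ea_mono {p : ℕ} {A B : Subgroup G} (hA : IsElementaryAbelian p A)
    (h : B ≤ A) : IsElementaryAbelian p B := by
  rw [ea_iff] at hA ⊢
  exact ⟨fun a ha b hb => hA.1 a (h ha) b (h hb), fun a ha => hA.2 a (h ha)⟩

lemma ea_map {p : ℕ} {A : Subgroup G} (hA : IsElementaryAbelian p A)
    (f : G →* H) : IsElementaryAbelian p (A.map f) := by
  rw [ea_iff] at hA ⊢
  constructor
  · rintro _ ⟨a, ha, rfl⟩ _ ⟨b, hb, rfl⟩
    rw [← map_mul, ← map_mul, hA.1 a ha b hb]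
  · rintro _ ⟨a, ha, rfl⟩
    rw [← map_pow, hA.2 a ha, map_one]

lemma ea_comap_of_injective {p : ℕ} {A : Subgroup H} (hA : IsElementaryAbelian p A)
    (f : G →* H) (hf : Function.Injective f) : IsElementaryAbelian p (A.comap f) := by
  rw [ea_iff] at hA ⊢
  constructor
  · intro a ha b hb
    apply hf
    rw [map_mul, map_mul]
    exact hA.1 _ ha _ hb
  · intro a ha
    apply hf
    rw [map_pow, map_one]
    exact hA.2 _ ha

lemma ea_subgroupOf {p : ℕ} {A : Subgroup G} (hA : IsElementaryAbelian p A)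
    (U : Subgroup G) : IsElementaryAbelian p (A.subgroupOf U) :=
  ea_comap_of_injective hA U.subtype U.subtype_injective

lemma ea_sup_of_commute {p : ℕ} {A B : Subgroup G} (hA : IsElementaryAbelian p A)
    (hB : IsElementaryAbelian p B) (h : ∀ a ∈ A, ∀ b ∈ B, a * b = b * a) :
    IsElementaryAbelian p (A ⊔ B) := by
  rw [ea_iff] at hA hB
  have hcomm : ∀ x ∈ ((A : Set G) ∪ B), ∀ y ∈ ((A : Set G) ∪ B), x * y = y * x := by
    rintro x (hx | hx) y (hy | hy)
    · exact hA.1 x hx y hy
    · exact h x hx y hy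
    · exact (h y hy x hx).symm
    · exact hB.1 x hx y hy
  have hsup : A ⊔ B = Subgroup.closure ((A : Set G) ∪ B) := by
    rw [Subgroup.closure_union, Subgroup.closure_eq, Subgroup.closure_eq]
  have hc : IsMulCommutative (Subgroup.closure ((A : Set G) ∪ B)) :=
    Subgroup.isMulCommutative_closure hcomm
  rw [ea_iff, hsup]
  have hc' := isMulCommutative_iff_of_setLike.mp hc
  refine ⟨hc', ?_⟩
  intro a ha
  induction ha using Subgroup.closure_induction with
  | mem x hx =>
    rcases hx with hx | hx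
    · exact hA.2 x hx
    · exact hB.2 x hx
  | one => exact one_pow p
  | mul x y hx hy hx1 hy1 =>
    have : Commute x y := hc' x hx y hy
    rw [this.mul_pow, hx1, hy1, one_mul]
  | inv x _ hx1 => rw [inv_pow, hx1, inv_one]

lemma ea_zpowers {p : ℕ} {x : G} (hx : x ^ p = 1) :
    IsElementaryAbelian p (Subgroup.zpowers x) := by
  rw [ea_iff]
  constructor
  · intro a ha b hb
    exact setLike_mul_comm ha hb
  · intro a ha
    obtain ⟨k, rfl⟩ := Subgroup.mem_zpowers_iff.mp ha
    rw [← zpow_natCast, ← zpow_mul, mul_comm, zpow_mul, zpow_natCast, hx, one_zpow]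

end Cfsg.Agent.Helper53
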