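import Mathlib
import Cfsg.Agent.Lib.Helper21.BG139Defs
import Cfsg.Agent.Lib.Helper98.BG139R9
import Cfsg.Agent.Lib.Helper82.BG139R1
import Cfsg.Agent.Lib.Helper58.BG139R12
import Cfsg.Agent.Lib.Helper68.BG139R7
import Cfsg.Agent.Lib.Helper55.BGHall
import Cfsg.Agent.Lib.Helper55.BGBasic
import Cfsg.Agent.Lib.Helper78.BG121
import Cfsg.Agent.Lib.Helper1.ZCoprime
import Cfsg.Agent.Lib.Helper50.SubnormalSylow
import Cfsg.Agent.Lib.Helper15.BGV.Main27
import Cfsg.Agent.S1405
import Cfsg.Agent.S1411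
import Cfsg.Agent.S1415

/-!
# BG 13.9 (sigma-partition), helper53 route: the one-sided analysis

From helper21's `Side M L q S`: a complement `E ≤ N_G(S)` of `M_σ`, and for its Hall
`τ₁(M)`-subgroup `E₁` the facts collected in `SideOut`.
-/

set_option autoImplicit false

namespace Cfsg.Agent.Helper53.BG139

open Subgroup Cfsg Cfsg.Agent.Helper21.BG139 Cfsg.Agent.Helper55.BGB
open scoped commutatorElement

variable {G : Type*} [Group G] [Finite G]

omit [Finite G] in
/-- `N_{M_σ}(S)` centralizes `S` (from `S ∩ M_σ' = 1`). -/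
theorem sigma_inf_normalizer_le_centralizer {M L : Subgroup G} {q : ℕ} {S : Sylow q G}
    (h : Side M L q S) :
    sigmaCore M ⊓ normalizer ((S : Subgroup G) : Set G) ≤
      centralizer ((S : Subgroup G) : Set G) := by
  intro n hn
  obtain ⟨hnK, hnN⟩ := Subgroup.mem_inf.mp hn
  rw [Subgroup.mem_centralizer_iff]
  intro s hs
  have h1 : ⁅s, n⁆ ∈ (S : Subgroup G) := by
    rw [commutatorElement_def]
    have h0 : n * s⁻¹ * n⁻¹ ∈ (S : Subgroup G) :=
      (Subgroup.mem_normalizer_iff.mp hnN s⁻¹).mp (inv_mem hs)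
    have e : s * n * s⁻¹ * n⁻¹ = s * (n * s⁻¹ * n⁻¹) := by group
    rw [e]; exact mul_mem hs h0
  have h2 : ⁅s, n⁆ ∈ ⁅sigmaCore M, sigmaCore M⁆ :=
    Subgroup.commutator_mem_commutator (h.S_le hs) hnK
  have h3 : ⁅s, n⁆ ∈ (S : Subgroup G) ⊓ ⁅sigmaCore M, sigmaCore M⁆ := ⟨h1, h2⟩
  rw [h.S_inf_comm, Subgroup.mem_bot, commutatorElement_def] at h3
  calc s * n = (s * n * s⁻¹ * n⁻¹) * n * s := by group
    _ = n * s := by rw [h3]; group

/-- a complement of `M_σ` inside `N_G(S)`. -/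
theorem exists_compl_le_normalizer (hG : IsMinSimpleOddOrder G) {M L : Subgroup G} {q : ℕ}
    {S : Sylow q G} (h : Side M L q S) (hNM : normalizer ((S : Subgroup G) : Set G) ≤ M) :
    ∃ E : Subgroup G, E ≤ normalizer ((S : Subgroup G) : Set G) ∧ IsComplIn E (sigmaCore M) M := by
  have h5 := Cfsg.Agent.S1405.result hG M h.coatom
  have hασ : alphaCore M ≤ sigmaCore M := h5.2.2.1
  apply Cfsg.Agent.Helper98.BG139Req.exists_compl_le M (sigmaCore M) _ (sigmaCore_le M) (le_normalizer_sigmaCore M) ?_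
    hNM ?_
  · apply Nat.coprime_of_dvd
    intro p hp hd hd'
    exact h.hall.2.2 p hp (h.hall.2.1 p hp hd) hd'
  · calc M = alphaCore M ⊔ normalizer ((S : Subgroup G) : Set G) := h.factor.symm
      _ ≤ sigmaCore M ⊔ normalizer ((S : Subgroup G) : Set G) := sup_le_sup_right hασ _

/-- the output of the one-sided analysis -/
structure SideOut (M : Subgroup G) (q : ℕ) (S : Sylow q G) (E1 : Subgroup G) : Prop where
  le_norm : E1 ≤ normalizer ((S : Subgroup G) : Set G)
  comm : IsMulCommutative E1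
  ne_bot : E1 ≠ ⊥
  fpf : ∀ x ∈ E1, x ≠ 1 → (S : Subgroup G) ⊓ centralizer ({x} : Set G) = ⊥
  norm_le : normalizer ((S : Subgroup G) : Set G) ≤ centralizer ((S : Subgroup G) : Set G) ⊔ E1
  coprime : (Nat.card (centralizer ((S : Subgroup G) : Set G))).Coprime (Nat.card E1)
  prime_act : ∀ x ∈ E1, x ≠ 1 → sigmaCore M ⊓ centralizer ({x} : Set G) ≤
    sigmaCore M ⊓ centralizer (E1 : Set G)
  hall : IsPiHallOf (tau1 M) E1 M
  sigma' : ∀ p : ℕ, p.Prime → p ∣ Nat.card E1 → p ∉ sigma M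
  card_norm : Nat.card (normalizer ((S : Subgroup G) : Set G)) =
    Nat.card (centralizer ((S : Subgroup G) : Set G)) * Nat.card E1
  norm_cs : E1 ≤ normalizer ((centralizer ((S : Subgroup G) : Set G) : Subgroup G) : Set G)

theorem sideOut (hG : IsMinSimpleOddOrder G) {M L : Subgroup G} {q : ℕ} [hq : Fact q.Prime]
    {S : Sylow q G} (h : Side M L q S) (hab : IsMulCommutative (S : Subgroup G))
    (hrk : RankLE 2 (S : Subgroup G)) (hNM : normalizer ((S : Subgroup G) : Set G) ≤ M)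
    {E E1 : Subgroup G} (hE : IsComplIn E (sigmaCore M) M)
    (hEN : E ≤ normalizer ((S : Subgroup G) : Set G)) (hE1 : IsPiHallOf (tau1 M) E1 E) :
    SideOut M q S E1 := by
  have hM := h.coatom
  have hEM : E ≤ M := hE.1
  have hE1E : E1 ≤ E := hE1.1
  have hCsN : centralizer ((S : Subgroup G) : Set G) ≤ normalizer ((S : Subgroup G) : Set G) :=
    Subgroup.centralizer_le_normalizer _
  have hEs : Group.IsSolvable E := Cfsg.Agent.Helper15.BGV.solv_of_le_coatom hG hM hEM
  have hEodd : Odd (Nat.card E) :=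
    Odd.of_dvd_nat hG.1 (Subgroup.card_subgroup_dvd_card E)
  have hq2 : q ≠ 2 := by
    rintro rfl
    have h1 : 2 ∣ Nat.card G := h.mem_sigma.2.1.trans (Subgroup.card_subgroup_dvd_card M)
    exact (Nat.not_even_iff_odd.mpr hG.1) (even_iff_two_dvd.mpr h1)
  have hqE : ¬ q ∣ Nat.card E := fun hd =>
    Cfsg.Agent.Helper15.BGV.not_mem_sigma_of_dvd_card_compl hG hM hE hq.out hd h.mem_sigma
  have hEq : (Nat.card E).Coprime q :=
    (Nat.Prime.coprime_iff_not_dvd hq.out).mpr hqE |>.symm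
  have hSp : IsPGroup q (S : Subgroup G) := S.2
  -- E' centralizes S
  have hE' : ⁅E, E⁆ ≤ centralizer ((S : Subgroup G) : Set G) :=
    Cfsg.Agent.Helper82.BG139Req.commutator_le_centralizer_of_prankLE_two q hq2 _ E hSp (hrk q hq.out) hEN hEs hEodd hEq
  -- E = E3 E1
  obtain ⟨E3, hE3, hgen, hcop31, hcardE⟩ :=
    Cfsg.Agent.Helper58.BG139Req.exists_hall_tau3 hG M hM h.tau2_empty E hE E1 hE1
  have h15 := Cfsg.Agent.S1415.result hG M hM E hE
  have hE1cyc : IsCyclic E1 := h15.2.1 E1 hE1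
  obtain ⟨hE3cyc, hE3le, hE3n⟩ := h15.2.2 E3 hE3
  have hE1comm : IsMulCommutative E1 := by
    have := hE1cyc
    exact ⟨⟨fun a b => (IsCyclic.commGroup (α := E1)).mul_comm a b⟩⟩
  have hE3Cs : E3 ≤ centralizer ((S : Subgroup G) : Set G) := hE3le.trans hE'
  have hE1N : E1 ≤ normalizer ((S : Subgroup G) : Set G) := hE1E.trans hEN
  -- N ≤ Cs ⊔ E1
  have hKN := sigma_inf_normalizer_le_centralizer h
  have hnorm_le : normalizer ((S : Subgroup G) : Set G) ≤
      centralizer ((S : Subgroup G) : Set G) ⊔ E1 := by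
    intro n hn
    obtain ⟨e, he, k, hk, rfl⟩ := hE.2.2.2 n (hNM hn)
    have hkN : k ∈ normalizer ((S : Subgroup G) : Set G) := by
      have : k = e⁻¹ * (e * k) := by group
      rw [this]; exact mul_mem (inv_mem (hEN he)) hn
    have hkC : k ∈ centralizer ((S : Subgroup G) : Set G) := hKN ⟨hk, hkN⟩
    have heS : e ∈ E3 ⊔ E1 := hgen he
    have he' : e ∈ centralizer ((S : Subgroup G) : Set G) ⊔ E1 :=
      (sup_le_sup_right hE3Cs E1) heS
    exact mul_mem he' ((le_sup_left : _ ≤ centralizer ((S : Subgroup G) : Set G) ⊔ E1) hkC)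
  -- E1 normalizes Cs
  have hE1Cs : E1 ≤ normalizer ((centralizer ((S : Subgroup G) : Set G) : Subgroup G) : Set G) := by
    intro e he
    have heN := hE1N he
    rw [Subgroup.mem_normalizer_iff]
    intro c
    have key : ∀ (g : G), g ∈ normalizer ((S : Subgroup G) : Set G) →
        ∀ c, c ∈ centralizer ((S : Subgroup G) : Set G) →
        g * c * g⁻¹ ∈ centralizer ((S : Subgroup G) : Set G) := by
      intro g hg c hc
      rw [Subgroup.mem_centralizer_iff] at hc ⊢
      intro s hs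
      have hs' : g⁻¹ * s * g ∈ (S : Subgroup G) := by
        have := (Subgroup.mem_normalizer_iff.mp (inv_mem hg) s).mp hs
        simpa using this
      have := hc _ hs'
      calc s * (g * c * g⁻¹) = g * ((g⁻¹ * s * g) * c) * g⁻¹ := by group
        _ = g * (c * (g⁻¹ * s * g)) * g⁻¹ := by rw [this]
        _ = g * c * g⁻¹ * s := by group
    constructor
    · intro hc; exact key e heN c hc
    · intro hc
      have := key e⁻¹ (inv_mem heN) _ hc
      have e2 : e⁻¹ * (e * c * e⁻¹) * e⁻¹⁻¹ = c := by group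
      rwa [e2] at this
  -- S = [S, E1]
  have hSne : (S : Subgroup G) ≠ ⊥ :=
    S.ne_bot_of_dvd_card (h.mem_sigma.2.1.trans (Subgroup.card_subgroup_dvd_card M))
  obtain ⟨kq, hkq⟩ := IsPGroup.iff_card.mp hSp
  have hSE1 : ⁅(S : Subgroup G), E1⁆ = (S : Subgroup G) := by
    apply le_antisymm (Cfsg.Agent.Helper1.commutator_le_of_le_normalizer hE1N)
    -- a complement V of S in N(S)
    have hcopS : (Nat.card (S : Subgroup G)).Coprime
        ((S : Subgroup G).relIndex (normalizer ((S : Subgroup G) : Set G))) := by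
      rw [hkq]
      apply Nat.Coprime.pow_left
      rw [Nat.Prime.coprime_iff_not_dvd hq.out]
      intro hd
      exact S.not_dvd_index (hd.trans (Subgroup.relIndex_dvd_index_of_le Subgroup.le_normalizer))
    obtain ⟨V, hVN, hV⟩ := Cfsg.Agent.Helper98.BG139Req.exists_compl_le (normalizer ((S : Subgroup G) : Set G))
      (S : Subgroup G) (normalizer ((S : Subgroup G) : Set G)) Subgroup.le_normalizer le_rfl hcopS
      le_rfl le_sup_right
    have hV' : IsComplIn (S : Subgroup G) V (normalizer ((S : Subgroup G) : Set G)) := by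
      refine ⟨hV.2.1, hV.1, by rw [inf_comm]; exact hV.2.2.1, ?_⟩
      intro m hm
      obtain ⟨v, hv, s, hs, hvs⟩ := hV.2.2.2 m⁻¹ (inv_mem hm)
      refine ⟨s⁻¹, inv_mem hs, v⁻¹, inv_mem hv, ?_⟩
      rw [← mul_inv_rev, ← hvs, inv_inv]
    have h11 := (Cfsg.Agent.S1411.result hG q S V hV').1
    rw [h11, Subgroup.commutator_le]
    rw [← h11]
    intro s hs v hv
    have hvN : v ∈ normalizer ((S : Subgroup G) : Set G) := hV.1 hv
    obtain ⟨c, hc, e, he, rfl⟩ := Cfsg.Agent.Helper15.BGV.mem_sup_decomp hE1Cs (hnorm_le hvN)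
    have hse : ⁅s, e⁆ ∈ ⁅(S : Subgroup G), E1⁆ := Subgroup.commutator_mem_commutator hs he
    have hseS : ⁅s, e⁆ ∈ (S : Subgroup G) :=
      Cfsg.Agent.Helper1.commutator_le_of_le_normalizer hE1N hse
    rw [Subgroup.mem_centralizer_iff] at hc
    have h1 := hc s hs
    have h2 := hc _ hseS
    have e1 : ⁅s, c * e⁆ = ⁅s, e⁆ := by
      rw [commutatorElement_def, commutatorElement_def] at *
      calc s * (c * e) * s⁻¹ * (c * e)⁻¹ = (s * c) * e * s⁻¹ * e⁻¹ * c⁻¹ := by group
        _ = (c * s) * e * s⁻¹ * e⁻¹ * c⁻¹ := by rw [h1]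
        _ = c * (s * e * s⁻¹ * e⁻¹) * c⁻¹ := by group
        _ = (s * e * s⁻¹ * e⁻¹) * c * c⁻¹ := by rw [h2]
        _ = s * e * s⁻¹ * e⁻¹ := by group
    rw [e1]; exact hse
  have hcopE1S : (Nat.card E1).Coprime (Nat.card (S : Subgroup G)) := by
    rw [hkq]
    apply Nat.Coprime.pow_right
    exact Nat.Coprime.coprime_dvd_left (Subgroup.card_dvd_of_le hE1E) hEq
  have hCSE1 : (S : Subgroup G) ⊓ centralizer (E1 : Set G) = ⊥ := by
    have := hab
    have := Cfsg.Agent.Helper1.ZCoprime.commutator_inf_centralizer_eq_bot E1 (S : Subgroup G) hE1N hcopE1S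
    rwa [hSE1] at this
  have hprime : ∀ x ∈ E1, x ≠ 1 → sigmaCore M ⊓ centralizer ({x} : Set G) ≤
      sigmaCore M ⊓ centralizer (E1 : Set G) := fun x hx hx1 =>
    Cfsg.Agent.Helper68.BG139Req.prime_action_tau1 hG M hM E hE E1 hE1 x hx hx1
  have hfpf : ∀ x ∈ E1, x ≠ 1 → (S : Subgroup G) ⊓ centralizer ({x} : Set G) = ⊥ := by
    intro x hx hx1
    rw [eq_bot_iff]
    intro y hy
    obtain ⟨hyS, hyC⟩ := Subgroup.mem_inf.mp hy
    have h1 : y ∈ sigmaCore M ⊓ centralizer (E1 : Set G) := hprime x hx hx1 ⟨h.S_le hyS, hyC⟩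
    rw [← hCSE1]
    exact ⟨hyS, h1.2⟩
  have hE1ne : E1 ≠ ⊥ := by
    intro hbot
    apply hSne
    rw [← hSE1, hbot]
    exact Subgroup.commutator_bot_right _
  have hσ' : ∀ p : ℕ, p.Prime → p ∣ Nat.card E1 → p ∉ sigma M := fun p hp hd =>
    (hE1.2.1 p hp hd).2.1
  -- cardinalities
  have hcardM : Nat.card M = Nat.card E * Nat.card (sigmaCore M) :=
    Cfsg.Agent.Helper78.BG121.card_eq_of_isComplIn hE
  have hcopKE : (Nat.card (sigmaCore M)).Coprime (Nat.card E) := by
    apply Nat.coprime_of_dvd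
    intro p hp hd hd'
    exact Cfsg.Agent.Helper15.BGV.not_mem_sigma_of_dvd_card_compl hG hM hE hp hd'
      (isPi_sigmaCore M p hp hd)
  have hcompN : IsComplIn E (sigmaCore M ⊓ normalizer ((S : Subgroup G) : Set G))
      (normalizer ((S : Subgroup G) : Set G)) := by
    refine ⟨hEN, inf_le_right, ?_, ?_⟩
    · rw [eq_bot_iff, ← hE.2.2.1]
      exact inf_le_inf_left _ inf_le_left
    · intro n hn
      obtain ⟨e, he, k, hk, rfl⟩ := hE.2.2.2 n (hNM hn)
      have hkN : k ∈ normalizer ((S : Subgroup G) : Set G) := by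
        have : k = e⁻¹ * (e * k) := by group
        rw [this]; exact mul_mem (inv_mem (hEN he)) hn
      exact ⟨e, he, k, ⟨hk, hkN⟩, rfl⟩
  have hcardN1 := Cfsg.Agent.Helper78.BG121.card_eq_of_isComplIn hcompN
  have hCsE1 : centralizer ((S : Subgroup G) : Set G) ⊓ E1 = ⊥ := by
    rw [eq_bot_iff]
    intro x hx
    obtain ⟨hxC, hxE⟩ := Subgroup.mem_inf.mp hx
    rw [Subgroup.mem_bot]
    by_contra hx1
    apply hSne
    rw [eq_bot_iff, ← hfpf x hxE hx1]
    intro s hs
    refine Subgroup.mem_inf.mpr ⟨hs, ?_⟩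
    rw [Subgroup.mem_centralizer_iff] at hxC ⊢
    intro y hy
    rw [Set.mem_singleton_iff] at hy
    rw [hy]
    exact (hxC s hs).symm
  have hNeq : centralizer ((S : Subgroup G) : Set G) ⊔ E1 =
      normalizer ((S : Subgroup G) : Set G) :=
    le_antisymm (sup_le hCsN hE1N) hnorm_le
  have hcardN2 := Cfsg.Agent.Helper50.card_sup_mul_card_inf_of_le_normalizer
    (centralizer ((S : Subgroup G) : Set G)) E1 hE1Cs
  rw [hCsE1, Subgroup.card_bot, mul_one, hNeq] at hcardN2
  have hcardCs : Nat.card (centralizer ((S : Subgroup G) : Set G)) =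
      Nat.card E3 * Nat.card (sigmaCore M ⊓ normalizer ((S : Subgroup G) : Set G) : Subgroup G) := by
    have h1 : Nat.card (centralizer ((S : Subgroup G) : Set G)) * Nat.card E1 =
        (Nat.card E3 *
          Nat.card (sigmaCore M ⊓ normalizer ((S : Subgroup G) : Set G) : Subgroup G)) *
          Nat.card E1 := by
      rw [← hcardN2, hcardN1, hcardE]; ring
    exact Nat.eq_of_mul_eq_mul_right Nat.card_pos h1
  have hcopCs : (Nat.card (centralizer ((S : Subgroup G) : Set G))).Coprime (Nat.card E1) := by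
    rw [hcardCs]
    apply Nat.Coprime.mul_left hcop31
    exact Nat.Coprime.coprime_dvd_left (Subgroup.card_dvd_of_le inf_le_left)
      (Nat.Coprime.coprime_dvd_right (Subgroup.card_dvd_of_le hE1E) hcopKE)
  -- E1 Hall in M
  have hhall : IsPiHallOf (tau1 M) E1 M := by
    refine ⟨hE1E.trans hEM, hE1.2.1, ?_⟩
    intro p hp hpτ hd
    have hmul : E1.relIndex E * E.relIndex M = E1.relIndex M :=
      Subgroup.relIndex_mul_relIndex E1 E M hE1E hEM
    rw [← hmul] at hd
    rcases (Nat.Prime.dvd_mul hp).mp hd with hd1 | hd2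
    · exact hE1.2.2 p hp hpτ hd1
    · have h1 : Nat.card E * E.relIndex M = Nat.card M :=
        Cfsg.Agent.Helper52.card_mul_relIndex_eq hEM
      rw [hcardM] at h1
      have h2 : E.relIndex M = Nat.card (sigmaCore M) :=
        Nat.eq_of_mul_eq_mul_left Nat.card_pos h1
      rw [h2] at hd2
      exact hpτ.2.1 (isPi_sigmaCore M p hp hd2)
  exact ⟨hE1N, hE1comm, hE1ne, hfpf, hnorm_le, hcopCs, hprime, hhall, hσ', hcardN2, hE1Cs⟩

end Cfsg.Agent.Helper53.BG139
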