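import Mathlib
import Cfsg.Agent.Lib.Helper16.BG139R4
import Cfsg.Agent.Lib.Helper68.BG139R7
import Cfsg.Agent.Lib.Helper52.CoprimeSylow
import Cfsg.Agent.Lib.Helper54.Transitivity
import Cfsg.Agent.Lib.Helper55.BGHall
import Cfsg.Agent.Lib.Helper55.BGBasic
import Cfsg.Agent.Lib.Helper15.BGV.Main27
import Cfsg.Agent.S1405

/-!
# BG 13.9 (sigma-partition), helper53 route: step (D)

A subgroup of prime order of `M_α` centralized by the Hall `τ₁`-subgroup `E₁` (request R11).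
-/

set_option autoImplicit false

namespace Cfsg.Agent.Helper53.BG139

open Subgroup Cfsg Cfsg.Agent.Helper55.BGB

variable {G : Type*} [Group G] [Finite G]

/-- (R11) = step (D): a subgroup of prime order of `M_α` centralized by `E₁`. -/
theorem exists_prime_order_centralizing
    (hG : Cfsg.IsMinSimpleOddOrder G) (M : Subgroup G) (hM : IsCoatom M) (q : ℕ) [hq : Fact q.Prime]
    (S : Sylow q G) (hSab : IsMulCommutative (S : Subgroup G)) (hqσ : q ∈ Cfsg.sigma M)
    (hqα : q ∉ Cfsg.alpha M) (hNM : Subgroup.normalizer ((S : Subgroup G) : Set G) ≤ M)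
    (hnc : ¬ Cfsg.alphaCore M ≤ Subgroup.centralizer ((S : Subgroup G) : Set G))
    (E1 : Subgroup G) (hE1N : E1 ≤ Subgroup.normalizer ((S : Subgroup G) : Set G))
    (_hE1c : IsMulCommutative E1) (hE1ne : E1 ≠ ⊥)
    (hE1σ : ∀ p : ℕ, p.Prime → p ∣ Nat.card E1 → p ∉ Cfsg.sigma M)
    (hfpf : ∀ x ∈ E1, x ≠ 1 → (S : Subgroup G) ⊓ Subgroup.centralizer ({x} : Set G) = ⊥)
    (hprime : ∀ x ∈ E1, x ≠ 1 → Cfsg.sigmaCore M ⊓ Subgroup.centralizer ({x} : Set G) ≤
      Cfsg.sigmaCore M ⊓ Subgroup.centralizer (E1 : Set G)) :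
    ∃ (r : ℕ) (R0 : Subgroup G), r ∈ Cfsg.alpha M ∧ Nat.card R0 = r ∧
      R0 ≤ Cfsg.alphaCore M ⊓ Subgroup.centralizer (E1 : Set G) := by
  have h5 := Cfsg.Agent.S1405.result hG M hM
  have hα : IsPiHallOf (alpha M) (alphaCore M) M := h5.1
  have hασ : alphaCore M ≤ sigmaCore M := h5.2.2.1
  have hSp : IsPGroup q (S : Subgroup G) := S.2
  have hSN : (S : Subgroup G) ≤ normalizer ((S : Subgroup G) : Set G) := Subgroup.le_normalizer
  have hMan : M ≤ normalizer ((alphaCore M : Subgroup G) : Set G) :=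
    le_normalizer_map_subtype M (piCore (alpha M) ↥M)
  have hAN : (S : Subgroup G) ⊔ E1 ≤ normalizer ((alphaCore M : Subgroup G) : Set G) :=
    (sup_le (hSN.trans hNM) (hE1N.trans hNM)).trans hMan
  have hσMa : ∀ p : ℕ, p.Prime → p ∣ Nat.card (alphaCore M) → p ∈ sigma M := fun p hp hd =>
    isPi_sigmaCore M p hp (hd.trans (Subgroup.card_dvd_of_le hασ))
  -- coprimality
  have hcop : (Nat.card ((S : Subgroup G) ⊔ E1 : Subgroup G)).Coprime (Nat.card (alphaCore M)) := by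
    apply Nat.coprime_of_dvd
    intro p hp hd hd'
    have h1 : p ∣ Nat.card (S : Subgroup G) * Nat.card E1 :=
      hd.trans (Cfsg.Agent.Helper54.card_sup_dvd_of_le_normalizer _ _ hE1N)
    rcases (Nat.Prime.dvd_mul hp).mp h1 with h2 | h2
    · obtain ⟨k, hk⟩ := IsPGroup.iff_card.mp hSp
      rw [hk] at h2
      have : p = q := (Nat.prime_dvd_prime_iff_eq hp hq.out).mp (hp.dvd_of_dvd_pow h2)
      subst this
      exact hqα (hα.2.1 p hp hd')
    · exact hE1σ p hp h2 (hσMa p hp hd')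
  have hMasolv : Group.IsSolvable (alphaCore M) :=
    Cfsg.Agent.Helper15.BGV.solv_of_le_coatom hG hM hα.1
  -- an invariant Sylow subgroup of M_α not centralized by S
  have hex : ∃ (r : ℕ) (_ : r.Prime) (T : Subgroup G), T ≤ alphaCore M ∧
      Nat.card T = r ^ (Nat.card (alphaCore M)).factorization r ∧
      (S : Subgroup G) ⊔ E1 ≤ normalizer (T : Set G) ∧
      ¬ T ≤ centralizer ((S : Subgroup G) : Set G) := by
    by_contra hno
    push Not at hno
    apply hnc
    apply Cfsg.Agent.Helper68.BG139Req.le_of_forall_sylow_le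
    intro r hr _
    have : Fact r.Prime := ⟨hr⟩
    obtain ⟨Q, hQK, hQc, hQA⟩ := Cfsg.Agent.Helper52.exists_invariant_sylow _ _ hAN hcop
      (Or.inr hMasolv) r
    exact ⟨Q, hQK, hQc, hno r hr Q hQK hQc hQA⟩
  obtain ⟨r, hr, T, hTK, hTc, hTA, hTS⟩ := hex
  have : Fact r.Prime := ⟨hr⟩
  have hT1 : T ≠ ⊥ := by
    rintro rfl
    exact hTS bot_le
  have hTp : IsPGroup r T := IsPGroup.of_card hTc
  have hrdvd : r ∣ Nat.card (alphaCore M) := by
    have h1 : r ∣ Nat.card T := by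
      obtain ⟨X, hXT, hX⟩ := Cfsg.Agent.Helper15.BGV.exists_card_prime_le hTp hT1
      rw [← hX]; exact Subgroup.card_dvd_of_le hXT
    exact h1.trans (Subgroup.card_dvd_of_le hTK)
  have hrα : r ∈ alpha M := hα.2.1 r hr hrdvd
  have hrσ : r ∈ sigma M := hσMa r hr hrdvd
  -- an element of prime order of E1
  have hc1 : Nat.card E1 ≠ 1 := fun h => hE1ne (Subgroup.card_eq_one.mp h)
  obtain ⟨p, hp, hpd⟩ := Nat.exists_prime_and_dvd hc1
  have : Fact p.Prime := ⟨hp⟩
  obtain ⟨x, hx⟩ := exists_prime_orderOf_dvd_card' (G := E1) p hpd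
  have hxE : (x : G) ∈ E1 := x.2
  have hx1 : (x : G) ≠ 1 := by
    intro h
    have : x = 1 := Subtype.ext h
    rw [this, orderOf_one] at hx
    exact hp.one_lt.ne hx
  have hxp : (x : G) ^ p = 1 := by
    have : x ^ p = 1 := by rw [← hx]; exact pow_orderOf_eq_one x
    have := congrArg Subtype.val this
    simpa using this
  have hpσ : p ∉ sigma M := hE1σ p hp hpd
  have hrq : r ≠ q := by
    rintro rfl
    exact hqα hrα
  have hrp : r ≠ p := by
    rintro rfl
    exact hpσ hrσ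
  have hqp : q ≠ p := by
    rintro rfl
    exact hpσ hqσ
  have hq2 : q ≠ 2 := by
    rintro rfl
    have h1 : 2 ∣ Nat.card G := hqσ.2.1.trans (Subgroup.card_subgroup_dvd_card M)
    exact (Nat.not_even_iff_odd.mpr hG.1) (even_iff_two_dvd.mpr h1)
  have hfT : T ⊓ centralizer ({(x : G)} : Set G) ≠ ⊥ := by
    intro hbot
    apply hTS
    have := Cfsg.Agent.Helper16.BG139Req.le_centralizer_of_fpf hr hq.out hp hrq hrp hqp hq2 T
      (S : Subgroup G) (x : G) hTp hSp hSab (le_sup_left.trans hTA) (hTA (le_sup_right (a := (S : Subgroup G)) hxE))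
      (hE1N hxE) hxp (hfpf _ hxE hx1) hbot
    exact Subgroup.le_centralizer_iff.mp this
  have hTCp : IsPGroup r (T ⊓ centralizer ({(x : G)} : Set G) : Subgroup G) := hTp.to_le inf_le_left
  obtain ⟨R0, hR0le, hR0⟩ := Cfsg.Agent.Helper15.BGV.exists_card_prime_le hTCp hfT
  refine ⟨r, R0, hrα, hR0, ?_⟩
  intro y hy
  have hy' := hR0le hy
  have h1 : y ∈ sigmaCore M ⊓ centralizer (E1 : Set G) :=
    hprime _ hxE hx1 ⟨hασ (hTK hy'.1), hy'.2⟩
  exact ⟨hTK hy'.1, h1.2⟩

end Cfsg.Agent.Helper53.BG139
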