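import Mathlib
import Cfsg.Agent.Lib.Helper52.CoprimeSylow
import Cfsg.Agent.Lib.Helper55.BGHall
import Cfsg.Agent.Lib.Helper55.BGBasic
import Cfsg.Agent.Lib.Helper15.BGV.Main27
import Cfsg.Agent.Lib.Helper79.BG10.Alpha
import Cfsg.Agent.S1350
import Cfsg.Agent.S1403
import Cfsg.Agent.S1414

/-!
# BG 13.9 (sigma-partition), helper53 route: step (C)

`α(M) ⊆ β(M)` for an aligned pair (request R10).
-/

set_option autoImplicit false

namespace Cfsg.Agent.Helper53.BG139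

open Subgroup Cfsg Cfsg.Agent.Helper55.BGB Cfsg.Agent.Helper52

variable {G : Type*} [Group G] [Finite G]

/-- (R10) = step (C): `α(M) ⊆ β(M)` in the aligned situation. -/
theorem mem_beta_of_mem_alpha (hG : Cfsg.IsMinSimpleOddOrder G)
    (M L : Subgroup G) (hM : IsCoatom M) (hL : IsCoatom L) (hne : L ≠ M) (q : ℕ) [hq : Fact q.Prime]
    (S : Sylow q G) (hSM : (S : Subgroup G) ≤ Cfsg.sigmaCore M) (hqα : q ∉ Cfsg.alpha M)
    (hNL : Subgroup.normalizer ((S : Subgroup G) : Set G) ≤ L) (t : ℕ) (ht : t ∈ Cfsg.alpha M) :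
    t ∈ Cfsg.beta M := by
  by_contra hβ
  have hU : Cfsg.Agent.Helper79.BG10.UniqHyp G :=
    fun K hK h1 h2 => Cfsg.Agent.S1403.result hG K hK h1 h2
  have htp : t.Prime := ht.1
  have : Fact t.Prime := ⟨htp⟩
  have htσ : t ∈ sigma M := Cfsg.Agent.Helper79.BG10.alpha_subset_sigma hG hU hM ht
  have htq : t ≠ q := by
    rintro rfl
    exact hqα ht
  have hHall : IsPiHallOf (sigma M) (sigmaCore M) M := (Cfsg.Agent.S1350.result hG M hM).1
  have h14 := ((Cfsg.Agent.S1414.result hG M hM).2.2.2.2 t htp htσ.2.1 hβ).2.1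
  obtain ⟨N0, hN0K, hKN0, hN0t, hN0all⟩ := Cfsg.Agent.Helper15.BGV.exists_normal_compl h14
  have hSp : IsPGroup q (S : Subgroup G) := S.2
  obtain ⟨kq, hkq⟩ := IsPGroup.iff_card.mp hSp
  have hSN0 : (S : Subgroup G) ≤ N0 := by
    apply hN0all _ hSM
    rw [hkq]
    apply Nat.Coprime.pow_left
    exact (Nat.coprime_primes hq.out htp).mpr (Ne.symm htq)
  -- S is a Sylow q-subgroup of N0
  have hScard : Nat.card (S : Subgroup G) = sylCard q N0 := by
    apply Cfsg.Agent.Helper15.BGV.card_eq_sylCard_of_not_dvd_relIndex hSN0 hSp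
    intro hd
    exact S.not_dvd_index (hd.trans (Subgroup.relIndex_dvd_index_of_le hSN0))
  -- a Sylow t-subgroup of M_σ
  obtain ⟨T0, hT0K, hT0c⟩ := Cfsg.Agent.Helper15.BGV.exists_syl t (sigmaCore M)
  have hT0p : IsPGroup t T0 := IsPGroup.of_card hT0c
  have hcop : (Nat.card T0).Coprime (Nat.card N0) := by
    rw [hT0c]
    unfold sylCard
    apply Nat.Coprime.pow_left
    exact hN0t.symm
  have hN0solv : Group.IsSolvable N0 :=
    Cfsg.Agent.Helper15.BGV.solv_of_le_coatom hG hM (hN0K.trans (sigmaCore_le M))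
  obtain ⟨k, hk, hkT⟩ := Cfsg.Agent.Helper15.BGV.exists_conj_le_normalizer T0 N0
    (hT0K.trans hKN0) hcop (Or.inr hN0solv) q (S : Subgroup G) hSN0 hScard
  -- T := T0^k
  have hkK : k ∈ sigmaCore M := hN0K hk
  have hTK : T0.map (MulAut.conj k).toMonoidHom ≤ sigmaCore M := by
    rintro _ ⟨x, hx, rfl⟩
    exact mul_mem (mul_mem hkK (hT0K hx)) (inv_mem hkK)
  have hTM : T0.map (MulAut.conj k).toMonoidHom ≤ M := hTK.trans (sigmaCore_le M)
  have hTL : T0.map (MulAut.conj k).toMonoidHom ≤ L := hkT.trans hNL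
  have hTc : Nat.card (T0.map (MulAut.conj k).toMonoidHom) = sylCard t M := by
    rw [card_map_conj, hT0c]
    exact Cfsg.Agent.Helper15.BGV.sylCard_sigmaCore hHall htσ
  -- rank of T
  have hr' := ht.2
  unfold Cfsg.PRankLE at hr'
  push Not at hr'
  obtain ⟨A, hAc, hAe, hAcard⟩ := hr'
  obtain ⟨hBc, hBe, hBcard⟩ := Cfsg.Agent.Helper79.BG10.elemAb_map_subtype A hAc hAe
  have hBp : IsPGroup t (A.map M.subtype) :=
    Cfsg.Agent.Helper79.BG10.isPGroup_of_pow_eq_one _ hBe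
  obtain ⟨m, hm, hmB⟩ := Cfsg.Agent.Helper15.BGV.exists_conj_le_sylow hBp
    (Subgroup.map_subtype_le A) hTM hTc
  have hCc : ∀ a ∈ (A.map M.subtype).map (MulAut.conj m).toMonoidHom,
      ∀ b ∈ (A.map M.subtype).map (MulAut.conj m).toMonoidHom, a * b = b * a := by
    rintro _ ⟨a, ha, rfl⟩ _ ⟨b, hb, rfl⟩
    rw [← map_mul, ← map_mul, hBc a ha b hb]
  have hCe : ∀ a ∈ (A.map M.subtype).map (MulAut.conj m).toMonoidHom, a ^ t = 1 := by
    rintro _ ⟨a, ha, rfl⟩
    rw [← map_pow, hBe a ha, map_one]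
  have hCcard : Nat.card ((A.map M.subtype).map (MulAut.conj m).toMonoidHom) = Nat.card A := by
    rw [card_map_conj, hBcard]
  have h1 : ¬ Cfsg.RankLE 1 (T0.map (MulAut.conj k).toMonoidHom) :=
    Cfsg.Agent.Helper79.BG10.not_rankLE_of_elemAb htp hmB hCc hCe (by
      rw [hCcard]
      calc t ^ 1 ≤ t ^ 2 := Nat.pow_le_pow_right htp.pos (by norm_num)
        _ < Nat.card A := hAcard)
  have h2 : ¬ Cfsg.RankLE 2 (T0.map (MulAut.conj k).toMonoidHom) :=
    Cfsg.Agent.Helper79.BG10.not_rankLE_of_elemAb htp hmB hCc hCe (by rw [hCcard]; exact hAcard)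
  have hLM : L ≤ M := Cfsg.Agent.Helper79.BG10.le_of_rank_three hU hM hTM h1 h2 hL.1 hTL
  apply hne
  rcases eq_or_lt_of_le hLM with e | hlt
  · exact e
  · exact absurd (hL.2 M hlt) hM.1

end Cfsg.Agent.Helper53.BG139
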