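import Mathlib
import Cfsg.Agent.Lib.Helper53.BG139a
import Cfsg.Agent.Lib.Helper53.BG139c
import Cfsg.Agent.Lib.Helper53.BG139d
import Cfsg.Agent.Lib.Helper16.BG139R5
import Cfsg.Agent.Lib.Helper98.BG139R6
import Cfsg.Agent.Lib.Helper58.BG139R8
import Cfsg.Agent.Lib.Helper52.CoprimeHall
import Cfsg.Agent.Lib.Helper52.Coprime
import Cfsg.Agent.Lib.Helper79.BG10.Alpha
import Cfsg.Agent.S1403

/-!
# BG 13.9 (sigma-partition), helper53 route: the final contradiction

`false_of_setup`: helper21's `Setup M L q S` is contradictory.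
-/

set_option autoImplicit false

namespace Cfsg.Agent.Helper53.BG139

open Subgroup Cfsg Cfsg.Agent.Helper21.BG139 Cfsg.Agent.Helper55.BGB

variable {G : Type*} [Group G] [Finite G]

/-- the uniqueness theorem in helper79's hypothesis form -/
theorem uniqHyp (hG : IsMinSimpleOddOrder G) : Cfsg.Agent.Helper79.BG10.UniqHyp G :=
  fun K hK h1 h2 => Cfsg.Agent.S1403.result hG K hK h1 h2

/-- Hall subgroups of a solvable subgroup exist, in `IsPiHallOf` form. -/
theorem exists_isPiHallOf (π : Set ℕ) (E : Subgroup G) (hE : Group.IsSolvable E) :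
    ∃ Q : Subgroup G, IsPiHallOf π Q E := by
  have hne : Nat.card E ≠ 0 := Nat.card_pos.ne'
  obtain ⟨Q, hQE, hQc⟩ := Cfsg.Agent.Helper52.hall_exists_internal E hE
    (Cfsg.Agent.Helper52.piPart π (Nat.card E)) (Cfsg.Agent.Helper52.piPrimePart π (Nat.card E))
    (Cfsg.Agent.Helper52.piPart_mul_piPrimePart π hne).symm
    (Cfsg.Agent.Helper52.piPart_coprime π _)
  exact ⟨Q, (Cfsg.Agent.Helper52.isPiHallOf_iff_card π Q E).mpr ⟨hQE, hQc⟩⟩

omit [Finite G] in
theorem card_map_cj (g : G) (A : Subgroup G) : Nat.card (A.map (cj g)) = Nat.card A :=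
  Subgroup.card_map_of_injective (MulAut.conj g).injective

theorem isPiHallOf_of_card {π : Set ℕ} {A A' M : Subgroup G} (h : IsPiHallOf π A M)
    (hA' : A' ≤ M) (hc : Nat.card A' = Nat.card A) : IsPiHallOf π A' M := by
  rw [Cfsg.Agent.Helper52.isPiHallOf_iff_card] at h ⊢
  exact ⟨hA', hc.trans h.2⟩

theorem isPiHallOf_map_cj {π : Set ℕ} {A B : Subgroup G} (h : IsPiHallOf π A B) (g : G) :
    IsPiHallOf π (A.map (cj g)) (B.map (cj g)) := by
  rw [Cfsg.Agent.Helper52.isPiHallOf_iff_card] at h ⊢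
  exact ⟨Subgroup.map_mono h.1, by rw [card_map_cj, card_map_cj]; exact h.2⟩

omit [Finite G] in
theorem isComplIn_map_cj {E K M : Subgroup G} (h : IsComplIn E K M) {g : G} (hg : g ∈ M)
    (hK : M ≤ normalizer (K : Set G)) : IsComplIn (E.map (cj g)) K M := by
  have hgK : ∀ k, k ∈ K → g * k * g⁻¹ ∈ K := fun k hk =>
    (Subgroup.mem_normalizer_iff.mp (hK hg) k).mp hk
  have hgK' : ∀ k, k ∈ K → g⁻¹ * k * g ∈ K := fun k hk => by
    have := (Subgroup.mem_normalizer_iff.mp (hK (inv_mem hg)) k).mp hk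
    simpa using this
  refine ⟨?_, h.2.1, ?_, ?_⟩
  · rintro _ ⟨e, he, rfl⟩
    exact mul_mem (mul_mem hg (h.1 he)) (inv_mem hg)
  · rw [eq_bot_iff]
    intro x hx
    obtain ⟨hxE, hxK⟩ := Subgroup.mem_inf.mp hx
    rw [Cfsg.Agent.Helper52.mem_map_conj] at hxE
    have h1 : g⁻¹ * x * g ∈ E ⊓ K := ⟨hxE, hgK' x hxK⟩
    rw [h.2.2.1, Subgroup.mem_bot] at h1
    rw [Subgroup.mem_bot]
    calc x = g * (g⁻¹ * x * g) * g⁻¹ := by group
      _ = 1 := by rw [h1]; group
  · intro m hm
    have hm' : g⁻¹ * m * g ∈ M := mul_mem (mul_mem (inv_mem hg) hm) hg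
    obtain ⟨a, ha, b, hb, hab⟩ := h.2.2.2 _ hm'
    refine ⟨g * a * g⁻¹, ⟨a, ha, rfl⟩, g * b * g⁻¹, hgK b hb, ?_⟩
    calc m = g * (g⁻¹ * m * g) * g⁻¹ := by group
      _ = g * (a * b) * g⁻¹ := by rw [hab]
      _ = g * a * g⁻¹ * (g * b * g⁻¹) := by group

/-- one case of the final step (F). -/
theorem final_case (hG : IsMinSimpleOddOrder G) {L : Subgroup G} (hL : IsCoatom L)
    (h2L : tau2 L = ∅) {E1 : Subgroup G} (hE1L : IsPiHallOf (tau1 L) E1 L) {r s : ℕ}
    (hr : r.Prime) (hs : s ∈ beta L) (hrσ : r ∉ sigma L) (hrE : ¬ r ∣ Nat.card E1)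
    {R V : Subgroup G} (hR : Nat.card R = r) (hRC : R ≤ centralizer (E1 : Set G))
    (hV : IsElementaryAbelian s V) (hV1 : V ≠ ⊥) (hVC : V ≤ centralizer (E1 : Set G))
    (hRV : R ≤ normalizer (V : Set G)) : False := by
  have hsp : s.Prime := hs.1.1
  have : Fact s.Prime := ⟨hsp⟩
  have hsσ : s ∈ sigma L :=
    Cfsg.Agent.Helper79.BG10.alpha_subset_sigma hG (uniqHyp hG) hL hs.1
  have hVp : IsPGroup s V := Cfsg.Agent.Helper79.BG10.isPGroup_of_pow_eq_one V hV.2
  -- conjugate V into L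
  obtain ⟨Q, hQL, hQc⟩ := Cfsg.Agent.Helper15.BGV.exists_syl s L
  have hQtop := Cfsg.Agent.Helper15.BGV.card_eq_sylCard_top_of_mem_sigma hsσ hQL hQc
  obtain ⟨g, -, hgV⟩ := Cfsg.Agent.Helper15.BGV.exists_conj_le_sylow (L := ⊤) hVp le_top le_top hQtop
  have hV'L : V.map (cj g) ≤ L := hgV.trans hQL
  have hV'e : IsElementaryAbelian s (V.map (cj g)) := by
    refine ⟨?_, ?_⟩
    · have := hV.1
      exact Subgroup.map_isMulCommutative V _
    · rintro _ ⟨v, hv, rfl⟩
      rw [← map_pow, hV.2 v hv, map_one]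
  have hV'1 : V.map (cj g) ≠ ⊥ := by
    intro hbot
    apply hV1
    rw [eq_bot_iff]
    intro v hv
    have : (cj g) v ∈ V.map (cj g) := ⟨v, hv, rfl⟩
    rw [hbot, Subgroup.mem_bot] at this
    rw [Subgroup.mem_bot]
    exact (MulAut.conj g).injective (this.trans (map_one _).symm)
  have hNL : normalizer ((V.map (cj g) : Subgroup G) : Set G) ≤ L :=
    Cfsg.Agent.Helper98.BG139Req.normalizer_le_of_mem_beta hG L hL s hs _ hV'L hV'e hV'1
  have hnorm : normalizer ((V.map (cj g) : Subgroup G) : Set G) = (normalizer (V : Set G)).map (cj g) :=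
    Cfsg.Agent.Helper79.BG10.normalizer_cj g V
  have hE1V : E1 ≤ normalizer (V : Set G) :=
    (Subgroup.le_centralizer_iff.mp hVC).trans (Subgroup.centralizer_le_normalizer _)
  have hR'L : R.map (cj g) ≤ L := by
    refine le_trans ?_ hNL
    rw [hnorm]; exact Subgroup.map_mono hRV
  have hE1'L : E1.map (cj g) ≤ L := by
    refine le_trans ?_ hNL
    rw [hnorm]; exact Subgroup.map_mono hE1V
  have hcent : R.map (cj g) ≤ centralizer ((E1.map (cj g) : Subgroup G) : Set G) := by
    have := Cfsg.Agent.Helper79.BG10.centralizer_cj g E1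
    rw [this]; exact Subgroup.map_mono hRC
  have hF : IsPiHallOf (tau1 L) (E1.map (cj g)) L :=
    isPiHallOf_of_card hE1L hE1'L (card_map_cj g E1)
  exact Cfsg.Agent.Helper58.BG139Req.false_of_centralizes_hall_tau1 hG L hL h2L (E1.map (cj g)) (R.map (cj g)) hF hR'L
    r hr (by rw [card_map_cj, hR]) hrσ (by rw [card_map_cj]; exact hrE) hcent

/-- **BG 13.9, the contradiction**: helper21's aligned bad pair does not exist. -/
theorem false_of_setup (hG : IsMinSimpleOddOrder G) {M L : Subgroup G} {q : ℕ} [hq : Fact q.Prime]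
    {S : Sylow q G} (h : Setup M L q S) : False := by
  have hNM : normalizer ((S : Subgroup G) : Set G) ≤ M := h.normalizer_le.trans inf_le_left
  have hNL : normalizer ((S : Subgroup G) : Set G) ≤ L := h.normalizer_le.trans inf_le_right
  have hM := h.left.coatom
  have hL := h.right.coatom
  have hU := uniqHyp hG
  -- M side
  obtain ⟨E, hEN, hE⟩ := exists_compl_le_normalizer hG h.left hNM
  have hEs : Group.IsSolvable E := Cfsg.Agent.Helper15.BGV.solv_of_le_coatom hG hM hE.1
  obtain ⟨E1, hE1⟩ := exists_isPiHallOf (tau1 M) E hEs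
  have so := sideOut hG h.left h.abelian h.rank hNM hE hEN hE1
  -- L side
  obtain ⟨E', hE'N, hE'⟩ := exists_compl_le_normalizer hG h.right hNL
  have hE's : Group.IsSolvable E' := Cfsg.Agent.Helper15.BGV.solv_of_le_coatom hG hL hE'.1
  obtain ⟨E1', hE1'⟩ := exists_isPiHallOf (tau1 L) E' hE's
  have so' := sideOut hG h.right h.abelian h.rank hNL hE' hE'N hE1'
  -- conjugacy of E1, E1'
  have hcard : Nat.card E1' = Nat.card E1 := by
    have h1 := so.card_norm
    have h2 := so'.card_norm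
    rw [h1] at h2
    exact (Nat.eq_of_mul_eq_mul_left Nat.card_pos h2).symm
  have hE1solv : Group.IsSolvable E1 :=
    Cfsg.Agent.Helper15.BGV.solv_of_le_coatom hG hM so.hall.1
  obtain ⟨n, hn, hnE⟩ := Cfsg.Agent.Helper52.sz_conj_internal
    (centralizer ((S : Subgroup G) : Set G)) E1 E1' so.norm_cs (Or.inr hE1solv) so.coprime hcard
    (so'.le_norm.trans so.norm_le)
  have hnN : n ∈ normalizer ((S : Subgroup G) : Set G) := Subgroup.centralizer_le_normalizer _ hn
  have hnL : n ∈ L := hNL hnN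
  have hE'' : IsComplIn (E'.map (cj n⁻¹)) (sigmaCore L) L :=
    isComplIn_map_cj hE' (inv_mem hnL) (le_normalizer_sigmaCore L)
  have hE''N : E'.map (cj n⁻¹) ≤ normalizer ((S : Subgroup G) : Set G) := by
    rintro _ ⟨e, he, rfl⟩
    exact mul_mem (mul_mem (inv_mem hnN) (hE'N he)) (inv_mem (inv_mem hnN))
  have hE1'' : IsPiHallOf (tau1 L) E1 (E'.map (cj n⁻¹)) := by
    have h1 := isPiHallOf_map_cj hE1' n⁻¹
    have e : E1'.map (cj n⁻¹) = E1 := by
      rw [hnE]; exact Cfsg.Agent.Helper15.BGV.map_conj_inv_map_conj E1 n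
    rwa [e] at h1
  have so'' := sideOut hG h.right h.abelian h.rank hNL hE'' hE''N hE1''
  -- q is not in alpha
  have hqαM : q ∉ alpha M := fun hα => h.left.alpha_disj q hα h.right.mem_sigma
  have hqαL : q ∉ alpha L := fun hα => h.right.alpha_disj q hα h.left.mem_sigma
  have hLM : L ≠ M := by
    intro e
    apply h.not_conj 1
    rw [e]
    exact (Cfsg.Agent.Helper15.BGV.map_conj_one M).symm
  have key : ∀ {A B : Subgroup G}, IsCoatom A → IsCoatom B → A ≤ B → B = A := by
    intro A B hA hB hAB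
    rcases eq_or_lt_of_le hAB with e | hlt
    · exact e.symm
    · exact absurd (hA.2 B hlt) hB.1
  have hncM : ¬ alphaCore M ≤ centralizer ((S : Subgroup G) : Set G) := by
    intro hc
    apply hLM
    apply key hM hL
    calc M = alphaCore M ⊔ normalizer ((S : Subgroup G) : Set G) := h.left.factor.symm
      _ ≤ normalizer ((S : Subgroup G) : Set G) :=
          sup_le (hc.trans (Subgroup.centralizer_le_normalizer _)) le_rfl
      _ ≤ L := hNL
  have hncL : ¬ alphaCore L ≤ centralizer ((S : Subgroup G) : Set G) := by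
    intro hc
    apply hLM.symm
    apply key hL hM
    calc L = alphaCore L ⊔ normalizer ((S : Subgroup G) : Set G) := h.right.factor.symm
      _ ≤ normalizer ((S : Subgroup G) : Set G) :=
          sup_le (hc.trans (Subgroup.centralizer_le_normalizer _)) le_rfl
      _ ≤ M := hNM
  -- step (D)
  obtain ⟨r, R0, hrα, hR0, hR0le⟩ := exists_prime_order_centralizing hG M hM q S
    h.abelian h.left.mem_sigma hqαM hNM hncM E1 so.le_norm so.comm so.ne_bot so.sigma' so.fpf
    so.prime_act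
  obtain ⟨s, Rs, hsα, hRs, hRsle⟩ := exists_prime_order_centralizing hG L hL q S
    h.abelian h.right.mem_sigma hqαL hNL hncL E1 so''.le_norm so''.comm so''.ne_bot so''.sigma'
    so''.fpf so''.prime_act
  -- step (C)
  have hrβ : r ∈ beta M :=
    mem_beta_of_mem_alpha hG M L hM hL hLM q S h.left.S_le hqαM hNL r hrα
  have hsβ : s ∈ beta L :=
    mem_beta_of_mem_alpha hG L M hL hM hLM.symm q S h.right.S_le hqαL hNM s hsα
  have hrp : r.Prime := hrα.1
  have hsp : s.Prime := hsα.1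
  have hrσL : r ∉ sigma L := h.left.alpha_disj r hrα
  have hsσM : s ∉ sigma M := h.right.alpha_disj s hsα
  have hrσM : r ∈ sigma M := Cfsg.Agent.Helper79.BG10.alpha_subset_sigma hG hU hM hrα
  have hsσL : s ∈ sigma L := Cfsg.Agent.Helper79.BG10.alpha_subset_sigma hG hU hL hsα
  have hrs : r ≠ s := by
    rintro rfl
    exact hrσL hsσL
  -- step (F)
  have hCtop : centralizer (E1 : Set G) ≠ ⊤ := by
    intro htop
    apply Cfsg.Agent.Helper15.BGV.normalizer_ne_top_of_le_coatom hG hM so.hall.1 so.ne_bot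
    rw [eq_top_iff, ← htop]
    exact Subgroup.centralizer_le_normalizer _
  have hCsolv : Group.IsSolvable (centralizer (E1 : Set G)) := hG.2.2.2 _ hCtop
  have : Fact r.Prime := ⟨hrp⟩
  have : Fact s.Prime := ⟨hsp⟩
  obtain ⟨V, c, hcC, hVC, hV1, hcase⟩ := Cfsg.Agent.Helper16.BG139Req.exists_elemAb_normalized
    (centralizer (E1 : Set G)) hCsolv r s hrs R0 Rs (hR0le.trans inf_le_right)
    (hRsle.trans inf_le_right) hR0 hRs
  have hconjC : ∀ X : Subgroup G, X ≤ centralizer (E1 : Set G) →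
      X.map (cj c) ≤ centralizer (E1 : Set G) := by
    rintro X hX _ ⟨x, hx, rfl⟩
    exact mul_mem (mul_mem hcC (hX hx)) (inv_mem hcC)
  rcases hcase with ⟨hVs, hRn⟩ | ⟨hVr, hRsn⟩
  · exact final_case hG hL h.right.tau2_empty so''.hall hrp hsβ hrσL
      (fun hd => so.sigma' r hrp hd hrσM) (by rw [card_map_cj]; exact hR0)
      (hconjC R0 (hR0le.trans inf_le_right)) hVs hV1 hVC hRn
  · exact final_case hG hM h.left.tau2_empty so.hall hsp hrβ hsσM
      (fun hd => so''.sigma' s hsp hd hsσL) (by rw [card_map_cj]; exact hRs)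
      (hconjC Rs (hRsle.trans inf_le_right)) hVr hV1 hVC hRsn

end Cfsg.Agent.Helper53.BG139
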