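import Mathlib
import Cfsg.Agent.Lib.Helper2.SR0

/-!
# SR (C14) for helper2's S2281 server: the conjugator `g` for `n = 2`.
-/

set_option autoImplicit false

namespace Cfsg.Agent.Helper53.SR

open Matrix Cfsg Cfsg.Agent.Helper13 Cfsg.Agent.Helper84.SpRoot Cfsg.Agent.Helper5.SpAut
open Cfsg.Agent.Helper2.SR

variable {F : Type*} [Field F]

/-- the matrix of `g = L(1 + b N) U(s b E_11 + r (E_01 + E_10))` for `n = 2` -/
def h53_gM (s b r : F) : Matrix (Fin 2 ⊕ Fin 2) (Fin 2 ⊕ Fin 2) F :=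
  Matrix.fromBlocks !![1, b; 0, 1] !![b * r, r + s * b * b; r, s * b] 0 !![1, 0; -b, 1]

theorem h53_gM_mem (s b r : F) : h53_gM s b r ∈ Matrix.symplecticGroup (Fin 2) F := by
  rw [SymplecticGroup.mem_iff]
  ext i j
  rcases i with i | i <;> rcases j with j | j <;> fin_cases i <;> fin_cases j <;>
    simp [h53_gM, Matrix.J, Matrix.mul_apply, Fintype.sum_sum_type, Fin.sum_univ_two,
      Matrix.transpose_apply, Matrix.one_apply] <;> ring

/-- the matrix of `u` for `n = 2` -/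
def h53_uM2 (s : F) : Matrix (Fin 2 ⊕ Fin 2) (Fin 2 ⊕ Fin 2) F :=
  Matrix.fromBlocks !![1, 1; 0, 1] !![0, s; 0, s] 0 !![1, 0; -1, 1]

theorem h53_uM_eq (s : F) : uM (m := 0) s = h53_uM2 s := by
  ext i j
  rcases i with i | i <;> rcases j with j | j <;> fin_cases i <;> fin_cases j <;>
    simp [h53_uM2, uM, Pm, Nm, Ym, Pinv, jB, Matrix.mul_apply, Fin.sum_univ_two,
      Matrix.transpose_apply, Matrix.one_apply, Fin.ext_iff]

theorem h53_uM2_mem (s : F) : h53_uM2 s ∈ Matrix.symplecticGroup (Fin 2) F := by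
  rw [SymplecticGroup.mem_iff]
  ext i j
  rcases i with i | i <;> rcases j with j | j <;> fin_cases i <;> fin_cases j <;>
    simp [h53_uM2, Matrix.J, Matrix.mul_apply, Fintype.sum_sum_type, Fin.sum_univ_two,
      Matrix.transpose_apply, Matrix.one_apply] <;> ring

theorem h53_uEl_val (s : F) : (uEl (m := 0) s).val = h53_uM2 s := by
  have h : uM (m := 0) s ∈ Matrix.symplecticGroup (Fin (0 + 2)) F := by
    rw [h53_uM_eq]; exact h53_uM2_mem s
  unfold uEl
  rw [dif_pos h]
  exact h53_uM_eq s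

/-- the matrix of the transvection `T_{e_0}(κ)` for `n = 2` -/
theorem h53_sympT_val (κ : F) :
    (sympT (be (m := 0) (0 : Fin (0 + 2))) κ : Matrix.symplecticGroup (Fin (0 + 2)) F).val =
      Matrix.fromBlocks 1 !![κ, 0; 0, 0] 0 1 := by
  show Cfsg.sympTransvection (0 + 2) (be (m := 0) (0 : Fin (0 + 2))) κ = _
  ext i j
  rcases i with i | i <;> rcases j with j | j <;> fin_cases i <;> fin_cases j <;>
    simp [Cfsg.sympTransvection, be, Matrix.J, Matrix.vecMulVec_apply, Matrix.mulVec, dotProduct,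
      Fintype.sum_sum_type, Fin.sum_univ_two, Matrix.one_apply, Pi.single_apply]

/-- (C14) `n = 2`: `g = L(1 + b N) U(s b E_11 + r (E_01 + E_10))` -/
theorem exists_g_two (s b r : F) :
    ∃ g : Matrix.symplecticGroup (Fin (0 + 2)) F,
      g * uEl (m := 0) s * g⁻¹ = sympT (be 0) (s * b * (1 - b) - 2 * r) * uEl (m := 0) s := by
  refine ⟨⟨h53_gM s b r, h53_gM_mem s b r⟩, ?_⟩
  rw [mul_inv_eq_iff_eq_mul]
  apply Subtype.ext
  rw [Submonoid.coe_mul, Submonoid.coe_mul, Submonoid.coe_mul, h53_uEl_val, h53_sympT_val]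
  show h53_gM s b r * h53_uM2 s = _ * h53_uM2 s * h53_gM s b r
  ext i j
  rcases i with i | i <;> rcases j with j | j <;> fin_cases i <;> fin_cases j <;>
    simp [h53_gM, h53_uM2, Matrix.mul_apply, Fintype.sum_sum_type, Fin.sum_univ_two,
      Matrix.one_apply] <;> ring

end Cfsg.Agent.Helper53.SR
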