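import Mathlib
import Cfsg.Agent.Lib.Helper2.SS0
import Cfsg.Agent.Lib.Helper12.SSY1
import Cfsg.Agent.Lib.Helper41.SSY3

/-!
# SS lemma server (S2411), piece (Y7a) `l_e0` (helper53): `l e_0 = c (y e_0) = c e_0 = e_1`.
-/

set_option autoImplicit false

namespace Cfsg.Agent.Helper53.SS

open Matrix Cfsg Cfsg.Agent.Helper13 Cfsg.Agent.Helper84.SpRoot Cfsg.Agent.Helper5.SpAut
open Cfsg.Agent.Helper2.SR Cfsg.Agent.Helper2.SS

section Y
variable {F : Type*} [Field F] {m : ℕ}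

/-- (Y7a) uses Y2 Y3 -/
theorem l_e0 (α β ξ : F) : (lEl (m := m) α β ξ).val *ᵥ be 0 = be 1 := by
  have h1 : (lEl (m := m) α β ξ).val = (cEl m F).val * (yEl (m := m) α β ξ).val := rfl
  rw [h1, ← Matrix.mulVec_mulVec, (Cfsg.Agent.Helper41.SS.y_act (m := m) α β ξ).1]
  exact (Cfsg.Agent.Helper12.SS.c_act (F := F) (m := m)).1 0 1 (by simp)

end Y

end Cfsg.Agent.Helper53.SS
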