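import Mathlib
import Cfsg.Agent.Lib.Helper53.UniqueInvol1
import Cfsg.Agent.Lib.Helper53.UniqueInvol2

set_option autoImplicit false

namespace Cfsg.Agent.Helper53

/-- A nontrivial normal subgroup of a finite `2`-group contains a central involution. -/
theorem exists_central_invol_of_normal {G : Type*} [Group G] [Finite G] (hG : IsPGroup 2 G)
    (N : Subgroup G) [N.Normal] (hN : N ≠ ⊥) :
    ∃ z ∈ N, orderOf z = 2 ∧ z ∈ Subgroup.center G := by
  haveI : Fact (Nat.Prime 2) := ⟨Nat.prime_two⟩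
  obtain ⟨z, hzN, hz1, hzc⟩ := exists_ne_one_mem_center_of_normal' hG N hN
  obtain ⟨e, he⟩ := IsPGroup.iff_orderOf.mp hG z
  rcases e with _ | e
  · rw [pow_zero] at he
    exact absurd (orderOf_eq_one_iff.mp he) hz1
  · exact ⟨z ^ 2 ^ e, Subgroup.pow_mem _ hzN _, orderOf_pow_half z e he,
      Subgroup.pow_mem _ hzc _⟩

/-- A proper subgroup of a finite `2`-group lies in a (normal) subgroup of index `2`. -/
theorem exists_index_two_ge {G : Type*} [Group G] [Finite G] (hG : IsPGroup 2 G)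
    (H : Subgroup G) (hH : H ≠ ⊤) : ∃ M : Subgroup G, H ≤ M ∧ M.index = 2 := by
  haveI : Fact (Nat.Prime 2) := ⟨Nat.prime_two⟩
  obtain ⟨n, hn⟩ := IsPGroup.iff_card.mp hG
  obtain ⟨h, hh⟩ := IsPGroup.iff_card.mp (hG.to_subgroup H)
  have hlt : h < n := by
    have h1 : Nat.card H ∣ Nat.card G := Subgroup.card_subgroup_dvd_card H
    rw [hn, hh] at h1
    have h2 : h ≤ n := (Nat.pow_dvd_pow_iff_le_right (by norm_num)).1 h1
    rcases h2.lt_or_eq with h3 | h3
    · exact h3
    · exfalso; apply hH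
      apply Subgroup.eq_top_of_card_eq
      rw [hh, hn, h3]
  obtain ⟨M, hM, hHM⟩ := Sylow.exists_subgroup_card_pow_prime_le (G := G) 2
    (n := h) (m := n - 1) (by rw [hn]; exact pow_dvd_pow 2 (by omega)) H hh (by omega)
  refine ⟨M, hHM, ?_⟩
  have h1 := M.card_mul_index
  rw [hM, hn] at h1
  have h2 : (2 : ℕ) ^ n = 2 ^ (n - 1) * 2 := by rw [← pow_succ]; congr 1; omega
  rw [h2] at h1
  exact Nat.eq_of_mul_eq_mul_left (pow_pos (by norm_num) _) h1

end Cfsg.Agent.Helper53
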