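import Mathlib
import Cfsg.Prelude.Def_Characters
import Cfsg.Prelude.Def_Blocks

/-!
# CD3A (helper53): definitions for Theorem A of S4460 (`|cd(G)| = 3 ⇒ G` solvable)
-/

set_option autoImplicit false

namespace Cfsg.Agent.Helper53.CD3A

open Cfsg
open scoped ComplexConjugate commutatorElement

universe u

/-- every irreducible character degree of `G` lies in `{1, m, n}` -/
def DegIn (G : Type u) [Group G] (m n : ℕ) : Prop :=
  ∀ χ : IrrCharacter G, charDegree (χ : G → ℂ) = 1 ∨ charDegree (χ : G → ℂ) = m ∨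
    charDegree (χ : G → ℂ) = n

/-- induction hypothesis: every smaller group with at most three degrees is solvable -/
def SmallerSolv (G : Type u) [Group G] : Prop :=
  ∀ (H : Type u) [Group H] [Finite H], Nat.card H < Nat.card G →
    (∃ a b : ℕ, DegIn H a b) → Group.IsSolvable H

/-- every proper quotient is solvable -/
def QuotSolv (G : Type u) [Group G] : Prop :=
  ∀ L : Subgroup G, ∀ _ : L.Normal, L ≠ ⊥ → Group.IsSolvable (G ⧸ L)

/-- `G'` is a minimal normal subgroup of `G` (or trivial) -/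
def MinComm (G : Type u) [Group G] : Prop :=
  ∀ L : Subgroup G, L.Normal → L ≤ commutator G → L ≠ ⊥ → L = commutator G

/-- product trick, degrees `m` and `n`: the product is of pure `m`-type or of pure `n`-type -/
def ProdMN (G : Type u) [Group G] [Fintype G] (m n : ℕ) : Prop :=
  ∀ χ ψ : IrrCharacter G, charDegree (χ : G → ℂ) = m → charDegree (ψ : G → ℂ) = n →
    (∀ σ : IrrCharacter G, classInner ((χ : G → ℂ) * (ψ : G → ℂ)) (σ : G → ℂ) ≠ 0 →
        charDegree (σ : G → ℂ) = m) ∨
    (∀ σ : IrrCharacter G, classInner ((χ : G → ℂ) * (ψ : G → ℂ)) (σ : G → ℂ) ≠ 0 →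
        charDegree (σ : G → ℂ) = n)

/-- product trick, degrees `m` and `m`: unless `χ' = conj χ * lam` with `lam` linear, the product is of
pure `m`-type -/
def ProdMM (G : Type u) [Group G] [Fintype G] (m : ℕ) : Prop :=
  ∀ χ χ' : IrrCharacter G, charDegree (χ : G → ℂ) = m → charDegree (χ' : G → ℂ) = m →
    (∀ lam : IrrCharacter G, charDegree (lam : G → ℂ) = 1 →
      (χ' : G → ℂ) ≠ fun g => conj ((χ : G → ℂ) g) * (lam : G → ℂ) g) →
    ∀ σ : IrrCharacter G, classInner ((χ : G → ℂ) * (χ' : G → ℂ)) (σ : G → ℂ) ≠ 0 →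
      charDegree (σ : G → ℂ) = m

/-- if `ψ` (degree `n`) occurs in `χ * conj χ` (`χ` of degree `m`) then `χ` vanishes on `G' ∖ ker ψ` -/
def Vanish (G : Type u) [Group G] [Fintype G] (m n : ℕ) : Prop :=
  ∀ χ ψ : IrrCharacter G, charDegree (χ : G → ℂ) = m → charDegree (ψ : G → ℂ) = n →
    classInner (fun g => (χ : G → ℂ) g * conj ((χ : G → ℂ) g)) (ψ : G → ℂ) ≠ 0 →
    ∀ g ∈ commutator G, (ψ : G → ℂ) g ≠ (ψ : G → ℂ) 1 → (χ : G → ℂ) g = 0

/-- no character of degree `n` occurs in `χ * conj χ` for `χ` of degree `m` -/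
def NoNPart (G : Type u) [Group G] [Fintype G] (m n : ℕ) : Prop :=
  ∀ χ ψ : IrrCharacter G, charDegree (χ : G → ℂ) = m → charDegree (ψ : G → ℂ) = n →
    classInner (fun g => (χ : G → ℂ) g * conj ((χ : G → ℂ) g)) (ψ : G → ℂ) = 0

/-- all irreducible characters of `G` over a given irreducible character of `N` have the same degree -/
def SameDeg (G : Type u) [Group G] (N : Subgroup G) [Fintype N] : Prop :=
  ∀ (φ : IrrCharacter N) (χ χ' : IrrCharacter G),
    classInner (fun x : N => (χ : G → ℂ) x) (φ : N → ℂ) ≠ 0 →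
    classInner (fun x : N => (χ' : G → ℂ) x) (φ : N → ℂ) ≠ 0 →
    charDegree (χ : G → ℂ) = charDegree (χ' : G → ℂ)

/-- `φ ∈ Irr(G')` lies under an irreducible character of `G` of degree `≠ n` -/
def LowType (G : Type u) [Group G] [Fintype ↥(commutator G)] (n : ℕ)
    (φ : IrrCharacter ↥(commutator G)) : Prop :=
  ∃ χ : IrrCharacter G, charDegree (χ : G → ℂ) ≠ n ∧
    classInner (fun x : ↥(commutator G) => (χ : G → ℂ) x) (φ : ↥(commutator G) → ℂ) ≠ 0

/-- the members of `Irr(F)` that agree with `θ` on `K` -/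
def OverSet {G : Type u} [Group G] (K F : Subgroup G) (θ : F → ℂ) : Set (IrrCharacter F) :=
  {η | ∀ x : F, (x : G) ∈ K → (η : F → ℂ) x = θ x}

end Cfsg.Agent.Helper53.CD3A
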