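import Mathlib
import Cfsg.Prelude.Def_OddOrderLocal

set_option autoImplicit false

/-!
# MC3 (S4079): data extracted from a metacyclic `p`-group without cyclic maximal subgroup
-/

namespace Cfsg.Agent.Helper53.MC3

/-- Elementwise data about `Ω₁(L) = {x | x ^ p = 1}` and `Ω₂(L) = {x | x ^ p ^ 2 = 1}` of a metacyclic
`p`-group `L` (`p` odd) with no cyclic subgroup of index `p`:
both sets are closed under multiplication, have `p ^ 2` resp. `p ^ 4` elements, `Ω₁` is central in `Ω₂`,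
the `p`-power map is multiplicative on `Ω₂` and maps onto `Ω₁`; and the commutators of `L` lie in one cyclic
subgroup. -/
structure OmData (p : ℕ) (L : Type*) [Group L] : Prop where
  mul1 : ∀ x y : L, x ^ p = 1 → y ^ p = 1 → (x * y) ^ p = 1
  card1 : Nat.card {x : L // x ^ p = 1} = p ^ 2
  mul2 : ∀ x y : L, x ^ p ^ 2 = 1 → y ^ p ^ 2 = 1 → (x * y) ^ p ^ 2 = 1
  card2 : Nat.card {x : L // x ^ p ^ 2 = 1} = p ^ 4
  central : ∀ w y : L, w ^ p = 1 → y ^ p ^ 2 = 1 → w * y = y * w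
  pow_mul : ∀ x y : L, x ^ p ^ 2 = 1 → y ^ p ^ 2 = 1 → (x * y) ^ p = x ^ p * y ^ p
  surj : ∀ w : L, w ^ p = 1 → ∃ y : L, y ^ p = w
  comm_cyc : ∃ c : L, ∀ x y : L, x * y * x⁻¹ * y⁻¹ ∈ Subgroup.zpowers c

end Cfsg.Agent.Helper53.MC3
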