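import Mathlib
import Cfsg.Agent.Lib.Helper30.BG144cDefs
import Cfsg.Agent.Lib.Helper33.TameStep
import Cfsg.Agent.Lib.Helper52.CoprimeSylow
import Cfsg.Agent.Lib.Helper34.BG10d
import Cfsg.Agent.Lib.Helper45.CNMax
import Cfsg.Agent.Lib.Helper60.BG144b
import Cfsg.Agent.Lib.Helper55.BGFit
import Cfsg.Agent.Lib.Helper76.EqOrd1

/-! B-G Theorem 14.4(c) (row S1376), piece (D5) of helper30's lemma server:
`nonnilpotent_false`. -/

set_option autoImplicit false
set_option linter.unusedVariables false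

namespace Cfsg.Agent.Helper53.BG144c

open Cfsg Subgroup
open Cfsg.Agent.Helper30.BG144c
open Cfsg.Agent.Helper33 (IsSylIn mem_conj_smul conj_smul_le_iff smul_eq_of_mem_normalizer
  conj_smul_le_iff_le_inv card_conj_smul)
open scoped Pointwise

universe u

variable {G : Type u} [Group G]

theorem mem_normalizer_inf {A B : Subgroup G} {g : G} (hA : g ∈ normalizer (A : Set G))
    (hB : g ∈ normalizer (B : Set G)) : g ∈ normalizer ((A ⊓ B : Subgroup G) : Set G) := by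
  rw [mem_normalizer_iff] at hA hB ⊢
  intro y
  rw [mem_inf, mem_inf, hA y, hB y]

theorem centralizer_le_normalizer_centralizer (K : Subgroup G) :
    centralizer (K : Set G) ≤ normalizer ((centralizer (K : Set G) : Subgroup G) : Set G) :=
  le_normalizer

/-- a fixed-point-free element: every element of `H` is a commutator with `x`. -/
theorem le_closure_comm_of_fpf [Finite G] {H : Subgroup G} {x : G}
    (hx : ∀ u ∈ H, x * u * x⁻¹ ∈ H) (hfpf : ∀ u ∈ H, x * u = u * x → u = 1) :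
    H ≤ closure {g | ∃ u ∈ H, g = x * u * x⁻¹ * u⁻¹} := by
  let φ : H → H := fun u => ⟨x * u * x⁻¹ * (u : G)⁻¹, H.mul_mem (hx u u.2) (H.inv_mem u.2)⟩
  have hinj : Function.Injective φ := by
    intro u v huv
    have h1 : x * u * x⁻¹ * (u : G)⁻¹ = x * v * x⁻¹ * (v : G)⁻¹ := congrArg Subtype.val huv
    have h3 : (u : G) * x⁻¹ * (u : G)⁻¹ = v * x⁻¹ * (v : G)⁻¹ := by
      have := congrArg (fun t => x⁻¹ * t) h1
      simpa [mul_assoc] using this
    have h4 : (v : G)⁻¹ * u * x⁻¹ = x⁻¹ * ((v : G)⁻¹ * u) := by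
      calc (v : G)⁻¹ * u * x⁻¹ = (v : G)⁻¹ * (u * x⁻¹ * (u : G)⁻¹) * u := by group
        _ = (v : G)⁻¹ * (v * x⁻¹ * (v : G)⁻¹) * u := by rw [h3]
        _ = x⁻¹ * ((v : G)⁻¹ * u) := by group
    have h2 : x * ((v : G)⁻¹ * u) = ((v : G)⁻¹ * u) * x := by
      calc x * ((v : G)⁻¹ * u) = x * ((v : G)⁻¹ * u * x⁻¹) * x := by group
        _ = x * (x⁻¹ * ((v : G)⁻¹ * u)) * x := by rw [h4]
        _ = ((v : G)⁻¹ * u) * x := by group
    have h5 := hfpf _ (H.mul_mem (H.inv_mem v.2) u.2) h2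
    apply Subtype.ext
    calc (u : G) = v * ((v : G)⁻¹ * u) := by group
      _ = v := by rw [h5, mul_one]
  have hsurj := Finite.injective_iff_surjective.mp hinj
  intro h hh
  obtain ⟨u, hu⟩ := hsurj ⟨h, hh⟩
  apply Subgroup.subset_closure
  exact ⟨u, u.2, (congrArg Subtype.val hu).symm⟩

/-- a subgroup whose order is the full `s`-part of the order of `T` is a Sylow `s`-subgroup. -/
theorem isSylIn_of_sylCard [Finite G] {s : ℕ} [hs : Fact s.Prime] {H T : Subgroup G} (hHT : H ≤ T)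
    (hc : Nat.card H = Cfsg.Agent.Helper52.sylCard s T) : IsSylIn s H T := by
  obtain ⟨T', hT'⟩ := Cfsg.Agent.Helper33.exists_isSylIn (p := s) T
  unfold Cfsg.Agent.Helper52.sylCard at hc
  refine hT'.of_card_le (IsPGroup.of_card hc) hHT ?_
  obtain ⟨n, hn⟩ := IsPGroup.iff_card.mp hT'.isPGroup
  have h1 : s ^ n ∣ Nat.card T := by rw [← hn]; exact Subgroup.card_dvd_of_le hT'.le
  have h2 : n ≤ (Nat.card T).factorization s :=
    (hs.out.pow_dvd_iff_le_factorization Nat.card_pos.ne').mp h1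
  rw [hn, hc]; exact Nat.pow_le_pow_right hs.out.pos h2

/-- The FR-argument: `C_Q(K)` centralizes every `s`-subgroup of `C_{Ns}(K)`. -/
theorem inf_centralizer_le_of_fr [Finite G] (fr : FR G) {p s r : ℕ} (hp : p.Prime) (hs : s.Prime)
    (hr : r.Prime) (hp2 : p ≠ 2) (hs2 : s ≠ 2) (hps : p ≠ s) (hpr : p ≠ r) (hsr : s ≠ r)
    {Ns Kst K Q A' : Subgroup G}
    (hKstN : Kst ≤ normalizer (Ns : Set G)) (hKstc : Nat.card Kst = r)
    (hcop : ¬ r ∣ Nat.card Ns)
    (hKp : Nat.card K = p)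
    (hKstK : Kst ≤ centralizer (K : Set G))
    (hfix : ∀ k ∈ Kst, k ≠ 1 → Ns ⊓ centralizer ({k} : Set G) = K)
    (hQp : IsPGroup p Q) (hNsQ : Ns ≤ normalizer (Q : Set G))
    (hKstQ : Kst ≤ normalizer (Q : Set G)) (hQNs : Q ≤ Ns)
    (hA'T : A' ≤ Ns ⊓ centralizer (K : Set G)) (hA's : IsPGroup s A') :
    Q ⊓ centralizer (K : Set G) ≤ centralizer (A' : Set G) := by
  classical
  have : Fact s.Prime := ⟨hs⟩
  have : Fact r.Prime := ⟨hr⟩
  have : Fact p.Prime := ⟨hp⟩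
  set T0 : Subgroup G := Ns ⊓ centralizer (K : Set G) with hT0
  set P : Subgroup G := Q ⊓ centralizer (K : Set G) with hP
  have hKstT0 : Kst ≤ normalizer (T0 : Set G) := fun k hk =>
    mem_normalizer_inf (hKstN hk) (centralizer_le_normalizer_centralizer K (hKstK hk))
  have hT0P : T0 ≤ normalizer (P : Set G) := fun t ht =>
    mem_normalizer_inf (hNsQ ht.1) (centralizer_le_normalizer_centralizer K ht.2)
  have hKstP : Kst ≤ normalizer (P : Set G) := fun k hk =>
    mem_normalizer_inf (hKstQ hk) (centralizer_le_normalizer_centralizer K (hKstK hk))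
  have hcop' : (Nat.card Kst).Coprime (Nat.card T0) := by
    rw [hKstc]
    exact (Nat.Prime.coprime_iff_not_dvd hr).mpr
      (fun h => hcop (h.trans (Subgroup.card_dvd_of_le inf_le_left)))
  have hKstcyc : IsCyclic Kst := isCyclic_of_prime_card hKstc
  have hKstsolv : Group.IsSolvable Kst :=
    Group.isSolvable_of_comm (fun a b => (IsCyclic.isMulCommutative (α := Kst)).is_comm.comm a b)
  obtain ⟨Hs, hHsT0, hHscard, hKstHs⟩ :=
    Cfsg.Agent.Helper52.exists_invariant_sylow Kst T0 hKstT0 hcop' (Or.inl hKstsolv) s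
  have hHssyl : IsSylIn s Hs T0 := isSylIn_of_sylCard hHsT0 hHscard
  have hHsp : IsPGroup s Hs := hHssyl.isPGroup
  have hKst1 : Kst ≠ ⊥ := by
    intro h
    rw [h, Subgroup.card_bot] at hKstc
    exact hr.one_lt.ne hKstc
  obtain ⟨kst, hkst, hkst1⟩ := (Subgroup.bot_or_exists_ne_one Kst).resolve_left hKst1
  have hxr : kst ^ r = 1 := by
    have h1 : (⟨kst, hkst⟩ : Kst) ^ Nat.card Kst = 1 := pow_card_eq_one'
    have h2 := congrArg Subtype.val h1
    rwa [Subgroup.coe_pow, Subgroup.coe_one, hKstc] at h2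
  have hfixk := hfix kst hkst hkst1
  have hKpg : IsPGroup p K := IsPGroup.of_card (n := 1) (by rw [hKp, pow_one])
  have hKHs : ∀ y, y ∈ K → y ∈ Hs → y = 1 := by
    intro y hyK hyHs
    have hdisj : Disjoint K Hs := IsPGroup.disjoint_of_ne p s hps K Hs hKpg hHsp
    exact Subgroup.disjoint_def.mp hdisj hyK hyHs
  have hHsCK : Hs ≤ centralizer (K : Set G) := fun h hh => (hHsT0 hh).2
  have hmemfix : ∀ u ∈ Ns, kst * u = u * kst → u ∈ K := by
    intro u hu hc
    rw [← hfixk]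
    refine Subgroup.mem_inf.mpr ⟨hu, ?_⟩
    rw [mem_centralizer_iff]
    intro h hh
    rw [Set.mem_singleton_iff] at hh
    rw [hh]; exact hc
  have hfpf : ∀ u ∈ Hs, kst * u = u * kst → u = 1 := fun u hu hc =>
    hKHs u (hmemfix u (hHsT0 hu).1 hc) hu
  have hxK : ∀ u ∈ Hs, kst * u * kst⁻¹ ∈ Hs := fun u hu =>
    (mem_normalizer_iff.mp (hKstHs hkst) u).mp hu
  have hKgen := le_closure_comm_of_fpf hxK hfpf
  have hΩ : ∀ y ∈ P, kst * y = y * kst → y ^ p = 1 → y ∈ centralizer (Hs : Set G) := by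
    intro y hy hc _
    have h1 : y ∈ K := hmemfix y (hQNs hy.1) hc
    rw [mem_centralizer_iff]
    intro h hh
    exact ((mem_centralizer_iff.mp (hHsCK hh)) y h1).symm
  have hPC : P ≤ centralizer (Hs : Set G) :=
    fr hp hs hr hp2 hs2 hps hpr hsr P Hs kst (hQp.to_le inf_le_left) hHsp
      (hHsT0.trans hT0P) (hKstP hkst) hxK hxr hKgen hΩ
  obtain ⟨t, ht, htA⟩ := hHssyl.exists_conj_le hA's hA'T
  rw [conj_smul_le_iff] at htA
  intro y hy
  rw [mem_centralizer_iff]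
  intro a ha
  have h1 : t * y * t⁻¹ ∈ P := (mem_normalizer_iff.mp (hT0P ht) y).mp hy
  have h2 : t * a * t⁻¹ ∈ Hs := htA a ha
  have h3 := (mem_centralizer_iff.mp (hPC h1)) _ h2
  have h4 : t * (a * y) * t⁻¹ = t * (y * a) * t⁻¹ := by
    calc t * (a * y) * t⁻¹ = (t * a * t⁻¹) * (t * y * t⁻¹) := by group
      _ = (t * y * t⁻¹) * (t * a * t⁻¹) := h3
      _ = t * (y * a) * t⁻¹ := by group
  exact mul_left_cancel (mul_right_cancel h4)

/-- a `p`-group `Q` containing a subgroup `K` of order `p` with `C_Q(K)` cyclic centralizes `K`. -/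
theorem le_centralizer_of_cyclic_inf [Finite G] {p : ℕ} [hp : Fact p.Prime] {Q K : Subgroup G}
    (hQ : IsPGroup p Q) (hKQ : K ≤ Q) (hKp : Nat.card K = p)
    (hcyc : IsCyclic ↥(Q ⊓ centralizer (K : Set G))) : Q ≤ centralizer (K : Set G) := by
  have hKcyc : IsCyclic K := isCyclic_of_prime_card hKp
  have hKcomm : ∀ a ∈ K, ∀ b ∈ K, a * b = b * a := by
    intro a ha b hb
    have := (IsCyclic.isMulCommutative (α := K)).is_comm.comm (⟨a, ha⟩ : K) ⟨b, hb⟩
    exact congrArg Subtype.val this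
  have hKP : K ≤ Q ⊓ centralizer (K : Set G) := by
    intro k hk
    refine Subgroup.mem_inf.mpr ⟨hKQ hk, ?_⟩
    rw [mem_centralizer_iff]
    intro h hh
    exact hKcomm h hh k hk
  have hK1 : K ≠ ⊥ := by
    intro h
    rw [h, Subgroup.card_bot] at hKp
    exact hp.out.one_lt.ne hKp
  obtain ⟨k0, hk0, hk01⟩ := (Subgroup.bot_or_exists_ne_one K).resolve_left hK1
  have : Nontrivial ↥Q := ⟨⟨⟨k0, hKQ hk0⟩, 1, fun h => hk01 (congrArg Subtype.val h)⟩⟩
  have hZn : Nontrivial ↥(center ↥Q) := hQ.center_nontrivial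
  have hZp : IsPGroup p ↥(center ↥Q) := hQ.to_subgroup _
  obtain ⟨j, hj⟩ := IsPGroup.iff_card.mp hZp
  have hj0 : j ≠ 0 := by
    rintro rfl
    rw [pow_zero] at hj
    have := (Finite.one_lt_card_iff_nontrivial).mpr hZn
    omega
  obtain ⟨z₀, hz₀⟩ := exists_prime_orderOf_dvd_card' (G := ↥(center ↥Q)) p
    (by rw [hj]; exact dvd_pow_self p hj0)
  set z : G := ((z₀ : ↥Q) : G) with hz
  have hzo : orderOf z = p := by rw [hz, Subgroup.orderOf_coe, Subgroup.orderOf_coe]; exact hz₀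
  have hzQ : z ∈ Q := (z₀ : ↥Q).2
  have hzc : ∀ y ∈ Q, y * z = z * y := by
    intro y hy
    have := (mem_center_iff.mp z₀.2) ⟨y, hy⟩
    exact congrArg Subtype.val this
  have hzP : zpowers z ≤ Q ⊓ centralizer (K : Set G) := by
    rw [zpowers_le]
    refine Subgroup.mem_inf.mpr ⟨hzQ, ?_⟩
    rw [mem_centralizer_iff]
    intro k hk
    exact hzc k (hKQ hk)
  have hZc : Nat.card (zpowers z) = p := by rw [Nat.card_zpowers, hzo]
  have hKZ : K = zpowers z :=
    Cfsg.Agent.Helper76.EqOrd.eq_of_card_eq_of_le_isCyclic _ K (zpowers z) hKP hzP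
      (by rw [hKp, hZc])
  intro y hy
  rw [mem_centralizer_iff]
  intro k hk
  rw [hKZ] at hk
  obtain ⟨n, rfl⟩ := mem_zpowers_iff.mp hk
  have hc : Commute z y := (hzc y hy).symm
  exact (hc.zpow_left n).eq

/-- `p ∈ α(H)` gives an elementary abelian `p`-subgroup of `H` of order `> p²`. -/
theorem exists_elemAb_of_mem_alpha {H : Subgroup G} {p : ℕ} (h : p ∈ alpha H) :
    ∃ B : Subgroup G, B ≤ H ∧ IsElementaryAbelian p B ∧ p ^ 2 < Nat.card B := by
  obtain ⟨hp, hnr⟩ := h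
  unfold PRankLE at hnr
  push Not at hnr
  obtain ⟨A, hA1, hA2, hA3⟩ := hnr
  refine ⟨A.map H.subtype, map_subtype_le A, ⟨?_, ?_⟩, ?_⟩
  · have := hA1
    exact Subgroup.map_isMulCommutative _ _
  · rintro _ ⟨a, ha, rfl⟩
    rw [← map_pow, hA2 a ha, map_one]
  · rw [card_map_of_injective H.subtype_injective]; exact hA3

/-- a cyclic group has no elementary abelian `p`-subgroup of order `> p`. -/
theorem not_isCyclic_of_elemAb_le {p : ℕ} (hp : p.Prime) {B Q : Subgroup G} (hBQ : B ≤ Q)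
    (hB : IsElementaryAbelian p B) (hc : p < Nat.card B) : ¬ IsCyclic ↥Q := by
  intro hcyc
  have h1 : IsCyclic ↥(B.subgroupOf Q) := inferInstance
  have h2 : IsCyclic ↥B := isCyclic_of_surjective (Subgroup.subgroupOfEquivOfLe hBQ)
    (Subgroup.subgroupOfEquivOfLe hBQ).surjective
  obtain ⟨g, hg⟩ := h2.exists_generator
  have h3 : orderOf g = Nat.card ↥B := orderOf_eq_card_of_forall_mem_zpowers hg
  have h4 : g ^ p = 1 := by
    apply Subtype.ext
    have := hB.2 (g : G) g.2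
    simpa using this
  have h5 : orderOf g ≤ p := Nat.le_of_dvd hp.pos (orderOf_dvd_of_pow_eq_one h4)
  omega

/-- (D5) of helper30's BG144c lemma server: the case `(Nst)_σ` not nilpotent is impossible. -/
theorem nonnilpotent_false [Finite G] (hG : IsMinSimpleOddOrder G) (r1350 : R1350 G)
    (r1430 : R1430 G)
    (r1437 : R1437 G) (fr : FR G)
    {M N Nst : Subgroup G} (hM : IsCoatom M) (hN : IsCoatom N) {x0 : G} {q p : ℕ}
    {K U : Subgroup G}
    (A : SetupA M N x0 q K U) (B : SetupB M N Nst x0 K U p)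
    (hcomm : ∀ a ∈ M ⊓ Nst, ∀ b ∈ M ⊓ Nst, a * b = b * a)
    {s : ℕ} {A' S : Subgroup G} {a : G} (D : SetupD M Nst s A' S a)
    (hsσ : s ∈ sigma Nst) (hSσ : S ≤ sigmaCore Nst) (T : SetupS N Nst K)
    (hnn : ¬ Group.IsNilpotent (sigmaCore Nst))
    (hp2 : s ≠ p → PRankLE p 1 M) : False := by
  classical
  have hNst := B.hNst
  have hp := B.hp
  have hs := D.hs
  have : Fact p.Prime := ⟨hp⟩
  have : Fact s.Prime := ⟨hs⟩
  have hne : fittingHallOf Nst ≠ sigmaCore Nst := fun h =>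
    hnn (h ▸ Cfsg.Agent.Helper45.CNMax.nilpotent_fittingHallOf Nst)
  obtain ⟨-, -, hKstprime, -, -, hpbeta, Q, hQF, hQn, hQp, hQidx, -⟩ :=
    r1437 Nst hNst _ ⊥ T.hdec hne
  rw [← B.hKst, B.hKp] at hpbeta hQp hQidx
  have hHall := (r1350 Nst hNst).1
  have hNsNst : sigmaCore Nst ≤ Nst := hHall.1
  have hNstNs : Nst ≤ normalizer ((sigmaCore Nst : Subgroup G) : Set G) :=
    Cfsg.Agent.Helper55.BGB.le_normalizer_sigmaCore Nst
  have hKNs : K ≤ sigmaCore Nst := B.hKst.le.trans inf_le_left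
  have hKstK : sigmaCore N ⊓ centralizer (K : Set G) ≤ centralizer (K : Set G) := inf_le_right
  have hKstNst : sigmaCore N ⊓ centralizer (K : Set G) ≤ Nst := T.hdec.hall.1
  have hQNs : Q ≤ sigmaCore Nst :=
    hQF.trans (Cfsg.Agent.Helper60.BG144.fittingHallOf_le_sigmaCore hG hNst)
  -- the primes
  have hr : (Nat.card ↥(sigmaCore N ⊓ centralizer (K : Set G))).Prime := hKstprime
  have hrκ : Nat.card ↥(sigmaCore N ⊓ centralizer (K : Set G)) ∈ kappa Nst :=
    T.hdec.hall.2.1 _ hr dvd_rfl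
  have hrσ : Nat.card ↥(sigmaCore N ⊓ centralizer (K : Set G)) ∉ sigma Nst := hrκ.2.2.1
  have hpσ : p ∈ sigma Nst :=
    hHall.2.1 p hp (by rw [← B.hKp]; exact Subgroup.card_dvd_of_le hKNs)
  have hpr : p ≠ Nat.card ↥(sigmaCore N ⊓ centralizer (K : Set G)) := fun h => hrσ (h ▸ hpσ)
  have hsr : s ≠ Nat.card ↥(sigmaCore N ⊓ centralizer (K : Set G)) := fun h => hrσ (h ▸ hsσ)
  have hodd : ¬ 2 ∣ Nat.card G := fun h =>
    (Nat.not_even_iff_odd.mpr hG.1) (even_iff_two_dvd.mpr h)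
  have hp2' : p ≠ 2 := by
    intro h
    apply hodd
    rw [← h, ← B.hKp]
    exact Subgroup.card_subgroup_dvd_card K
  have hs2' : s ≠ 2 := by
    intro h
    apply hodd
    have h1 : s ∣ Nat.card A' := by rw [D.hAc]; exact dvd_pow_self s two_ne_zero
    rw [← h]
    exact h1.trans (Subgroup.card_subgroup_dvd_card A')
  have hrNs : ¬ Nat.card ↥(sigmaCore N ⊓ centralizer (K : Set G)) ∣ Nat.card (sigmaCore Nst) :=
    fun h => hrσ (hHall.2.1 _ hr h)
  -- Sylow statements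
  have hQsyl : IsSylIn p Q Nst := by
    refine ⟨hQNs.trans hNsNst, hQp, ?_⟩
    rw [← relIndex_mul_relIndex Q (sigmaCore Nst) Nst hQNs hNsNst]
    intro h
    rcases (Nat.Prime.dvd_mul hp).mp h with h | h
    · exact hQidx h
    · exact hHall.2.2 p hp hpσ h
  have hallQ : ∀ X : Subgroup G, IsPGroup p X → X ≤ Nst → X ≤ Q := by
    intro X hX hXN
    obtain ⟨x, hx, hle⟩ := hQsyl.exists_conj_le hX hXN
    rw [conj_smul_le_iff_le_inv, smul_eq_of_mem_normalizer (hQn (Nst.inv_mem hx))] at hle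
    exact hle
  obtain ⟨Bp, hBNst, hBel, hBcard⟩ := exists_elemAb_of_mem_alpha hpbeta.1
  have hBpg : IsPGroup p Bp := fun b => ⟨1, by
    apply Subtype.ext
    simpa using hBel.2 b.1 b.2⟩
  have hBQ : Bp ≤ Q := hallQ Bp hBpg hBNst
  have hKQ : K ≤ Q :=
    hallQ K (IsPGroup.of_card (n := 1) (by rw [B.hKp, pow_one])) (hKNs.trans hNsNst)
  -- `s ≠ p`
  have hsp : s ≠ p := by
    intro hsp
    have hSsyl : IsSylIn p S ⊤ :=
      ⟨le_top, hsp ▸ D.hSp, by rw [relIndex_top_right]; exact hsp ▸ D.hSsyl⟩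
    obtain ⟨x, -, hle⟩ := hSsyl.exists_conj_le hBpg le_top
    have hle' : MulAut.conj x • Bp ≤ A' := by
      intro y hy
      apply D.hSΩ y (hle hy)
      rw [mem_conj_smul] at hy
      have h1 := hBel.2 _ hy
      have h2 : y = x * (x⁻¹ * y * x) * x⁻¹ := by group
      rw [h2, conj_pow, hsp, h1]
      group
    have h3 := Subgroup.card_le_of_le hle'
    rw [card_conj_smul, D.hAc, hsp] at h3
    omega
  have hrank := hp2 hsp
  -- `C_Q(K) ≤ C(A')`
  have hA'T : A' ≤ sigmaCore Nst ⊓ centralizer (K : Set G) := by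
    intro y hy
    refine Subgroup.mem_inf.mpr ⟨hSσ (D.hAS hy), ?_⟩
    rw [mem_centralizer_iff]
    intro k hk
    exact hcomm k (B.hKE hk) y (D.hAE hy)
  have hA's : IsPGroup s A' := D.hSp.to_le D.hAS
  have hfix : ∀ k ∈ sigmaCore N ⊓ centralizer (K : Set G), k ≠ 1 →
      sigmaCore Nst ⊓ centralizer ({k} : Set G) = K := by
    intro k hk hk1
    rw [(r1430 Nst hNst _ T.hdec.hall T.hKst1).1 k hk hk1]
    exact B.hKst.symm
  have hPC := inf_centralizer_le_of_fr fr hp hs hr hp2' hs2' hsp.symm hpr hsr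
    (hKstNst.trans hNstNs) rfl hrNs B.hKp hKstK hfix hQp (hNsNst.trans hQn)
    (hKstNst.trans hQn) hQNs hA'T hA's
  -- `C_Q(K)` is cyclic
  have hPE : Q ⊓ centralizer (K : Set G) ≤ M ⊓ Nst := hPC.trans D.hCA
  have hPM : Q ⊓ centralizer (K : Set G) ≤ M := hPE.trans inf_le_left
  have hPp : IsPGroup p ↥(Q ⊓ centralizer (K : Set G)) := hQp.to_le inf_le_left
  have hPcyc : IsCyclic ↥(Q ⊓ centralizer (K : Set G)) := by
    have h1 : PRankLE p 1 ↥((Q ⊓ centralizer (K : Set G)).subgroupOf M) :=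
      Cfsg.Agent.Helper34.BG.pRankLE_subgroup_type hrank _
    have h2 : IsPGroup p ↥((Q ⊓ centralizer (K : Set G)).subgroupOf M) := hPp.comap_subtype
    have h3 : IsCyclic ↥((Q ⊓ centralizer (K : Set G)).subgroupOf M) :=
      Cfsg.Agent.Helper34.BG.isCyclic_of_pRankLE_one hp2' h2 h1
    exact isCyclic_of_surjective (subgroupOfEquivOfLe hPM) (subgroupOfEquivOfLe hPM).surjective
  have hQCK : Q ≤ centralizer (K : Set G) := le_centralizer_of_cyclic_inf hQp hKQ B.hKp hPcyc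
  have hQeq : Q ⊓ centralizer (K : Set G) = Q := inf_eq_left.mpr hQCK
  rw [hQeq] at hPcyc
  exact not_isCyclic_of_elemAb_le hp hBQ hBel (by nlinarith [hp.two_le]) hPcyc

end Cfsg.Agent.Helper53.BG144c
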