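import Mathlib
import Cfsg.Prelude.Def_CaseTheorems

set_option autoImplicit false

namespace Cfsg.Agent.Helper53

open Cfsg

/-- `PRankLE` transfers along a group isomorphism. -/
theorem pRankLE_of_mulEquiv {p k : ℕ} {G H : Type*} [Group G] [Group H] (e : G ≃* H)
    (h : PRankLE p k G) : PRankLE p k H := by
  intro A hA hexp
  have hc : IsMulCommutative (A.map e.symm.toMonoidHom) := by
    refine ⟨⟨fun a b => ?_⟩⟩
    apply Subtype.ext
    obtain ⟨a', ha', haa⟩ := a.2
    obtain ⟨b', hb', hbb⟩ := b.2
    have h1 : (⟨a', ha'⟩ : A) * ⟨b', hb'⟩ = ⟨b', hb'⟩ * ⟨a', ha'⟩ := mul_comm' _ _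
    have h2 : a' * b' = b' * a' := congrArg Subtype.val h1
    show a.1 * b.1 = b.1 * a.1
    rw [← haa, ← hbb, ← map_mul, ← map_mul, h2]
  have hexp' : ∀ a ∈ A.map e.symm.toMonoidHom, a ^ p = 1 := by
    rintro a ⟨a', ha', rfl⟩
    rw [← map_pow, hexp _ ha', map_one]
  have := h _ hc hexp'
  rwa [Subgroup.card_map_of_injective (f := e.symm.toMonoidHom) e.symm.injective] at this

/-- Sectional rank bounds pass to subgroups. -/
theorem sectionalPRankLE_subgroup {p k : ℕ} {G : Type*} [Group G] (M : Subgroup G)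
    (h : SectionalPRankLE p k G) : SectionalPRankLE p k M := by
  intro H' N' hN'
  let e : H' ≃* (H'.map M.subtype) := Subgroup.equivMapOfInjective H' M.subtype M.subtype_injective
  let N : Subgroup (H'.map M.subtype) := N'.map e.toMonoidHom
  have hN : N.Normal := Subgroup.Normal.map hN' _ e.surjective
  have e2 : (H'.map M.subtype) ⧸ N ≃* H' ⧸ N' :=
    (QuotientGroup.congr N' N e rfl).symm
  exact pRankLE_of_mulEquiv e2 (h (H'.map M.subtype) N)

/-- Sectional rank bounds pass to quotients. -/
theorem sectionalPRankLE_quotient {p k : ℕ} {G : Type*} [Group G] (K : Subgroup G) [K.Normal]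
    (h : SectionalPRankLE p k G) : SectionalPRankLE p k (G ⧸ K) := by
  intro H' N' hN'
  let f : G →* G ⧸ K := QuotientGroup.mk' K
  let φ : H'.comap f →* H' := f.subgroupComap H'
  have hφ : Function.Surjective φ :=
    MonoidHom.subgroupComap_surjective_of_surjective f H' (QuotientGroup.mk'_surjective K)
  let ψ : H'.comap f →* H' ⧸ N' := (QuotientGroup.mk' N').comp φ
  have hψ : Function.Surjective ψ := (QuotientGroup.mk'_surjective N').comp hφ
  exact pRankLE_of_mulEquiv (QuotientGroup.quotientKerEquivOfSurjective ψ hψ)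
    (h (H'.comap f) ψ.ker)

/-- The `p`-rank bound for the group itself. -/
theorem pRankLE_of_sectional {p k : ℕ} {G : Type*} [Group G]
    (h : SectionalPRankLE p k G) : PRankLE p k G := by
  have h1 := h ⊤ ⊥
  exact pRankLE_of_mulEquiv
    ((QuotientGroup.quotientBot (G := (⊤ : Subgroup G))).trans Subgroup.topEquiv) h1

/-- The `p`-rank bound for a quotient of the group. -/
theorem pRankLE_quotient_of_sectional {p k : ℕ} {G : Type*} [Group G] (K : Subgroup G) [K.Normal]
    (h : SectionalPRankLE p k G) : PRankLE p k (G ⧸ K) :=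
  pRankLE_of_sectional (sectionalPRankLE_quotient K h)

/-- The `p`-rank bound for a subgroup of the group. -/
theorem pRankLE_subgroup_of_sectional {p k : ℕ} {G : Type*} [Group G] (M : Subgroup G)
    (h : SectionalPRankLE p k G) : PRankLE p k M :=
  pRankLE_of_sectional (sectionalPRankLE_subgroup M h)

end Cfsg.Agent.Helper53
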