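import Mathlib
import Cfsg.Agent.Lib.Helper53.ElemAbBasic
import Cfsg.Agent.Lib.Helper53.UniqueInvol1
import Cfsg.Agent.Lib.Helper53.SectRank

set_option autoImplicit false

namespace Cfsg.Agent.Helper53

open Cfsg

/-- A proper inclusion of finite subgroups at least doubles the order. -/
theorem two_mul_card_le_of_lt {G : Type*} [Group G] [Finite G] {H K : Subgroup G} (h : H < K) :
    2 * Nat.card H ≤ Nat.card K := by
  obtain ⟨c, hc⟩ := Subgroup.card_dvd_of_le h.le
  have hK : 0 < Nat.card K := Nat.card_pos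
  have hH : 0 < Nat.card H := Nat.card_pos
  have hc1 : c ≠ 1 := by
    intro h1
    apply h.ne
    apply Subgroup.eq_of_le_of_card_ge h.le
    rw [hc, h1, mul_one]
  have hc0 : c ≠ 0 := by
    intro h0
    rw [h0, mul_zero] at hc
    omega
  have : 2 ≤ c := by omega
  calc 2 * Nat.card H = Nat.card H * 2 := mul_comm _ _
    _ ≤ Nat.card H * c := Nat.mul_le_mul_left _ this
    _ = Nat.card K := hc.symm

/-- Three independent commuting involutions contradict `2`-rank at most `2`. -/
theorem false_of_three_invol {G : Type*} [Group G] [Finite G] (hr : PRankLE 2 2 G) (z u v : G)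
    (hz : z ^ 2 = 1) (hu : u ^ 2 = 1) (hv : v ^ 2 = 1) (huz : u * z = z * u)
    (hvz : v * z = z * v) (hvu : v * u = u * v) (hz1 : z ≠ 1) (hu' : u ∉ Subgroup.zpowers z)
    (hv' : v ∉ Subgroup.zpowers z ⊔ Subgroup.zpowers u) : False := by
  have hcomm_zpow : ∀ x y : G, x * y = y * x → ∀ a ∈ Subgroup.zpowers x,
      ∀ b ∈ Subgroup.zpowers y, a * b = b * a := by
    intro x y hxy a ha b hb
    obtain ⟨i, rfl⟩ := Subgroup.mem_zpowers_iff.mp ha
    obtain ⟨j, rfl⟩ := Subgroup.mem_zpowers_iff.mp hb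
    exact ((show Commute x y from hxy).zpow_zpow i j)
  have e1 : IsElementaryAbelian 2 (Subgroup.zpowers z ⊔ Subgroup.zpowers u) :=
    ea_sup_of_commute (ea_zpowers hz) (ea_zpowers hu) (hcomm_zpow z u huz.symm)
  have e2 : IsElementaryAbelian 2 ((Subgroup.zpowers z ⊔ Subgroup.zpowers u) ⊔
      Subgroup.zpowers v) := by
    refine ea_sup_of_commute e1 (ea_zpowers hv) ?_
    intro a ha b hb
    have hle : Subgroup.zpowers z ⊔ Subgroup.zpowers u ≤ Subgroup.centralizer {b} := by
      refine sup_le ?_ ?_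
      · rw [Subgroup.zpowers_le, Subgroup.mem_centralizer_iff]
        intro y hy
        rw [Set.mem_singleton_iff] at hy
        subst hy
        exact hcomm_zpow v z hvz y hb z (Subgroup.mem_zpowers z)
      · rw [Subgroup.zpowers_le, Subgroup.mem_centralizer_iff]
        intro y hy
        rw [Set.mem_singleton_iff] at hy
        subst hy
        exact hcomm_zpow v u hvu y hb u (Subgroup.mem_zpowers u)
    have := Subgroup.mem_centralizer_iff.mp (hle ha) b rfl
    exact this.symm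
  have hle := hr _ e2.1 e2.2
  have h1 : 2 ≤ Nat.card (Subgroup.zpowers z) := by
    rw [Nat.card_zpowers]
    have hpos : 0 < orderOf z := orderOf_pos z
    have : orderOf z ≠ 1 := fun h => hz1 (orderOf_eq_one_iff.mp h)
    omega
  have h2 : Subgroup.zpowers z < Subgroup.zpowers z ⊔ Subgroup.zpowers u := by
    refine lt_of_le_of_ne le_sup_left ?_
    intro h
    apply hu'
    rw [h]
    exact (le_sup_right : Subgroup.zpowers u ≤ _) (Subgroup.mem_zpowers u)
  have h3 : Subgroup.zpowers z ⊔ Subgroup.zpowers u <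
      (Subgroup.zpowers z ⊔ Subgroup.zpowers u) ⊔ Subgroup.zpowers v := by
    refine lt_of_le_of_ne le_sup_left ?_
    intro h
    apply hv'
    rw [h]
    exact (le_sup_right : Subgroup.zpowers v ≤ _) (Subgroup.mem_zpowers v)
  have h4 := two_mul_card_le_of_lt h2
  have h5 := two_mul_card_le_of_lt h3
  omega

/-- In a finite commutative `2`-group, every coset of the cyclic subgroup generated by an element
of maximal order has a representative whose order equals the order of the coset. -/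
theorem exists_lift_orderOf_eq {G : Type*} [CommGroup G] [Finite G] (a : G) (e : ℕ)
    (he : orderOf a = 2 ^ e) (hmax : ∀ g : G, orderOf g ∣ orderOf a)
    (q : G ⧸ Subgroup.zpowers a) :
    ∃ g : G, (g : G ⧸ Subgroup.zpowers a) = q ∧ orderOf g = orderOf q := by
  obtain ⟨g0, rfl⟩ := QuotientGroup.mk_surjective q
  have hm1 : orderOf (g0 : G ⧸ Subgroup.zpowers a) ∣ orderOf g0 :=
    orderOf_map_dvd (QuotientGroup.mk' (Subgroup.zpowers a)) g0
  have hm2 : orderOf (g0 : G ⧸ Subgroup.zpowers a) ∣ 2 ^ e := he ▸ hm1.trans (hmax g0)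
  obtain ⟨j, hje, hj⟩ := (Nat.dvd_prime_pow Nat.prime_two).mp hm2
  have hmem : g0 ^ 2 ^ j ∈ Subgroup.zpowers a := by
    rw [← QuotientGroup.eq_one_iff, QuotientGroup.mk_pow, ← hj]
    exact pow_orderOf_eq_one _
  obtain ⟨i, hi⟩ := Subgroup.mem_zpowers_iff.mp hmem
  have h1 : g0 ^ 2 ^ e = 1 := by
    have := hmax g0
    rw [he] at this
    exact orderOf_dvd_iff_pow_eq_one.mp this
  have h2 : a ^ (i * ((2 ^ (e - j) : ℕ) : ℤ)) = 1 := by
    rw [zpow_mul, hi, zpow_natCast, ← pow_mul, ← pow_add, Nat.add_sub_cancel' hje, h1]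
  have h3 : ((2 ^ j : ℕ) : ℤ) * ((2 ^ (e - j) : ℕ) : ℤ) ∣ i * ((2 ^ (e - j) : ℕ) : ℤ) := by
    have := orderOf_dvd_iff_zpow_eq_one.mpr h2
    rw [he] at this
    have e2 : (2 ^ e : ℕ) = 2 ^ j * 2 ^ (e - j) := by rw [← pow_add, Nat.add_sub_cancel' hje]
    rw [e2] at this
    push_cast at this ⊢
    exact this
  have h4 : ((2 ^ j : ℕ) : ℤ) ∣ i :=
    (mul_dvd_mul_iff_right (by positivity)).mp h3
  obtain ⟨i', hi'⟩ := h4
  refine ⟨g0 * (a ^ i')⁻¹, ?_, ?_⟩
  · rw [QuotientGroup.mk_mul]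
    have : (((a ^ i')⁻¹ : G) : G ⧸ Subgroup.zpowers a) = 1 := by
      rw [QuotientGroup.eq_one_iff]
      exact Subgroup.inv_mem _ (Subgroup.zpow_mem _ (Subgroup.mem_zpowers a) _)
    rw [this, mul_one]
  · have hpow : (g0 * (a ^ i')⁻¹) ^ 2 ^ j = 1 := by
      rw [mul_pow, inv_pow, ← hi, ← zpow_natCast (a ^ i'), ← zpow_mul, hi', mul_comm i',
        mul_inv_cancel]
    have hd1 : orderOf (g0 * (a ^ i')⁻¹) ∣ 2 ^ j := orderOf_dvd_of_pow_eq_one hpow
    have hd2 : orderOf (((g0 * (a ^ i')⁻¹ : G)) : G ⧸ Subgroup.zpowers a) ∣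
        orderOf (g0 * (a ^ i')⁻¹) :=
      orderOf_map_dvd (QuotientGroup.mk' (Subgroup.zpowers a)) _
    have hq : ((g0 * (a ^ i')⁻¹ : G) : G ⧸ Subgroup.zpowers a) = (g0 : G ⧸ Subgroup.zpowers a) := by
      rw [QuotientGroup.mk_mul]
      have : (((a ^ i')⁻¹ : G) : G ⧸ Subgroup.zpowers a) = 1 := by
        rw [QuotientGroup.eq_one_iff]
        exact Subgroup.inv_mem _ (Subgroup.zpow_mem _ (Subgroup.mem_zpowers a) _)
      rw [this, mul_one]
    rw [hq, hj] at hd2
    rw [hj]
    exact Nat.dvd_antisymm hd1 hd2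

/-- A finite commutative `2`-group of `2`-rank at most `2` is the internal direct product of
two cyclic subgroups. -/
theorem exists_indep_gens_of_comm {G : Type*} [Group G] [Finite G] (hG : IsPGroup 2 G)
    (hcomm : ∀ x y : G, x * y = y * x) (hr : PRankLE 2 2 G) :
    ∃ a b : G, Subgroup.zpowers a ⊓ Subgroup.zpowers b = ⊥ ∧
      Subgroup.zpowers a ⊔ Subgroup.zpowers b = ⊤ := by
  classical
  let _ : CommGroup G := { ‹Group G› with mul_comm := hcomm }
  obtain ⟨a, ha⟩ := Monoid.exists_orderOf_eq_exponent (G := G) Monoid.ExponentExists.of_finite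
  have hmax : ∀ g : G, orderOf g ∣ orderOf a := fun g => ha ▸ Monoid.order_dvd_exponent g
  obtain ⟨e, he⟩ := IsPGroup.iff_orderOf.mp hG a
  have hQ : IsPGroup 2 (G ⧸ Subgroup.zpowers a) := hG.to_quotient _
  have hcyc : IsCyclic (G ⧸ Subgroup.zpowers a) := by
    refine isCyclic_of_comm_of_unique_invol hQ (fun x y => mul_comm x y) ?_
    intro q1 q2 hq1 hq2
    by_contra hne
    obtain ⟨g1, hg1, ho1⟩ := exists_lift_orderOf_eq a e he hmax q1
    obtain ⟨g2, hg2, ho2⟩ := exists_lift_orderOf_eq a e he hmax q2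
    rw [hq1] at ho1
    rw [hq2] at ho2
    rcases e with _ | e
    · rw [pow_zero] at he
      have := hmax g1
      rw [he, ho1] at this
      omega
    have ht := orderOf_pow_half a e he
    have hq1sq : q1 ^ 2 = 1 := by rw [← hq1]; exact pow_orderOf_eq_one q1
    have hq11 : q1 ≠ 1 := by
      intro h
      rw [h, orderOf_one] at hq1
      omega
    have hq21 : q2 ≠ 1 := by
      intro h
      rw [h, orderOf_one] at hq2
      omega
    apply false_of_three_invol hr (a ^ 2 ^ e) g1 g2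
    · have := pow_orderOf_eq_one (a ^ 2 ^ e); rwa [ht] at this
    · have := pow_orderOf_eq_one g1; rwa [ho1] at this
    · have := pow_orderOf_eq_one g2; rwa [ho2] at this
    · exact mul_comm _ _
    · exact mul_comm _ _
    · exact mul_comm _ _
    · intro h
      rw [h, orderOf_one] at ht
      omega
    · intro h
      apply hq11
      rw [← hg1, QuotientGroup.eq_one_iff]
      have hle : Subgroup.zpowers (a ^ 2 ^ e) ≤ Subgroup.zpowers a :=
        (Subgroup.zpowers_le).mpr (Subgroup.pow_mem _ (Subgroup.mem_zpowers a) _)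
      exact hle h
    · intro h
      have hle : Subgroup.zpowers (a ^ 2 ^ e) ⊔ Subgroup.zpowers g1 ≤
          (Subgroup.zpowers q1).comap (QuotientGroup.mk' (Subgroup.zpowers a)) := by
        refine sup_le ?_ ?_
        · rw [Subgroup.zpowers_le, Subgroup.mem_comap]
          have : QuotientGroup.mk' (Subgroup.zpowers a) (a ^ 2 ^ e) = 1 := by
            rw [QuotientGroup.mk'_apply, QuotientGroup.eq_one_iff]
            exact Subgroup.pow_mem _ (Subgroup.mem_zpowers a) _
          rw [this]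
          exact Subgroup.one_mem _
        · rw [Subgroup.zpowers_le, Subgroup.mem_comap, QuotientGroup.mk'_apply, hg1]
          exact Subgroup.mem_zpowers q1
      have h2 := hle h
      rw [Subgroup.mem_comap, QuotientGroup.mk'_apply, hg2] at h2
      obtain ⟨i, hi⟩ := Subgroup.mem_zpowers_iff.mp h2
      rcases Int.even_or_odd i with ⟨j, hj⟩ | ⟨j, hj⟩
      · apply hq21
        rw [← hi, hj, ← two_mul, zpow_mul, zpow_ofNat, hq1sq, one_zpow]
      · apply hne
        rw [← hi, hj, zpow_add, zpow_mul, zpow_ofNat, hq1sq, one_zpow, one_mul, zpow_one]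
  obtain ⟨qb, hqb⟩ := hcyc.exists_generator
  obtain ⟨b, hb, hob⟩ := exists_lift_orderOf_eq a e he hmax qb
  refine ⟨a, b, ?_, ?_⟩
  · rw [eq_bot_iff]
    intro x hx
    obtain ⟨hxa, hxb⟩ := Subgroup.mem_inf.mp hx
    obtain ⟨j, rfl⟩ := Subgroup.mem_zpowers_iff.mp hxb
    rw [Subgroup.mem_bot]
    have h1 : ((b ^ j : G) : G ⧸ Subgroup.zpowers a) = 1 := (QuotientGroup.eq_one_iff _).mpr hxa
    rw [QuotientGroup.mk_zpow, hb] at h1
    have h2 := orderOf_dvd_iff_zpow_eq_one.mpr h1
    rw [← hob] at h2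
    exact orderOf_dvd_iff_zpow_eq_one.mp h2
  · rw [eq_top_iff]
    intro g _
    obtain ⟨j, hj⟩ := Subgroup.mem_zpowers_iff.mp (hqb (g : G ⧸ Subgroup.zpowers a))
    have h1 : (b ^ j)⁻¹ * g ∈ Subgroup.zpowers a := by
      rw [← QuotientGroup.eq, QuotientGroup.mk_zpow, hb, hj]
    have h2 : g = (b ^ j) * ((b ^ j)⁻¹ * g) := by group
    rw [h2, mul_comm]
    exact Subgroup.mul_mem_sup h1 (Subgroup.zpow_mem _ (Subgroup.mem_zpowers b) _)

end Cfsg.Agent.Helper53
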