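import Cfsg.Agent.Lib.Helper53.BG139b

/-!
# BG 13.9 (sigma-partition), helper53 route: entry point

`Cfsg.Agent.Helper53.BG139.false_of_setup` (proved in `BG139b`): helper21's aligned bad pair
`Cfsg.Agent.Helper21.BG139.Setup M L q S` is contradictory.
-/
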