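import Mathlib

/-!
Soft subgroups of `p`-groups (Héthelyi): basic tools.
Conjugates of subgroups, relative normalizers, centralizers modulo a normal subgroup.
-/

set_option autoImplicit false
open scoped Pointwise commutatorElement

namespace Cfsg.Agent.Helper53.Soft

variable {Q : Type*} [Group Q]

/-! ### conjugates -/

/-- the conjugate `g E g⁻¹`. -/
def cj (g : Q) (E : Subgroup Q) : Subgroup Q := MulAut.conj g • E

theorem mem_cj {g x : Q} {E : Subgroup Q} : x ∈ cj g E ↔ g⁻¹ * x * g ∈ E := by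
  unfold cj
  rw [Subgroup.mem_pointwise_smul_iff_inv_smul_mem]
  simp [MulAut.smul_def]

theorem conj_mem_cj {g x : Q} {E : Subgroup Q} (hx : x ∈ E) : g * x * g⁻¹ ∈ cj g E := by
  rw [mem_cj]
  have : g⁻¹ * (g * x * g⁻¹) * g = x := by group
  rw [this]; exact hx

theorem cj_one (E : Subgroup Q) : cj 1 E = E := by
  ext x; simp [mem_cj]

theorem cj_mul (g h : Q) (E : Subgroup Q) : cj (g * h) E = cj g (cj h E) := by
  ext x; simp [mem_cj, mul_assoc]

theorem cj_le_cj {g : Q} {A B : Subgroup Q} : cj g A ≤ cj g B ↔ A ≤ B :=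
  Subgroup.pointwise_smul_le_pointwise_smul_iff

theorem cj_mono {g : Q} {A B : Subgroup Q} (h : A ≤ B) : cj g A ≤ cj g B := cj_le_cj.mpr h

theorem cj_sup (g : Q) (A B : Subgroup Q) : cj g (A ⊔ B) = cj g A ⊔ cj g B :=
  Subgroup.smul_sup _ _ _

theorem cj_inf (g : Q) (A B : Subgroup Q) : cj g (A ⊓ B) = cj g A ⊓ cj g B :=
  Subgroup.smul_inf _ _ _

theorem cj_inv_cj (g : Q) (E : Subgroup Q) : cj g⁻¹ (cj g E) = E := by
  rw [← cj_mul, inv_mul_cancel, cj_one]

theorem cj_cj_inv (g : Q) (E : Subgroup Q) : cj g (cj g⁻¹ E) = E := by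
  rw [← cj_mul, mul_inv_cancel, cj_one]

theorem card_cj (g : Q) (E : Subgroup Q) : Nat.card (cj g E) = Nat.card E :=
  (Nat.card_congr (Subgroup.equivSMul (MulAut.conj g) E).toEquiv).symm

theorem cj_eq_self_iff {g : Q} {E : Subgroup Q} :
    cj g E = E ↔ g ∈ Subgroup.normalizer (E : Set Q) := by
  rw [Subgroup.mem_normalizer_iff'']
  constructor
  · intro h x
    rw [← mem_cj, h]
  · intro h
    ext x
    rw [mem_cj]
    exact (h x).symm

theorem cj_eq_self_of_mem {g : Q} {K : Subgroup Q} (hg : g ∈ K) : cj g K = K :=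
  Subgroup.conj_smul_eq_self_of_mem hg

theorem cj_normal (g : Q) (Z : Subgroup Q) [Z.Normal] : cj g Z = Z :=
  Subgroup.Normal.conj_smul_eq_self g Z

theorem normalizer_cj (g : Q) (E : Subgroup Q) :
    Subgroup.normalizer ((cj g E : Subgroup Q) : Set Q) = cj g (Subgroup.normalizer (E : Set Q)) := by
  ext x
  rw [mem_cj, ← cj_eq_self_iff, ← cj_eq_self_iff]
  constructor
  · intro h
    rw [cj_mul, cj_mul, h, cj_inv_cj]
  · intro h
    have : cj x (cj g E) = cj g (cj (g⁻¹ * x * g) E) := by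
      rw [← cj_mul, ← cj_mul]
      congr 1
      group
    rw [this, h]

theorem cj_eq_cj_iff {g h : Q} {E : Subgroup Q} :
    cj g E = cj h E ↔ h⁻¹ * g ∈ Subgroup.normalizer (E : Set Q) := by
  rw [← cj_eq_self_iff, cj_mul]
  constructor
  · intro H; rw [H, cj_inv_cj]
  · intro H
    have := congrArg (cj h) H
    rwa [cj_cj_inv] at this

/-! ### cardinalities -/

theorem card_mul_relIndex {H K : Subgroup Q} (h : H ≤ K) :
    Nat.card H * H.relIndex K = Nat.card K := by
  have := Subgroup.relIndex_mul_relIndex (⊥ : Subgroup Q) H K bot_le h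
  rwa [Subgroup.relIndex_bot_left, Subgroup.relIndex_bot_left] at this

theorem eq_of_le_of_card_eq [Finite Q] {H K : Subgroup Q} (h : H ≤ K)
    (hc : Nat.card H = Nat.card K) : H = K := by
  apply le_antisymm h
  rw [← Subgroup.relIndex_eq_one]
  have := card_mul_relIndex h
  rw [hc] at this
  have hpos : 0 < Nat.card K := Nat.card_pos
  exact Nat.eq_of_mul_eq_mul_left hpos (by rw [this, mul_one])

/-- a subgroup of prime relative index has nothing strictly in between. -/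
theorem eq_of_relIndex_prime {p : ℕ} (hp : p.Prime) {E H N : Subgroup Q} (hEH : E ≤ H) (hHN : H ≤ N)
    (hidx : E.relIndex N = p) (hne : ¬ H ≤ E) : N ≤ H := by
  have h1 := Subgroup.relIndex_mul_relIndex E H N hEH hHN
  rw [hidx] at h1
  have h2 : E.relIndex H ≠ 1 := by
    rw [Ne, Subgroup.relIndex_eq_one]; exact hne
  have h3 : E.relIndex H ∣ p := Dvd.intro _ h1
  have h4 : E.relIndex H = p := (Nat.dvd_prime hp).mp h3 |>.resolve_left h2
  rw [h4] at h1
  have h5 : H.relIndex N = 1 := by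
    have hp0 : 0 < p := hp.pos
    exact Nat.eq_of_mul_eq_mul_left hp0 (by rw [h1, mul_one])
  exact Subgroup.relIndex_eq_one.mp h5

/-! ### relative normalizers -/

/-- `N_K(E)`. -/
def nIn (K E : Subgroup Q) : Subgroup Q := Subgroup.normalizer (E : Set Q) ⊓ K

theorem mem_nIn {K E : Subgroup Q} {g : Q} :
    g ∈ nIn K E ↔ g ∈ Subgroup.normalizer (E : Set Q) ∧ g ∈ K := Subgroup.mem_inf

theorem le_nIn {K E : Subgroup Q} (h : E ≤ K) : E ≤ nIn K E := le_inf Subgroup.le_normalizer h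

theorem nIn_le (K E : Subgroup Q) : nIn K E ≤ K := inf_le_right

theorem nIn_top (E : Subgroup Q) : nIn ⊤ E = Subgroup.normalizer (E : Set Q) := inf_top_eq _

theorem nIn_mono {K L E : Subgroup Q} (h : K ≤ L) : nIn K E ≤ nIn L E := inf_le_inf_left _ h

/-- normalizers grow in `p`-groups. -/
theorem exists_mem_normalizer_of_lt {p : ℕ} [Fact p.Prime] [Finite Q] (hQ : IsPGroup p Q)
    {H K : Subgroup Q} (h : H < K) :
    ∃ g ∈ K, g ∈ Subgroup.normalizer (H : Set Q) ∧ g ∉ H := by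
  have : Group.IsNilpotent K := (hQ.to_subgroup K).isNilpotent
  have hlt : H.subgroupOf K < ⊤ := by
    rw [lt_top_iff_ne_top, Ne, Subgroup.subgroupOf_eq_top]
    exact not_le_of_gt h
  have := Group.normalizerCondition_of_isNilpotent (G := K) (H.subgroupOf K) hlt
  rw [← Subgroup.subgroupOf_normalizer_eq h.le] at this
  obtain ⟨x, hx, hx'⟩ := SetLike.exists_of_lt this
  exact ⟨x, x.2, Subgroup.mem_subgroupOf.mp hx, fun hh => hx' (Subgroup.mem_subgroupOf.mpr hh)⟩

theorem lt_nIn_of_lt {p : ℕ} [Fact p.Prime] [Finite Q] (hQ : IsPGroup p Q)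
    {H K : Subgroup Q} (h : H < K) : H < nIn K H := by
  obtain ⟨g, hgK, hgN, hgH⟩ := exists_mem_normalizer_of_lt hQ h
  refine lt_of_le_of_ne (le_nIn h.le) ?_
  intro heq
  apply hgH
  rw [heq]
  exact mem_nIn.mpr ⟨hgN, hgK⟩

/-! ### commutator identities -/

theorem comm_mul_left (g h a : Q) : ⁅g * h, a⁆ = g * ⁅h, a⁆ * g⁻¹ * ⁅g, a⁆ := by
  simp only [commutatorElement_def]; group

theorem comm_inv_left (g a : Q) : ⁅g⁻¹, a⁆ = g⁻¹ * ⁅g, a⁆⁻¹ * g := by
  simp only [commutatorElement_def]; group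

theorem comm_conj (x g a : Q) : ⁅x * g * x⁻¹, a⁆ = x * ⁅g, x⁻¹ * a * x⁆ * x⁻¹ := by
  simp only [commutatorElement_def]; group

theorem comm_swap (g a : Q) : ⁅a, g⁆ = ⁅g, a⁆⁻¹ := by
  simp only [commutatorElement_def]; group

/-! ### centralizers modulo a normal subgroup -/

/-- the elements of `K` commuting with all of `A` modulo `Z`. -/
def secCent (K Z : Subgroup Q) [Z.Normal] (A : Set Q) : Subgroup Q where
  carrier := {g | g ∈ K ∧ ∀ a ∈ A, ⁅g, a⁆ ∈ Z}
  one_mem' := ⟨K.one_mem, fun a _ => by simp [commutatorElement_def]⟩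
  mul_mem' := by
    rintro g h ⟨hg, hg'⟩ ⟨hh, hh'⟩
    refine ⟨K.mul_mem hg hh, fun a ha => ?_⟩
    rw [comm_mul_left]
    exact Z.mul_mem (Subgroup.Normal.conj_mem ‹Z.Normal› _ (hh' a ha) g) (hg' a ha)
  inv_mem' := by
    rintro g ⟨hg, hg'⟩
    refine ⟨K.inv_mem hg, fun a ha => ?_⟩
    rw [comm_inv_left]
    have := Subgroup.Normal.conj_mem ‹Z.Normal› _ (Z.inv_mem (hg' a ha)) g⁻¹
    simpa using this

theorem mem_secCent {K Z : Subgroup Q} [Z.Normal] {A : Set Q} {g : Q} :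
    g ∈ secCent K Z A ↔ g ∈ K ∧ ∀ a ∈ A, ⁅g, a⁆ ∈ Z := Iff.rfl

theorem secCent_le (K Z : Subgroup Q) [Z.Normal] (A : Set Q) : secCent K Z A ≤ K :=
  fun _ h => h.1

/-- conjugating the centre of `K` modulo `Z` by an element normalizing `K`. -/
theorem cj_secCent_self {K Z : Subgroup Q} [Z.Normal] {u : Q}
    (hu : u ∈ Subgroup.normalizer (K : Set Q)) :
    cj u (secCent K Z (K : Set Q)) = secCent K Z (K : Set Q) := by
  have key : ∀ v : Q, v ∈ Subgroup.normalizer (K : Set Q) →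
      cj v (secCent K Z (K : Set Q)) ≤ secCent K Z (K : Set Q) := by
    intro v hv x hx
    rw [mem_cj] at hx
    obtain ⟨hxK, hx'⟩ := hx
    have hvK : cj v K = K := cj_eq_self_iff.mpr hv
    have hvK' : cj v⁻¹ K = K := cj_eq_self_iff.mpr (inv_mem hv)
    refine ⟨?_, fun a ha => ?_⟩
    · have := conj_mem_cj (g := v) hxK
      rw [hvK] at this
      have e : v * (v⁻¹ * x * v) * v⁻¹ = x := by group
      rwa [e] at this
    · have ha' : v⁻¹ * a * v ∈ K := by
        have := conj_mem_cj (g := v⁻¹) (show a ∈ K from ha)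
        rw [hvK'] at this
        simpa using this
      have h1 := hx' _ ha'
      have h2 := Subgroup.Normal.conj_mem ‹Z.Normal› _ h1 v
      have e : v * ⁅v⁻¹ * x * v, v⁻¹ * a * v⁆ * v⁻¹ = ⁅x, a⁆ := by
        simp only [commutatorElement_def]; group
      rwa [e] at h2
  apply le_antisymm (key u hu)
  have := cj_mono (g := u) (key u⁻¹ (inv_mem hu))
  rwa [cj_cj_inv] at this

instance secCent_normal (K Z : Subgroup Q) [K.Normal] [Z.Normal] :
    (secCent K Z (K : Set Q)).Normal := by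
  constructor
  intro x hx g
  have hg : g ∈ Subgroup.normalizer (K : Set Q) := by
    rw [Subgroup.normalizer_eq_top_iff.mpr ‹K.Normal›]; exact Subgroup.mem_top g
  have := conj_mem_cj (g := g) hx
  rwa [cj_secCent_self hg] at this

/-- the centre of `K` modulo `Z` is strictly bigger than `Z` (in a `p`-group, for `Z < K`). -/
theorem exists_mem_secCent_not_mem {p : ℕ} [Fact p.Prime] [Finite Q] (hQ : IsPGroup p Q)
    {K Z : Subgroup Q} [Z.Normal] (hZK : Z < K) :
    ∃ g ∈ secCent K Z (K : Set Q), g ∉ Z := by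
  have : (Z.subgroupOf K).Normal := inferInstance
  have hK : IsPGroup p (K ⧸ Z.subgroupOf K) := (hQ.to_subgroup K).to_quotient _
  have : Nontrivial (K ⧸ Z.subgroupOf K) := by
    obtain ⟨x, hxK, hxZ⟩ := SetLike.exists_of_lt hZK
    refine ⟨⟨(QuotientGroup.mk (⟨x, hxK⟩ : K)), 1, ?_⟩⟩
    rw [Ne, QuotientGroup.eq_one_iff]
    exact fun h => hxZ (Subgroup.mem_subgroupOf.mp h)
  have hnt : Nontrivial (Subgroup.center (K ⧸ Z.subgroupOf K)) := hK.center_nontrivial
  obtain ⟨⟨c, hc⟩, hc1⟩ := exists_ne (1 : Subgroup.center (K ⧸ Z.subgroupOf K))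
  obtain ⟨g, rfl⟩ := QuotientGroup.mk_surjective c
  refine ⟨(g : Q), ⟨g.2, fun a ha => ?_⟩, ?_⟩
  · have h1 := Subgroup.mem_center_iff.mp hc (QuotientGroup.mk (⟨a, ha⟩ : K))
    have h2 : (QuotientGroup.mk (⁅g, ⟨a, ha⟩⁆ : K) : K ⧸ Z.subgroupOf K) = 1 := by
      rw [commutatorElement_def]
      simp only [QuotientGroup.mk_mul, QuotientGroup.mk_inv]
      rw [← h1]
      group
    rw [QuotientGroup.eq_one_iff, Subgroup.mem_subgroupOf] at h2
    have e : ((⁅g, ⟨a, ha⟩⁆ : K) : Q) = ⁅(g : Q), a⁆ := by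
      simp [commutatorElement_def]
    rwa [e] at h2
  · intro hgZ
    apply hc1
    apply Subtype.ext
    show (QuotientGroup.mk g : K ⧸ Z.subgroupOf K) = 1
    rw [QuotientGroup.eq_one_iff]
    exact Subgroup.mem_subgroupOf.mpr hgZ

end Cfsg.Agent.Helper53.Soft
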