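import Mathlib
import Cfsg.Agent.Lib.Helper53.Soft1

/-!
Coprime linear actions, written multiplicatively: `W` a finite commutative group, automorphisms
in `MulAut W`.  Fixed points, traces over subgroups, norms `∏_{k<n} y^k w`.
-/

set_option autoImplicit false

namespace Cfsg.Agent.Helper53.BS

open Cfsg.Agent.Helper53.Soft

variable {W : Type*} [CommGroup W]

/-- fixed points of one automorphism -/
def fixOf (x : MulAut W) : Subgroup W where
  carrier := {w | x w = w}
  one_mem' := map_one x
  mul_mem' := by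
    intro a b ha hb
    simp only [Set.mem_setOf_eq] at *
    rw [map_mul, ha, hb]
  inv_mem' := by
    intro a ha
    simp only [Set.mem_setOf_eq] at *
    rw [map_inv, ha]

theorem mem_fixOf {x : MulAut W} {w : W} : w ∈ fixOf x ↔ x w = w := Iff.rfl

/-- fixed points of a subgroup of automorphisms -/
def fix (B : Subgroup (MulAut W)) : Subgroup W where
  carrier := {w | ∀ b ∈ B, b w = w}
  one_mem' := fun b _ => map_one b
  mul_mem' := by
    intro a b ha hb c hc
    rw [map_mul, ha c hc, hb c hc]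
  inv_mem' := by
    intro a ha c hc
    rw [map_inv, ha c hc]

theorem mem_fix {B : Subgroup (MulAut W)} {w : W} : w ∈ fix B ↔ ∀ b ∈ B, b w = w := Iff.rfl

theorem fix_anti {B C : Subgroup (MulAut W)} (h : B ≤ C) : fix C ≤ fix B :=
  fun _ hw b hb => hw b (h hb)

theorem fix_le_fixOf {B : Subgroup (MulAut W)} {b : MulAut W} (hb : b ∈ B) : fix B ≤ fixOf b :=
  fun _ hw => hw b hb

theorem fixOf_le_fixOf_pow (x : MulAut W) (n : ℕ) : fixOf x ≤ fixOf (x ^ n) := by
  intro w hw
  rw [mem_fixOf] at *
  induction n with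
  | zero => simp
  | succ n ih => rw [pow_succ, MulAut.mul_apply, hw, ih]

theorem inv_apply_eq_iff {x : MulAut W} {w w' : W} : x⁻¹ w = w' ↔ w = x w' := by
  constructor
  · intro h; rw [← h, MulAut.apply_inv_self]
  · intro h; rw [h, MulAut.inv_apply_self]

theorem fixOf_inv (x : MulAut W) : fixOf x⁻¹ = fixOf x := by
  ext w
  simp only [mem_fixOf]
  rw [inv_apply_eq_iff]
  exact eq_comm

/-- image of fixed points under conjugation -/
theorem mem_fix_cj {B : Subgroup (MulAut W)} {γ : MulAut W} {w : W} :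
    w ∈ fix (cj γ B) ↔ γ⁻¹ w ∈ fix B := by
  simp only [mem_fix]
  constructor
  · intro h b hb
    have h1 := h (γ * b * γ⁻¹) (conj_mem_cj hb)
    simp only [MulAut.mul_apply] at h1
    rw [eq_comm, inv_apply_eq_iff]
    exact h1.symm
  · intro h c hc
    rw [mem_cj] at hc
    have h1 := h _ hc
    simp only [MulAut.mul_apply] at h1
    rw [inv_apply_eq_iff, MulAut.apply_inv_self] at h1
    exact h1

theorem apply_mem_fix_cj {B : Subgroup (MulAut W)} {γ : MulAut W} {w : W} (hw : w ∈ fix B) :
    γ w ∈ fix (cj γ B) := by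
  rw [mem_fix_cj, MulAut.inv_apply_self]; exact hw

/-! ### coprimality -/

section coprime
variable [Finite W]

theorem eq_one_of_pow_eq_one {n : ℕ} (hn : (Nat.card W).Coprime n) {w : W} (h : w ^ n = 1) :
    w = 1 := by
  apply (powCoprime hn).injective
  rw [powCoprime_apply, powCoprime_apply, h, one_pow]

theorem eq_of_pow_eq {n : ℕ} (hn : (Nat.card W).Coprime n) {w w' : W} (h : w ^ n = w' ^ n) :
    w = w' := by
  apply (powCoprime hn).injective
  rw [powCoprime_apply, powCoprime_apply, h]

theorem mem_of_pow_mem {n : ℕ} (hn : (Nat.card W).Coprime n) (U : Subgroup W) {w : W}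
    (h : w ^ n ∈ U) : w ∈ U := by
  -- `w = (w^n)^m` for a suitable `m`
  have hord : (orderOf w).Coprime n :=
    Nat.Coprime.coprime_dvd_left (orderOf_dvd_natCard w) hn
  obtain ⟨m, hm⟩ := exists_pow_eq_self_of_coprime hord.symm
  rw [← hm]
  exact U.pow_mem h m

end coprime

/-! ### norms along one automorphism -/

/-- `∏_{k<n} y^k w` -/
def nm (y : MulAut W) (n : ℕ) (w : W) : W := ∏ k ∈ Finset.range n, (y ^ k) w

theorem nm_mul (y : MulAut W) (n : ℕ) (w w' : W) : nm y n (w * w') = nm y n w * nm y n w' := by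
  unfold nm
  rw [← Finset.prod_mul_distrib]
  exact Finset.prod_congr rfl fun k _ => map_mul _ _ _

theorem nm_one (y : MulAut W) (n : ℕ) : nm y n (1 : W) = 1 := by
  unfold nm
  exact Finset.prod_eq_one fun k _ => map_one _

theorem nm_of_fixed {y : MulAut W} {w : W} (h : y w = w) (n : ℕ) : nm y n w = w ^ n := by
  unfold nm
  have : ∀ k : ℕ, (y ^ k) w = w := fun k => fixOf_le_fixOf_pow y k h
  rw [Finset.prod_congr rfl fun k _ => this k, Finset.prod_const, Finset.card_range]

theorem nm_fixed {y : MulAut W} {n : ℕ} (hy : y ^ n = 1) (w : W) : y (nm y n w) = nm y n w := by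
  unfold nm
  rw [map_prod]
  have h1 : ∀ k : ℕ, y ((y ^ k) w) = (y ^ (k + 1)) w := by
    intro k; rw [pow_succ', MulAut.mul_apply]
  rw [Finset.prod_congr rfl fun k _ => h1 k]
  have h2 := Finset.prod_range_succ' (fun k => (y ^ k) w) n
  have h3 := Finset.prod_range_succ (fun k => (y ^ k) w) n
  simp only [pow_zero, MulAut.one_apply, hy] at h2 h3
  rw [h3] at h2
  exact (mul_right_cancel h2).symm

theorem nm_mem_fixOf {y : MulAut W} {n : ℕ} (hy : y ^ n = 1) (w : W) : nm y n w ∈ fixOf y :=
  nm_fixed hy w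

theorem nm_eq_one_of_fpf {y : MulAut W} {n : ℕ} (hy : y ^ n = 1) (hf : fixOf y = ⊥) (w : W) :
    nm y n w = 1 := by
  have := nm_mem_fixOf hy w
  rw [hf, Subgroup.mem_bot] at this
  exact this

/-- an automorphism commuting with `y` commutes with the norm -/
theorem apply_nm {c y : MulAut W} (hc : c * y = y * c) (n : ℕ) (w : W) :
    c (nm y n w) = nm y n (c w) := by
  unfold nm
  rw [map_prod]
  refine Finset.prod_congr rfl fun k _ => ?_
  have : c * y ^ k = y ^ k * c := by
    have : Commute c y := hc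
    exact (this.pow_right k).eq
  have h := congrArg (fun f : MulAut W => f w) this
  simpa [MulAut.mul_apply] using h

/-- The generation identity for `⟨x, z⟩`, `x`, `z` commuting: `∏_{j<n} nm (x z^j) n w =
∏_{k<n} x^k (nm (z^k) n w)`. -/
theorem prod_nm_mul_pow {x z : MulAut W} (hxz : x * z = z * x) (n : ℕ) (w : W) :
    ∏ j ∈ Finset.range n, nm (x * z ^ j) n w =
      ∏ k ∈ Finset.range n, (x ^ k) (nm (z ^ k) n w) := by
  unfold nm
  rw [Finset.prod_comm]
  refine Finset.prod_congr rfl fun k _ => ?_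
  rw [map_prod]
  refine Finset.prod_congr rfl fun j _ => ?_
  have hc : Commute x z := hxz
  have h1 : (x * z ^ j) ^ k = x ^ k * (z ^ k) ^ j := by
    rw [(hc.pow_right j).mul_pow, ← pow_mul, ← pow_mul, mul_comm j k]
  rw [h1, MulAut.mul_apply]

/-- If `z^p = 1`, `z` fixed point free of order `p`, `x z = z x`, then
`w^p = ∏_{j<p} nm (x z^j) p w`. -/
theorem pow_eq_prod_nm {p : ℕ} [hp : Fact p.Prime] {x z : MulAut W} (hxz : x * z = z * x)
    (hz : orderOf z = p) (hf : fixOf z = ⊥) (w : W) :
    w ^ p = ∏ j ∈ Finset.range p, nm (x * z ^ j) p w := by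
  rw [prod_nm_mul_pow hxz]
  have hzp : z ^ p = 1 := by rw [← hz]; exact pow_orderOf_eq_one z
  rw [Finset.prod_eq_single_of_mem 0 (Finset.mem_range.mpr hp.out.pos)]
  · simp only [pow_zero, MulAut.one_apply]
    exact (nm_of_fixed (by simp) p).symm
  · intro k hk hk0
    have hkp : k < p := Finset.mem_range.mp hk
    have hcop : Nat.Coprime k (orderOf z) := by
      rw [hz]
      exact (Nat.coprime_of_lt_prime hk0 hkp hp.out).symm
    obtain ⟨m, hm⟩ := exists_pow_eq_self_of_coprime hcop
    have hfk : fixOf (z ^ k) = ⊥ := by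
      rw [eq_bot_iff]
      have := fixOf_le_fixOf_pow (z ^ k) m
      rw [hm, hf] at this
      exact this
    have hzk : (z ^ k) ^ p = 1 := by rw [← pow_mul, mul_comm, pow_mul, hzp, one_pow]
    rw [nm_eq_one_of_fpf hzk hfk, map_one]

/-- relative version: it suffices that the norms `nm (z^k) n w`, `0 < k < n`, vanish. -/
theorem pow_eq_prod_nm' {n : ℕ} (hn : 0 < n) {x z : MulAut W} (hxz : x * z = z * x) (w : W)
    (h : ∀ k ∈ Finset.range n, k ≠ 0 → nm (z ^ k) n w = 1) :
    w ^ n = ∏ j ∈ Finset.range n, nm (x * z ^ j) n w := by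
  rw [prod_nm_mul_pow hxz]
  rw [Finset.prod_eq_single_of_mem 0 (Finset.mem_range.mpr hn)]
  · simp only [pow_zero, MulAut.one_apply]
    exact (nm_of_fixed (by simp) n).symm
  · intro k hk hk0
    rw [h k hk hk0, map_one]

end Cfsg.Agent.Helper53.BS
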