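import Mathlib
import Cfsg.Agent.Lib.Helper53.BS1

/-!
Traces over subgroups of automorphisms, stabilizers, and the block lemmas for an abelian
normal subgroup.
-/

set_option autoImplicit false

namespace Cfsg.Agent.Helper53.BS

open Cfsg.Agent.Helper53.Soft

variable {W : Type*} [CommGroup W]

/-- stabilizer of a vector -/
def stab (w : W) : Subgroup (MulAut W) where
  carrier := {x | x w = w}
  one_mem' := rfl
  mul_mem' := by
    intro a b ha hb
    show (a * b) w = w
    rw [MulAut.mul_apply, hb, ha]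
  inv_mem' := by
    intro a ha
    show a⁻¹ w = w
    rw [inv_apply_eq_iff]; exact ha.symm

theorem mem_stab {w : W} {x : MulAut W} : x ∈ stab w ↔ x w = w := Iff.rfl

theorem mem_fix_iff_le_stab {B : Subgroup (MulAut W)} {w : W} : w ∈ fix B ↔ B ≤ stab w :=
  Iff.rfl

theorem fix_sup (A C : Subgroup (MulAut W)) : fix (A ⊔ C) = fix A ⊓ fix C := by
  ext w
  rw [Subgroup.mem_inf, mem_fix_iff_le_stab, mem_fix_iff_le_stab, mem_fix_iff_le_stab, sup_le_iff]

theorem fix_zpowers (b : MulAut W) : fix (Subgroup.zpowers b) = fixOf b := by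
  ext w
  rw [mem_fix_iff_le_stab, Subgroup.zpowers_le, mem_stab, mem_fixOf]

theorem fix_bot : fix (⊥ : Subgroup (MulAut W)) = ⊤ := by
  ext w
  simp [mem_fix_iff_le_stab]

/-- faithful: a subgroup fixing everything is trivial -/
theorem eq_bot_of_fix_eq_top {B : Subgroup (MulAut W)} (h : fix B = ⊤) : B = ⊥ := by
  rw [eq_bot_iff]
  intro b hb
  rw [Subgroup.mem_bot]
  ext w
  have : w ∈ fix B := by rw [h]; trivial
  exact this b hb

theorem eq_one_of_fixOf_eq_top {b : MulAut W} (h : fixOf b = ⊤) : b = 1 := by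
  ext w
  have : w ∈ fixOf b := by rw [h]; trivial
  exact this

/-- the image of `fix B` under `γ` is `fix (γ B γ⁻¹)` -/
theorem map_fix (γ : MulAut W) (B : Subgroup (MulAut W)) :
    (fix B).map γ.toMonoidHom = fix (cj γ B) := by
  ext w
  rw [Subgroup.mem_map]
  constructor
  · rintro ⟨u, hu, rfl⟩
    exact apply_mem_fix_cj hu
  · intro hw
    refine ⟨γ⁻¹ w, mem_fix_cj.mp hw, ?_⟩
    show γ (γ⁻¹ w) = w
    rw [MulAut.apply_inv_self]

theorem fix_cj_eq_bot_iff {γ : MulAut W} {B : Subgroup (MulAut W)} :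
    fix (cj γ B) = ⊥ ↔ fix B = ⊥ := by
  rw [← map_fix]
  constructor
  · intro h
    rw [eq_bot_iff]
    intro w hw
    have : γ w ∈ (fix B).map γ.toMonoidHom := ⟨w, hw, rfl⟩
    rw [h, Subgroup.mem_bot] at this
    rw [Subgroup.mem_bot]
    have h2 : γ w = γ 1 := by rw [this, map_one]
    exact γ.injective h2
  · intro h
    rw [h, Subgroup.map_bot]

/-! ### traces -/

section trace
variable [Finite W]

/-- the trace (norm) over a subgroup of automorphisms -/
noncomputable def tr (B : Subgroup (MulAut W)) (w : W) : W := ∏ᶠ b : B, (b : MulAut W) w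

theorem tr_eq (B : Subgroup (MulAut W)) [Fintype B] (w : W) :
    tr B w = ∏ b : B, (b : MulAut W) w := finprod_eq_prod_of_fintype _

theorem tr_mul (B : Subgroup (MulAut W)) (w w' : W) : tr B (w * w') = tr B w * tr B w' := by
  classical
  have : Fintype B := Fintype.ofFinite _
  rw [tr_eq, tr_eq, tr_eq, ← Finset.prod_mul_distrib]
  exact Finset.prod_congr rfl fun b _ => map_mul _ _ _

theorem tr_one (B : Subgroup (MulAut W)) : tr B (1 : W) = 1 := by
  classical
  have : Fintype B := Fintype.ofFinite _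
  rw [tr_eq]
  exact Finset.prod_eq_one fun b _ => map_one _

/-- the trace as a monoid hom -/
noncomputable def trHom (B : Subgroup (MulAut W)) : W →* W where
  toFun := tr B
  map_one' := tr_one B
  map_mul' := tr_mul B

theorem trHom_apply (B : Subgroup (MulAut W)) (w : W) : trHom B w = tr B w := rfl

theorem tr_prod (B : Subgroup (MulAut W)) {ι : Type*} (s : Finset ι) (f : ι → W) :
    tr B (∏ i ∈ s, f i) = ∏ i ∈ s, tr B (f i) := by
  exact map_prod (trHom B) f s

theorem tr_pow (B : Subgroup (MulAut W)) (w : W) (n : ℕ) : tr B (w ^ n) = tr B w ^ n := by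
  exact map_pow (trHom B) w n

theorem tr_of_mem_fix {B : Subgroup (MulAut W)} {w : W} (hw : w ∈ fix B) :
    tr B w = w ^ Nat.card B := by
  classical
  have : Fintype B := Fintype.ofFinite _
  have h : ∀ b ∈ (Finset.univ : Finset B), ((b : MulAut W) w) = w := fun b _ => hw b b.2
  rw [tr_eq, Finset.prod_congr rfl h, Finset.prod_const, Finset.card_univ,
    Nat.card_eq_fintype_card]

theorem apply_tr_of_mem {B : Subgroup (MulAut W)} {x : MulAut W} (hx : x ∈ B) (w : W) :
    x (tr B w) = tr B w := by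
  classical
  have : Fintype B := Fintype.ofFinite _
  rw [tr_eq, map_prod]
  refine Fintype.prod_equiv (Equiv.mulLeft (⟨x, hx⟩ : B)) _ _ ?_
  intro b
  simp [MulAut.mul_apply]

theorem tr_mem_fix (B : Subgroup (MulAut W)) (w : W) : tr B w ∈ fix B :=
  fun _ hb => apply_tr_of_mem hb w

theorem apply_tr_of_commute {B : Subgroup (MulAut W)} {c : MulAut W}
    (hc : ∀ b ∈ B, c * b = b * c) (w : W) : c (tr B w) = tr B (c w) := by
  classical
  have : Fintype B := Fintype.ofFinite _
  rw [tr_eq, tr_eq, map_prod]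
  refine Finset.prod_congr rfl fun b _ => ?_
  have h := congrArg (fun f : MulAut W => f w) (hc b b.2)
  simpa [MulAut.mul_apply] using h

theorem apply_tr_cj (γ : MulAut W) (B : Subgroup (MulAut W)) (w : W) :
    γ (tr B w) = tr (cj γ B) (γ w) := by
  classical
  have : Fintype B := Fintype.ofFinite _
  have : Fintype (cj γ B) := Fintype.ofFinite _
  rw [tr_eq, tr_eq, map_prod]
  let e : B ≃ cj γ B :=
    { toFun := fun b => ⟨γ * b * γ⁻¹, conj_mem_cj b.2⟩
      invFun := fun c => ⟨γ⁻¹ * c * γ, mem_cj.mp c.2⟩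
      left_inv := fun b => by ext1; simp [mul_assoc]
      right_inv := fun c => by ext1; simp [mul_assoc] }
  refine Fintype.prod_equiv e _ _ ?_
  intro b
  show γ ((b : MulAut W) w) = (γ * b * γ⁻¹) (γ w)
  simp [MulAut.mul_apply]

end trace

/-! ### blocks -/

section blocks
variable [Finite W]

/-- `B₀` is maximal in `B` among subgroups with nontrivial fixed points -/
def IsMaxFix (B B₀ : Subgroup (MulAut W)) : Prop :=
  B₀ ≤ B ∧ fix B₀ ≠ ⊥ ∧ ∀ B₁ : Subgroup (MulAut W), B₀ < B₁ → B₁ ≤ B → fix B₁ = ⊥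

theorem IsMaxFix.cj {B B₀ : Subgroup (MulAut W)} (h : IsMaxFix B B₀) {γ : MulAut W}
    (hγ : Soft.cj γ B = B) : IsMaxFix B (Soft.cj γ B₀) := by
  refine ⟨?_, ?_, ?_⟩
  · rw [← hγ]; exact cj_mono h.1
  · rw [Ne, fix_cj_eq_bot_iff]; exact h.2.1
  · intro B₁ hlt hle
    have h1 : B₀ < Soft.cj γ⁻¹ B₁ := by
      have := hlt
      rw [← cj_cj_inv γ B₁] at this
      exact lt_of_le_of_ne (cj_le_cj.mp this.le) (fun he => this.ne (by rw [he]))
    have h2 : Soft.cj γ⁻¹ B₁ ≤ B := by
      have : Soft.cj γ⁻¹ B = B := by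
        conv_lhs => rw [← hγ]
        exact cj_inv_cj γ B
      rw [← this]; exact cj_mono hle
    have h3 := h.2.2 _ h1 h2
    rw [← cj_cj_inv γ B₁, fix_cj_eq_bot_iff]
    exact h3

/-- elements of `B` outside `B₀` act fixed point freely on `fix B₀` -/
theorem IsMaxFix.inf_fixOf {B B₀ : Subgroup (MulAut W)} (h : IsMaxFix B B₀) {b : MulAut W}
    (hb : b ∈ B) (hb0 : b ∉ B₀) : fix B₀ ⊓ fixOf b = ⊥ := by
  have h1 : B₀ < B₀ ⊔ Subgroup.zpowers b := by
    refine lt_of_le_of_ne le_sup_left (fun he => hb0 ?_)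
    rw [he]
    exact le_sup_right (a := B₀) (Subgroup.mem_zpowers b)
  have h2 : B₀ ⊔ Subgroup.zpowers b ≤ B := sup_le h.1 (by rwa [Subgroup.zpowers_le])
  have := h.2.2 _ h1 h2
  rwa [fix_sup, fix_zpowers] at this

/-- the trace over one block kills the other blocks -/
theorem tr_eq_one_of_ne {B B' B'' : Subgroup (MulAut W)}
    (hcomm : ∀ x ∈ B, ∀ y ∈ B, x * y = y * x) (h' : B' ≤ B) (h'' : IsMaxFix B B'')
    (hcard : Nat.card B' = Nat.card B'') (hne : B' ≠ B'') {u : W} (hu : u ∈ fix B'') :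
    tr B' u = 1 := by
  -- some element of `B'` is outside `B''`
  have hex : ∃ b ∈ B', b ∉ B'' := by
    by_contra hcon
    push Not at hcon
    have hle : B' ≤ B'' := hcon
    exact hne (Subgroup.eq_of_le_of_card_ge hle hcard.symm.le)
  obtain ⟨b, hb', hb''⟩ := hex
  have h1 : tr B' u ∈ fix B'' := by
    intro c hc
    rw [apply_tr_of_commute (fun b hb => hcomm c (h''.1 hc) b (h' hb)), hu c hc]
  have h2 : tr B' u ∈ fixOf b := apply_tr_of_mem hb' u
  have h3 : tr B' u ∈ fix B'' ⊓ fixOf b := ⟨h1, h2⟩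
  rw [h''.inf_fixOf (h' hb') hb'', Subgroup.mem_bot] at h3
  exact h3

end blocks

end Cfsg.Agent.Helper53.BS
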