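import Mathlib
import Cfsg.Agent.Lib.Helper53.BS2

/-!
Class two toolkit: a subgroup `T` all of whose commutators lie in a subgroup `Z` central in `T`.
-/

set_option autoImplicit false
open scoped commutatorElement

namespace Cfsg.Agent.Helper53.BS

open Cfsg.Agent.Helper53.Soft

section classtwo
variable {X : Type*} [Group X]

/-- `T` has all its commutators in `Z`, which is central in `T`. -/
structure CT (T Z : Subgroup X) : Prop where
  le : Z ≤ T
  central : ∀ g ∈ Z, ∀ y ∈ T, g * y = y * g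
  comm : ∀ x ∈ T, ∀ y ∈ T, ⁅x, y⁆ ∈ Z

variable {T Z : Subgroup X}

theorem CT.conj_central (h : CT T Z) {g x : X} (hg : g ∈ Z) (hx : x ∈ T) : x * g * x⁻¹ = g := by
  rw [← h.central g hg x hx]; group

theorem CT.comm_mul_left (h : CT T Z) {x x' a : X} (hx : x ∈ T) (hx' : x' ∈ T) (ha : a ∈ T) :
    ⁅x * x', a⁆ = ⁅x, a⁆ * ⁅x', a⁆ := by
  rw [Soft.comm_mul_left, h.conj_central (h.comm x' hx' a ha) hx]
  exact h.central _ (h.comm x' hx' a ha) _ (h.le (h.comm x hx a ha))

theorem CT.comm_one_left (a : X) : ⁅(1 : X), a⁆ = 1 := by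
  simp [commutatorElement_def]

theorem CT.comm_pow_left (h : CT T Z) {x a : X} (hx : x ∈ T) (ha : a ∈ T) (k : ℕ) :
    ⁅x ^ k, a⁆ = ⁅x, a⁆ ^ k := by
  induction k with
  | zero => simp [commutatorElement_def]
  | succ k ih =>
    rw [pow_succ, h.comm_mul_left (T.pow_mem hx k) hx ha, ih, pow_succ]

theorem CT.comm_mul_right (h : CT T Z) {x x' a : X} (hx : x ∈ T) (hx' : x' ∈ T) (ha : a ∈ T) :
    ⁅a, x * x'⁆ = ⁅a, x⁆ * ⁅a, x'⁆ := by
  rw [Soft.comm_swap (x * x') a, h.comm_mul_left hx hx' ha, mul_inv_rev, ← Soft.comm_swap,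
    ← Soft.comm_swap]
  exact h.central _ (h.comm a ha x' hx') _ (h.le (h.comm a ha x hx))

theorem CT.comm_pow_right (h : CT T Z) {x a : X} (hx : x ∈ T) (ha : a ∈ T) (k : ℕ) :
    ⁅a, x ^ k⁆ = ⁅a, x⁆ ^ k := by
  induction k with
  | zero => simp [commutatorElement_def]
  | succ k ih =>
    rw [pow_succ, h.comm_mul_right (T.pow_mem hx k) hx ha, ih, pow_succ]

theorem comm_self (a : X) : ⁅a, a⁆ = 1 := by simp [commutatorElement_def]

theorem conj_eq_comm_mul (x a : X) : x * a * x⁻¹ = ⁅x, a⁆ * a := by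
  simp [commutatorElement_def]

theorem comm_eq_one_iff {x a : X} : ⁅x, a⁆ = 1 ↔ x * a = a * x := by
  rw [commutatorElement_def]
  constructor
  · intro h
    have : x * a * x⁻¹ = a := by
      have := congrArg (· * a) h
      simpa using this
    calc x * a = x * a * x⁻¹ * x := by group
      _ = a * x := by rw [this]
  · intro h
    rw [h]; group

/-- in a group of prime order every element is a power of any nonidentity element -/
theorem exists_pow_eq_of_card_prime [Finite X] {p : ℕ} [hp : Fact p.Prime] {Z : Subgroup X}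
    (hZ : Nat.card Z = p) {c : X} (hc : c ∈ Z) (hc1 : c ≠ 1) {g : X} (hg : g ∈ Z) :
    ∃ k : ℕ, g = c ^ k := by
  have hle : Subgroup.zpowers c ≤ Z := by rwa [Subgroup.zpowers_le]
  have hcard : Nat.card (Subgroup.zpowers c) = p := by
    have hdvd : Nat.card (Subgroup.zpowers c) ∣ p := by
      rw [← hZ]; exact Subgroup.card_dvd_of_le hle
    rcases (Nat.dvd_prime hp.out).mp hdvd with h1 | h1
    · exfalso
      rw [Subgroup.card_eq_one, Subgroup.zpowers_eq_bot] at h1
      exact hc1 h1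
    · exact h1
  have heq : Subgroup.zpowers c = Z :=
    Subgroup.eq_of_le_of_card_ge hle (by rw [hcard, hZ])
  rw [← heq] at hg
  rw [← mem_powers_iff_mem_zpowers] at hg
  obtain ⟨k, hk⟩ := hg
  exact ⟨k, hk.symm⟩

theorem pow_card_eq_one_of_mem [Finite X] {Z : Subgroup X} {g : X} (hg : g ∈ Z) :
    g ^ Nat.card Z = 1 := by
  have := pow_card_eq_one' (G := Z) (x := ⟨g, hg⟩)
  exact Subtype.ext_iff.mp this

end classtwo

end Cfsg.Agent.Helper53.BS
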