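import Mathlib
import Cfsg.Agent.Lib.Helper53.BS3

/-!
Regular orbits of extraspecial groups of exponent `p` (`p` odd) in coprime actions, by the
hyperbolic pair induction.
-/

set_option autoImplicit false
open scoped commutatorElement

namespace Cfsg.Agent.Helper53.BS

open Cfsg.Agent.Helper53.Soft

variable {W : Type*} [CommGroup W]

theorem apply_mem_fixOf_conj {x y : MulAut W} {u : W} (hu : u ∈ fixOf y) :
    x u ∈ fixOf (x * y * x⁻¹) := by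
  rw [mem_fixOf] at *
  simp only [MulAut.mul_apply, MulAut.inv_apply_self]
  rw [hu]

/-- if `a g = g a` and `u` is fixed by `a g`, then `a^k u = (g⁻¹)^k u`. -/
theorem pow_apply_of_mem_fixOf_mul {a g : MulAut W} (hag : a * g = g * a) {u : W}
    (hu : u ∈ fixOf (a * g)) (k : ℕ) : (a ^ k) u = ((g⁻¹) ^ k) u := by
  have h1 : a u = g⁻¹ u := by
    rw [mem_fixOf, hag, MulAut.mul_apply] at hu
    rw [eq_comm, inv_apply_eq_iff]; exact hu.symm
  induction k with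
  | zero => simp
  | succ k ih =>
    rw [pow_succ', MulAut.mul_apply, ih]
    have hc : Commute a (g⁻¹ ^ k) := by
      have : Commute a g := hag
      exact (this.inv_right).pow_right k
    have h2 := congrArg (fun f : MulAut W => f u) hc.eq
    simp only [MulAut.mul_apply] at h2
    rw [h2, h1, pow_succ, MulAut.mul_apply]

theorem nm_of_mem_fixOf_mul {a g : MulAut W} (hag : a * g = g * a) {u : W}
    (hu : u ∈ fixOf (a * g)) (n : ℕ) : nm a n u = nm g⁻¹ n u := by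
  unfold nm
  exact Finset.prod_congr rfl fun k _ => pow_apply_of_mem_fixOf_mul hag hu k

theorem nm_mem {U : Subgroup W} {y : MulAut W} (hy : ∀ u ∈ U, y u ∈ U) (n : ℕ) {u : W}
    (hu : u ∈ U) : nm y n u ∈ U := by
  have hk : ∀ k : ℕ, (y ^ k) u ∈ U := by
    intro k
    induction k with
    | zero => simpa using hu
    | succ k ih => rw [pow_succ', MulAut.mul_apply]; exact hy _ ih
  unfold nm
  exact Subgroup.prod_mem U fun k _ => hk k

variable [Finite W]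

/-- hypotheses of the regular orbit lemma -/
structure ROHyp (p : ℕ) (T Z : Subgroup (MulAut W)) (U : Subgroup W) : Prop where
  ct : CT T Z
  cardZ : Nat.card Z = p
  exp : ∀ x ∈ T, x ^ p = 1
  cen : ∀ x ∈ T, (∀ y ∈ T, x * y = y * x) → x ∈ Z
  inv : ∀ x ∈ T, ∀ u ∈ U, x u ∈ U
  fpf : ∀ g ∈ Z, g ≠ 1 → fixOf g ⊓ U = ⊥
  ne : U ≠ ⊥

section step
variable {p : ℕ} [hp : Fact p.Prime] {T Z : Subgroup (MulAut W)} {U : Subgroup W}

/-- norm along `a` of a vector in `fixOf (a g) ⊓ U`, `g ∈ Z`, `g ≠ 1`. -/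
theorem ROHyp.nm_eq_one (h : ROHyp p T Z U) {a : MulAut W} (ha : a ∈ T) {g : MulAut W}
    (hg : g ∈ Z) (hg1 : g ≠ 1) {u : W} (hu : u ∈ fixOf (a * g)) (huU : u ∈ U) :
    nm a p u = 1 := by
  have hag : a * g = g * a := (h.ct.central g hg a ha).symm
  rw [nm_of_mem_fixOf_mul hag hu]
  have hgi : g⁻¹ ∈ Z := Z.inv_mem hg
  have hgi1 : g⁻¹ ≠ 1 := by simpa using hg1
  have h1 : nm g⁻¹ p u ∈ fixOf g⁻¹ := nm_mem_fixOf (h.exp _ (h.ct.le hgi)) u
  have h2 : nm g⁻¹ p u ∈ U := nm_mem (h.inv _ (h.ct.le hgi)) p huU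
  have h3 : nm g⁻¹ p u ∈ fixOf g⁻¹ ⊓ U := ⟨h1, h2⟩
  rw [h.fpf _ hgi hgi1, Subgroup.mem_bot] at h3
  exact h3

/-- transport of the pieces `fixOf (a g) ⊓ U` by elements of `T`. -/
theorem ROHyp.transport (h : ROHyp p T Z U) {a : MulAut W} (ha : a ∈ T) {g : MulAut W}
    (hg : g ∈ Z) {x : MulAut W} (hx : x ∈ T) {u : W} (hu : u ∈ fixOf (a * g)) (huU : u ∈ U) :
    x u ∈ fixOf (a * (g * ⁅x, a⁆)) ∧ x u ∈ U := by
  refine ⟨?_, h.inv x hx u huU⟩
  have h1 := apply_mem_fixOf_conj (x := x) hu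
  have h2 : x * (a * g) * x⁻¹ = a * (g * ⁅x, a⁆) := by
    have hd : ⁅x, a⁆ ∈ Z := h.ct.comm x hx a ha
    have e1 : x * (a * g) * x⁻¹ = (x * a * x⁻¹) * (x * g * x⁻¹) := by group
    rw [e1, h.ct.conj_central hg hx, conj_eq_comm_mul, h.ct.central _ hd a ha, mul_assoc,
      h.ct.central _ hd g (h.ct.le hg)]
  rwa [h2] at h1


theorem ROHyp.orderOf_eq (h : ROHyp p T Z U) {c : MulAut W} (hc : c ∈ Z) (hc1 : c ≠ 1) :
    orderOf c = p := by
  have h1 : c ^ p = 1 := by rw [← h.cardZ]; exact pow_card_eq_one_of_mem hc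
  rcases (Nat.dvd_prime hp.out).mp (orderOf_dvd_of_pow_eq_one h1) with h2 | h2
  · exact absurd (orderOf_eq_one_iff.mp h2) hc1
  · exact h2

theorem ROHyp.pow_ne_one (h : ROHyp p T Z U) {c : MulAut W} (hc : c ∈ Z) (hc1 : c ≠ 1) {k : ℕ}
    (hk0 : k ≠ 0) (hkp : k < p) : c ^ k ≠ 1 := by
  intro hck
  have := orderOf_dvd_of_pow_eq_one hck
  rw [h.orderOf_eq hc hc1] at this
  exact absurd (Nat.le_of_dvd (Nat.pos_of_ne_zero hk0) this) (not_le.mpr hkp)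

/-- some piece `fixOf (a c^j) ⊓ U` is nontrivial -/
theorem ROHyp.exists_piece_ne_bot (h : ROHyp p T Z U) (hcop : (Nat.card W).Coprime p)
    {a c : MulAut W} (ha : a ∈ T) (hc : c ∈ Z) (hc1 : c ≠ 1) :
    ∃ j : ℕ, fixOf (a * c ^ j) ⊓ U ≠ ⊥ := by
  obtain ⟨⟨u, huU⟩, hu1⟩ := (Subgroup.ne_bot_iff_exists_ne_one).mp h.ne
  have hu1' : u ≠ 1 := fun he => hu1 (Subtype.ext he)
  have hk : ∀ k ∈ Finset.range p, k ≠ 0 → nm (c ^ k) p u = 1 := by
    intro k hk hk0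
    have hckZ : c ^ k ∈ Z := Z.pow_mem hc k
    have hck1 : c ^ k ≠ 1 := h.pow_ne_one hc hc1 hk0 (Finset.mem_range.mp hk)
    have h1 : nm (c ^ k) p u ∈ fixOf (c ^ k) := nm_mem_fixOf (h.exp _ (h.ct.le hckZ)) u
    have h2 : nm (c ^ k) p u ∈ U := nm_mem (h.inv _ (h.ct.le hckZ)) p huU
    have h3 : nm (c ^ k) p u ∈ fixOf (c ^ k) ⊓ U := ⟨h1, h2⟩
    rw [h.fpf _ hckZ hck1, Subgroup.mem_bot] at h3
    exact h3
  have hac : a * c = c * a := (h.ct.central c hc a ha).symm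
  have hid := pow_eq_prod_nm' hp.out.pos hac u hk
  have hup : u ^ p ≠ 1 := fun he => hu1' (eq_one_of_pow_eq_one hcop he)
  by_contra hcon
  push Not at hcon
  apply hup
  rw [hid]
  refine Finset.prod_eq_one fun j _ => ?_
  have hj := hcon j
  have hm : a * c ^ j ∈ T := T.mul_mem ha (h.ct.le (Z.pow_mem hc j))
  have h1 : nm (a * c ^ j) p u ∈ fixOf (a * c ^ j) := nm_mem_fixOf (h.exp _ hm) u
  have h2 : nm (a * c ^ j) p u ∈ U := nm_mem (h.inv _ hm) p huU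
  have h3 : nm (a * c ^ j) p u ∈ fixOf (a * c ^ j) ⊓ U := ⟨h1, h2⟩
  rw [hj, Subgroup.mem_bot] at h3
  exact h3

/-- all pieces `fixOf (a g) ⊓ U` are nontrivial when `a` is not central -/
theorem ROHyp.piece_ne_bot (h : ROHyp p T Z U) (hcop : (Nat.card W).Coprime p)
    {a s : MulAut W} (ha : a ∈ T) (hs : s ∈ T) (hne : a * s ≠ s * a) {g : MulAut W}
    (hg : g ∈ Z) : fixOf (a * g) ⊓ U ≠ ⊥ := by
  have hcZ : ⁅a, s⁆ ∈ Z := h.ct.comm a ha s hs
  have hc1 : ⁅a, s⁆ ≠ 1 := fun he => hne (comm_eq_one_iff.mp he)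
  obtain ⟨j, hj⟩ := h.exists_piece_ne_bot hcop ha hcZ hc1
  obtain ⟨⟨v, hv⟩, hv1⟩ := (Subgroup.ne_bot_iff_exists_ne_one).mp hj
  have hv1' : v ≠ 1 := fun he => hv1 (Subtype.ext he)
  have hdZ : ⁅s, a⁆ ∈ Z := h.ct.comm s hs a ha
  have hd1 : ⁅s, a⁆ ≠ 1 := fun he => hne (comm_eq_one_iff.mp he).symm
  have hg0 : ⁅a, s⁆ ^ j ∈ Z := Z.pow_mem hcZ j
  obtain ⟨k, hk⟩ := exists_pow_eq_of_card_prime h.cardZ hdZ hd1
    (Z.mul_mem (Z.inv_mem hg0) hg)
  have hx : s ^ k ∈ T := T.pow_mem hs k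
  obtain ⟨h1, h2⟩ := h.transport ha hg0 hx hv.1 hv.2
  rw [h.ct.comm_pow_left hs ha k, ← hk, mul_inv_cancel_left] at h1
  intro hbot
  have h3 : (s ^ k) v ∈ fixOf (a * g) ⊓ U := ⟨h1, h2⟩
  rw [hbot, Subgroup.mem_bot] at h3
  apply hv1'
  have : (s ^ k) v = (s ^ k) 1 := by rw [h3, map_one]
  exact (s ^ k).injective this

/-- decomposition of an element of `T` along a hyperbolic pair -/
theorem ROHyp.exists_decomp (h : ROHyp p T Z U) {a s : MulAut W} (ha : a ∈ T) (hs : s ∈ T)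
    (hne : a * s ≠ s * a) {y : MulAut W} (hy : y ∈ T) :
    ∃ i j : ℕ, ⁅y, a⁆ = ⁅a, s⁆ ^ i ∧
      y * s ^ i * a ^ j ∈ T ⊓ Subgroup.centralizer ({a, s} : Set (MulAut W)) := by
  have hcZ : ⁅a, s⁆ ∈ Z := h.ct.comm a ha s hs
  have hc1 : ⁅a, s⁆ ≠ 1 := fun he => hne (comm_eq_one_iff.mp he)
  obtain ⟨i, hi⟩ := exists_pow_eq_of_card_prime h.cardZ hcZ hc1 (h.ct.comm y hy a ha)
  obtain ⟨j, hj⟩ := exists_pow_eq_of_card_prime h.cardZ hcZ hc1 (h.ct.comm y hy s hs)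
  refine ⟨i, (p - 1) * j, hi, ?_⟩
  have hsi : s ^ i ∈ T := T.pow_mem hs i
  have haj : a ^ ((p - 1) * j) ∈ T := T.pow_mem ha _
  have hysi : y * s ^ i ∈ T := T.mul_mem hy hsi
  have ht : y * s ^ i * a ^ ((p - 1) * j) ∈ T := T.mul_mem hysi haj
  have hcp : ⁅a, s⁆ ^ p = 1 := by rw [← h.cardZ]; exact pow_card_eq_one_of_mem hcZ
  have e1 : ⁅y * s ^ i * a ^ ((p - 1) * j), a⁆ = 1 := by
    rw [h.ct.comm_mul_left hysi haj ha, h.ct.comm_mul_left hy hsi ha,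
      h.ct.comm_pow_left hs ha, h.ct.comm_pow_left ha ha, comm_self, one_pow, mul_one, hi,
      Soft.comm_swap a s, inv_pow, mul_inv_cancel]
  have e2 : ⁅y * s ^ i * a ^ ((p - 1) * j), s⁆ = 1 := by
    rw [h.ct.comm_mul_left hysi haj hs, h.ct.comm_mul_left hy hsi hs,
      h.ct.comm_pow_left hs hs, h.ct.comm_pow_left ha hs, comm_self, one_pow, mul_one, hj,
      ← pow_add]
    have : j + (p - 1) * j = p * j := by
      have hp1 : 1 ≤ p := hp.out.pos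
      calc j + (p - 1) * j = (1 + (p - 1)) * j := by ring
        _ = p * j := by rw [Nat.add_sub_cancel' hp1]
    rw [this, pow_mul, hcp, one_pow]
  refine Subgroup.mem_inf.mpr ⟨ht, ?_⟩
  rw [Subgroup.mem_centralizer_iff]
  intro x hx
  rcases hx with rfl | hx
  · exact (comm_eq_one_iff.mp e1).symm
  · rw [Set.mem_singleton_iff] at hx
    subst hx
    exact (comm_eq_one_iff.mp e2).symm

end step

end Cfsg.Agent.Helper53.BS
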