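import Mathlib
import Cfsg.Agent.Lib.Helper53.BS4

/-!
Regular orbits of extraspecial groups of exponent `p` (`p` odd) in coprime actions: main theorem.
-/

set_option autoImplicit false
open scoped commutatorElement

namespace Cfsg.Agent.Helper53.BS

open Cfsg.Agent.Helper53.Soft

variable {W : Type*} [CommGroup W] [Finite W]
variable {p : ℕ} [hp : Fact p.Prime] {T Z : Subgroup (MulAut W)} {U : Subgroup W}

theorem ROHyp.sub (h : ROHyp p T Z U) (hcop : (Nat.card W).Coprime p) {a s : MulAut W}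
    (ha : a ∈ T) (hs : s ∈ T) (hne : a * s ≠ s * a) :
    ROHyp p (T ⊓ Subgroup.centralizer ({a, s} : Set (MulAut W))) Z (fixOf a ⊓ U) := by
  have hmem : ∀ {x : MulAut W}, x ∈ T ⊓ Subgroup.centralizer ({a, s} : Set (MulAut W)) ↔
      x ∈ T ∧ a * x = x * a ∧ s * x = x * s := by
    intro x
    rw [Subgroup.mem_inf, Subgroup.mem_centralizer_iff]
    constructor
    · rintro ⟨h1, h2⟩
      exact ⟨h1, h2 a (by simp), h2 s (by simp)⟩
    · rintro ⟨h1, h2, h3⟩
      refine ⟨h1, ?_⟩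
      intro y hy
      rcases hy with rfl | hy
      · exact h2
      · rw [Set.mem_singleton_iff] at hy; subst hy; exact h3
  refine ⟨⟨?_, ?_, ?_⟩, h.cardZ, ?_, ?_, ?_, ?_, ?_⟩
  · intro g hg
    exact hmem.mpr ⟨h.ct.le hg, (h.ct.central g hg a ha).symm, (h.ct.central g hg s hs).symm⟩
  · intro g hg y hy
    exact h.ct.central g hg y (hmem.mp hy).1
  · intro x hx y hy
    exact h.ct.comm x (hmem.mp hx).1 y (hmem.mp hy).1
  · intro x hx
    exact h.exp x (hmem.mp hx).1
  · intro x hx hxc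
    obtain ⟨hxT, hxa, hxs⟩ := hmem.mp hx
    apply h.cen x hxT
    intro y hy
    obtain ⟨i, j, -, ht⟩ := h.exists_decomp ha hs hne hy
    have hct : Commute x (y * s ^ i * a ^ j) := hxc _ ht
    have hcs : Commute x (s ^ i) := (Commute.pow_right (show Commute x s from hxs.symm) i)
    have hca : Commute x (a ^ j) := (Commute.pow_right (show Commute x a from hxa.symm) j)
    have hy' : y = y * s ^ i * a ^ j * (a ^ j)⁻¹ * (s ^ i)⁻¹ := by group
    have : Commute x y := by
      rw [hy']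
      exact (hct.mul_right hca.inv_right).mul_right hcs.inv_right
    exact this.eq
  · intro x hx u hu
    obtain ⟨hxT, hxa, hxs⟩ := hmem.mp hx
    refine ⟨?_, h.inv x hxT u hu.2⟩
    have h1 := congrArg (fun f : MulAut W => f u) hxa
    simp only [MulAut.mul_apply] at h1
    show a (x u) = x u
    rw [h1, hu.1]
  · intro g hg hg1
    rw [eq_bot_iff, ← h.fpf g hg hg1]
    exact inf_le_inf_left _ inf_le_right
  · have := h.piece_ne_bot hcop ha hs hne (g := 1) Z.one_mem
    rwa [mul_one] at this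

theorem ROHyp.card_sub_lt (h : ROHyp p T Z U) {a s : MulAut W}
    (ha : a ∈ T) (hne : a * s ≠ s * a) :
    Nat.card (T ⊓ Subgroup.centralizer ({a, s} : Set (MulAut W)) : Subgroup (MulAut W)) <
      Nat.card T := by
  by_contra hcon
  push Not at hcon
  have heq : T ⊓ Subgroup.centralizer ({a, s} : Set (MulAut W)) = T :=
    Subgroup.eq_of_le_of_card_ge inf_le_left hcon
  have : a ∈ T ⊓ Subgroup.centralizer ({a, s} : Set (MulAut W)) := by rw [heq]; exact ha
  rw [Subgroup.mem_inf, Subgroup.mem_centralizer_iff] at this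
  exact hne (this.2 s (by simp)).symm

/-- **Regular orbit lemma.** -/
theorem regular_orbit (hp2 : p ≠ 2) (hcop : (Nat.card W).Coprime p) :
    ∀ n : ℕ, ∀ (T Z : Subgroup (MulAut W)) (U : Subgroup W), Nat.card T = n → ROHyp p T Z U →
      ∃ u ∈ U, ∀ x ∈ T, x ≠ 1 → x u ≠ u := by
  intro n
  induction n using Nat.strong_induction_on with
  | _ n IH =>
  intro T Z U hn h
  by_cases hTZ : T ≤ Z
  · obtain ⟨⟨u, huU⟩, hu1⟩ := (Subgroup.ne_bot_iff_exists_ne_one).mp h.ne
    have hu1' : u ≠ 1 := fun he => hu1 (Subtype.ext he)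
    refine ⟨u, huU, ?_⟩
    intro x hx hx1 hxu
    have : u ∈ fixOf x ⊓ U := ⟨hxu, huU⟩
    rw [h.fpf x (hTZ hx) hx1, Subgroup.mem_bot] at this
    exact hu1' this
  · -- a noncentral element and a hyperbolic partner
    obtain ⟨a, ha, haZ⟩ := Set.not_subset.mp hTZ
    have hex : ∃ s ∈ T, a * s ≠ s * a := by
      by_contra hcon
      push Not at hcon
      exact haZ (h.cen a ha hcon)
    obtain ⟨s, hs, hne⟩ := hex
    set c : MulAut W := ⁅a, s⁆ with hcdef
    have hcZ : c ∈ Z := h.ct.comm a ha s hs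
    have hc1 : c ≠ 1 := fun he => hne (comm_eq_one_iff.mp he)
    have hco : orderOf c = p := h.orderOf_eq hcZ hc1
    set T₁ : Subgroup (MulAut W) := T ⊓ Subgroup.centralizer ({a, s} : Set (MulAut W)) with hT₁
    have hsub := h.sub hcop ha hs hne
    have hlt := h.card_sub_lt ha hne
    obtain ⟨u₀, hu₀, hreg⟩ := IH _ (hn ▸ hlt) T₁ Z (fixOf a ⊓ U) rfl hsub
    -- `u₀ ≠ 1`
    have hcT₁ : c ∈ T₁ := hsub.ct.le hcZ
    have hu₀1 : u₀ ≠ 1 := by
      intro he
      apply hreg c hcT₁ hc1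
      rw [he, map_one]
    -- a nontrivial vector in the piece of `c`
    have hpc := h.piece_ne_bot hcop ha hs hne hcZ
    obtain ⟨⟨u₁, hu₁⟩, hu₁1⟩ := (Subgroup.ne_bot_iff_exists_ne_one).mp hpc
    have hu₁1' : u₁ ≠ 1 := fun he => hu₁1 (Subtype.ext he)
    refine ⟨u₀ * u₁, U.mul_mem hu₀.2 hu₁.2, ?_⟩
    intro x hx hx1 hxu
    apply hx1
    rw [map_mul] at hxu
    -- the commutator `d = [x, a]`
    have hdZ : ⁅x, a⁆ ∈ Z := h.ct.comm x hx a ha
    have hu₀' : u₀ ∈ fixOf (a * 1) := by rw [mul_one]; exact hu₀.1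
    obtain ⟨hx0, hx0U⟩ := h.transport ha Z.one_mem hx hu₀' hu₀.2
    obtain ⟨hx1', hx1U⟩ := h.transport ha hcZ hx hu₁.1 hu₁.2
    rw [one_mul] at hx0
    -- apply the norm along `a`
    have hN := congrArg (nm a p) hxu
    rw [nm_mul, nm_mul, nm_of_fixed hu₀.1, h.nm_eq_one ha hcZ hc1 hu₁.1 hu₁.2, mul_one] at hN
    -- `d = 1`
    have hd1 : ⁅x, a⁆ = 1 := by
      by_contra hd
      rw [h.nm_eq_one ha hdZ hd hx0 hx0U, one_mul] at hN
      by_cases hcd : c * ⁅x, a⁆ = 1
      · -- then `x u₁ = u₀` and `x u₀ = u₁`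
        rw [hcd, mul_one] at hx1'
        rw [nm_of_fixed hx1'] at hN
        have h1 : x u₁ = u₀ := eq_of_pow_eq hcop hN
        rw [h1] at hxu
        have h2 : x u₀ = u₁ := by
          have := mul_right_cancel (hxu.trans (mul_comm u₀ u₁))
          exact this
        -- `u₁` is fixed by `a c` and by `a c⁻¹`
        have hdc : ⁅x, a⁆ = c⁻¹ := by
          rw [eq_inv_iff_mul_eq_one, ← h.ct.central c hcZ _ (h.ct.le hdZ)]
          exact hcd
        rw [h2, hdc] at hx0
        have e1 : a u₁ = c⁻¹ u₁ := by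
          have := pow_apply_of_mem_fixOf_mul (h.ct.central c hcZ a ha).symm hu₁.1 1
          simpa using this
        have e2 : a u₁ = c u₁ := by
          have := pow_apply_of_mem_fixOf_mul
            (h.ct.central c⁻¹ (Z.inv_mem hcZ) a ha).symm hx0 1
          simpa using this
        have e3 : (c ^ 2) u₁ = u₁ := by
          rw [pow_two, MulAut.mul_apply, ← e2, e1, MulAut.apply_inv_self]
        have hc2 : c ^ 2 ≠ 1 := by
          refine h.pow_ne_one hcZ hc1 (by norm_num) ?_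
          have := hp.out.two_le
          omega
        have : u₁ ∈ fixOf (c ^ 2) ⊓ U := ⟨e3, hu₁.2⟩
        rw [h.fpf _ (Z.pow_mem hcZ 2) hc2, Subgroup.mem_bot] at this
        exact hu₁1' this
      · rw [h.nm_eq_one ha (Z.mul_mem hcZ hdZ) hcd hx1' hx1U] at hN
        exact hu₀1 (eq_one_of_pow_eq_one hcop hN.symm)
    -- now `x` commutes with `a`, `x u₀ = u₀` and `x u₁ = u₁`
    rw [hd1, mul_one] at hx0 hx1'
    rw [nm_of_fixed hx0, h.nm_eq_one ha hcZ hc1 hx1' hx1U, mul_one] at hN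
    have hxu₀ : x u₀ = u₀ := eq_of_pow_eq hcop hN
    have hxu₁ : x u₁ = u₁ := by
      rw [hxu₀] at hxu
      exact mul_left_cancel hxu
    -- decompose `x = t₁ * a^(-j)`
    obtain ⟨i, j, hi, ht⟩ := h.exists_decomp ha hs hne hx
    have hsi : s ^ i = 1 := by
      rw [hd1] at hi
      have hpi : p ∣ i := by
        have := orderOf_dvd_of_pow_eq_one hi.symm
        rwa [hco] at this
      obtain ⟨m, rfl⟩ := hpi
      rw [pow_mul, h.exp s hs, one_pow]
    rw [hsi, mul_one] at ht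
    -- `t₁ = x * a^j` fixes `u₀`
    have haj0 : (a ^ j) u₀ = u₀ := fixOf_le_fixOf_pow a j hu₀.1
    have ht1 : x * a ^ j = 1 := by
      by_contra hne1
      apply hreg _ ht hne1
      rw [MulAut.mul_apply, haj0, hxu₀]
    -- hence `a^j u₁ = u₁`
    have hxinv : x = (a ^ j)⁻¹ := eq_inv_of_mul_eq_one_left ht1
    have haj1 : (a ^ j) u₁ = u₁ := by
      have := hxu₁
      rw [hxinv, inv_apply_eq_iff] at this
      exact this.symm
    have hcj : ((c⁻¹) ^ j) u₁ = u₁ := by
      rw [← pow_apply_of_mem_fixOf_mul (h.ct.central c hcZ a ha).symm hu₁.1 j]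
      exact haj1
    have hcj1 : (c⁻¹) ^ j = 1 := by
      by_contra hne1
      have : u₁ ∈ fixOf ((c⁻¹) ^ j) ⊓ U := ⟨hcj, hu₁.2⟩
      rw [h.fpf _ (Z.pow_mem (Z.inv_mem hcZ) j) hne1, Subgroup.mem_bot] at this
      exact hu₁1' this
    have hpj : p ∣ j := by
      have h1 : c ^ j = 1 := by
        rw [inv_pow, inv_eq_one] at hcj1
        exact hcj1
      have := orderOf_dvd_of_pow_eq_one h1
      rwa [hco] at this
    obtain ⟨m, rfl⟩ := hpj
    rw [hxinv, pow_mul, h.exp a ha, one_pow, inv_one]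

end Cfsg.Agent.Helper53.BS
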