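import Mathlib
import Cfsg.Agent.Lib.Helper53.Soft1

/-!
A `p`-group of odd order acting on a finite set has a regular orbit on the power set
(relative version: the stabilizer of some subset is the kernel of the action).
-/

set_option autoImplicit false

namespace Cfsg.Agent.Helper53.BS

open Cfsg.Agent.Helper53.Soft

variable {X : Type*} [Group X] {Ω : Type*} [MulAction X Ω]

/-- `x` stabilizes the set `J` -/
def Stb (x : X) (J : Set Ω) : Prop := ∀ ω, ω ∈ J ↔ x • ω ∈ J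

theorem stb_of_mapsTo {J : Set Ω} (hJ : J.Finite) {x : X} (h : ∀ ω ∈ J, x • ω ∈ J) :
    Stb x J := by
  have himg : (fun ω => x • ω) '' J = J := by
    apply Set.eq_of_subset_of_ncard_le
    · rintro _ ⟨ω, hω, rfl⟩; exact h ω hω
    · rw [Set.ncard_image_of_injective _ (MulAction.injective x)]
    · exact hJ
  intro ω
  constructor
  · exact h ω
  · intro hω
    rw [← himg] at hω
    obtain ⟨ω', hω', he⟩ := hω
    have : ω' = ω := MulAction.injective x he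
    rwa [← this]

theorem Stb.inv {J : Set Ω} {x : X} (h : Stb x J) : Stb x⁻¹ J := by
  intro ω
  have := h (x⁻¹ • ω)
  rw [smul_inv_smul] at this
  exact this.symm

/-- the `N`-orbit of a point -/
def blk (N : Subgroup X) (ω : Ω) : Set Ω := {ω' | ∃ n ∈ N, n • ω = ω'}

theorem mem_blk_self (N : Subgroup X) (ω : Ω) : ω ∈ blk N ω := ⟨1, N.one_mem, one_smul _ _⟩

theorem blk_eq_of_mem {N : Subgroup X} {ω ω' : Ω} (h : ω' ∈ blk N ω) : blk N ω' = blk N ω := by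
  obtain ⟨n, hn, rfl⟩ := h
  ext ω''
  constructor
  · rintro ⟨m, hm, rfl⟩
    exact ⟨m * n, N.mul_mem hm hn, mul_smul _ _ _⟩
  · rintro ⟨m, hm, rfl⟩
    refine ⟨m * n⁻¹, N.mul_mem hm (N.inv_mem hn), ?_⟩
    rw [mul_smul, inv_smul_smul]

theorem smul_mem_blk_iff {N : Subgroup X} {y : X} (hy : ∀ n ∈ N, y * n * y⁻¹ ∈ N)
    (hy' : ∀ n ∈ N, y⁻¹ * n * y ∈ N) {ω ω' : Ω} :
    y • ω' ∈ blk N (y • ω) ↔ ω' ∈ blk N ω := by
  constructor
  · rintro ⟨n, hn, he⟩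
    refine ⟨y⁻¹ * n * y, hy' n hn, ?_⟩
    rw [mul_smul, mul_smul, he, inv_smul_smul]
  · rintro ⟨n, hn, rfl⟩
    refine ⟨y * n * y⁻¹, hy n hn, ?_⟩
    rw [mul_smul, mul_smul, inv_smul_smul]

theorem ncard_inter_blk_smul {N : Subgroup X} {y : X} (hy : ∀ n ∈ N, y * n * y⁻¹ ∈ N)
    (hy' : ∀ n ∈ N, y⁻¹ * n * y ∈ N) {J : Set Ω} (hst : Stb y J) (ω : Ω) :
    (J ∩ blk N (y • ω)).ncard = (J ∩ blk N ω).ncard := by
  have himg : (fun ω' => y • ω') '' (J ∩ blk N ω) = J ∩ blk N (y • ω) := by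
    ext ω''
    constructor
    · rintro ⟨ω', ⟨h1, h2⟩, rfl⟩
      exact ⟨(hst ω').mp h1, (smul_mem_blk_iff hy hy').mpr h2⟩
    · rintro ⟨h1, h2⟩
      refine ⟨y⁻¹ • ω'', ⟨?_, ?_⟩, smul_inv_smul _ _⟩
      · rw [hst, smul_inv_smul]; exact h1
      · rw [← smul_mem_blk_iff hy hy', smul_inv_smul]; exact h2
  rw [← himg, Set.ncard_image_of_injective _ (MulAction.injective y)]

section main
variable [Finite X] [Finite Ω] {p : ℕ} [hp : Fact p.Prime]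

theorem odd_ncard_blk (hp2 : p ≠ 2) (hX : IsPGroup p X) (N : Subgroup X) (ω : Ω) :
    Odd (blk N ω).ncard := by
  have he : blk N ω = MulAction.orbit N ω := by
    ext ω'
    rw [MulAction.mem_orbit_iff]
    constructor
    · rintro ⟨n, hn, rfl⟩; exact ⟨⟨n, hn⟩, rfl⟩
    · rintro ⟨⟨n, hn⟩, rfl⟩; exact ⟨n, hn, rfl⟩
  rw [he, ← MulAction.index_stabilizer]
  have hdvd := Subgroup.index_dvd_card (MulAction.stabilizer N ω)
  obtain ⟨k, hk⟩ := (IsPGroup.iff_card (p := p)).mp (hX.to_subgroup N)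
  rw [hk] at hdvd
  obtain ⟨j, -, hj⟩ := (Nat.dvd_prime_pow hp.out).mp hdvd
  rw [hj]
  exact Odd.pow (hp.out.eq_two_or_odd'.resolve_left hp2)

theorem ps_trans (hp2 : p ≠ 2) (hX : IsPGroup p X) (M : Subgroup X) (S : Set Ω)
    (hinv : ∀ x ∈ M, ∀ ω ∈ S, x • ω ∈ S) (ω₀ : Ω) (hω₀ : ω₀ ∈ S)
    (htr : ∀ ω ∈ S, ∃ x ∈ M, x • ω₀ = ω) (hnt : ∃ x ∈ M, x • ω₀ ≠ ω₀)
    (IH : ∀ N : Subgroup X, N < M →
      ∃ J₀ : Set Ω, J₀ ⊆ S ∧ ∀ x ∈ N, Stb x J₀ → ∀ ω ∈ S, x • ω = ω) :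
    ∃ J : Set Ω, J ⊆ S ∧ ∀ x ∈ M, Stb x J → ∀ ω ∈ S, x • ω = ω := by
  classical
  set M₀ : Subgroup X := M ⊓ MulAction.stabilizer X ω₀ with hM₀
  have hM₀lt : M₀ < M := by
    refine lt_of_le_of_ne inf_le_left ?_
    intro he
    obtain ⟨x, hx, hxω⟩ := hnt
    have : x ∈ M₀ := by rw [he]; exact hx
    exact hxω (MulAction.mem_stabilizer_iff.mp this.2)
  -- a maximal proper subgroup of `M` containing `M₀`
  obtain ⟨N, ⟨hM₀N, hNM⟩, hNmax⟩ :=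
    (wellFounded_gt (α := Subgroup X)).has_min {N | M₀ ≤ N ∧ N < M} ⟨M₀, le_refl _, hM₀lt⟩
  have hNmax' : ∀ N' : Subgroup X, N < N' → N' ≤ M → N' = M := by
    intro N' h1 h2
    by_contra hne
    exact hNmax N' ⟨hM₀N.trans h1.le, lt_of_le_of_ne h2 hne⟩ h1
  -- `N` is normal in `M`
  have hNn : M ≤ Subgroup.normalizer (N : Set X) := by
    have h1 := lt_nIn_of_lt hX hNM
    have h2 := hNmax' _ h1 (nIn_le M N)
    intro y hy
    have : y ∈ nIn M N := by rw [h2]; exact hy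
    exact (mem_nIn.mp this).1
  have hy1 : ∀ y ∈ M, ∀ n ∈ N, y * n * y⁻¹ ∈ N := fun y hy n hn =>
    (Subgroup.mem_normalizer_iff.mp (hNn hy) n).mp hn
  have hy2 : ∀ y ∈ M, ∀ n ∈ N, y⁻¹ * n * y ∈ N := fun y hy n hn => by
    have := hy1 y⁻¹ (M.inv_mem hy) n hn
    simpa using this
  -- elements of `M` preserving the first block lie in `N`
  have hb8 : ∀ y ∈ M, y • ω₀ ∈ blk N ω₀ → y ∈ N := by
    rintro y hy ⟨n, hn, he⟩
    have h1 : n⁻¹ * y ∈ M₀ := by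
      refine Subgroup.mem_inf.mpr ⟨M.mul_mem (M.inv_mem (hNM.le hn)) hy, ?_⟩
      show (n⁻¹ * y) • ω₀ = ω₀
      rw [mul_smul, ← he, inv_smul_smul]
    have : y = n * (n⁻¹ * y) := by group
    rw [this]
    exact N.mul_mem hn (hM₀N h1)
  obtain ⟨J₀, hJ₀S, hJ₀⟩ := IH N hNM
  set b : ℕ := (blk N ω₀).ncard with hb
  have hbodd : Odd b := odd_ncard_blk hp2 hX N ω₀
  have hstu : ∀ y : X, Stb y (Set.univ : Set Ω) := fun y ω => by simp
  have hbS : ∀ ω ∈ S, (blk N ω).ncard = b := by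
    intro ω hω
    obtain ⟨y, hy, rfl⟩ := htr ω hω
    have := ncard_inter_blk_smul (hy1 y hy) (hy2 y hy) (hstu y) ω₀
    simpa using this
  have hblkS : ∀ ω ω', ω' ∈ blk N ω → (ω' ∈ S ↔ ω ∈ S) := by
    rintro ω ω' ⟨n, hn, rfl⟩
    constructor
    · intro h
      have := hinv n⁻¹ (M.inv_mem (hNM.le hn)) _ h
      rwa [inv_smul_smul] at this
    · exact hinv n (hNM.le hn) ω
  have hblk0 : ∀ ω ω', ω' ∈ blk N ω → (ω' ∈ blk N ω₀ ↔ ω ∈ blk N ω₀) := by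
    intro ω ω' h
    constructor
    · intro h'
      have e1 := blk_eq_of_mem h
      have e2 := blk_eq_of_mem h'
      rw [← e2, e1]
      exact mem_blk_self N ω
    · intro h'
      rw [← blk_eq_of_mem h']
      exact h
  obtain ⟨c, hc⟩ : ∃ c : Ω → ℕ, ∀ ω, c ω = (J₀ ∩ blk N ω).ncard := ⟨_, fun _ => rfl⟩
  obtain ⟨F, hF⟩ : ∃ F : Set Ω, ∀ ω, ω ∈ F ↔ (ω ∈ S ∧
      ((ω ∈ blk N ω₀ ∧ 2 * c ω < b) ∨ (ω ∉ blk N ω₀ ∧ b < 2 * c ω))) :=
    ⟨{ω | ω ∈ S ∧ ((ω ∈ blk N ω₀ ∧ 2 * c ω < b) ∨ (ω ∉ blk N ω₀ ∧ b < 2 * c ω))},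
      fun _ => Iff.rfl⟩
  obtain ⟨J, hJ⟩ : ∃ J : Set Ω, ∀ ω, ω ∈ J ↔ ((ω ∈ J₀ ∧ ω ∉ F) ∨ (ω ∈ F ∧ ω ∉ J₀)) :=
    ⟨{ω | (ω ∈ J₀ ∧ ω ∉ F) ∨ (ω ∈ F ∧ ω ∉ J₀)}, fun _ => Iff.rfl⟩
  have hFblk : ∀ ω ω', ω' ∈ blk N ω → (ω' ∈ F ↔ ω ∈ F) := by
    intro ω ω' h
    have e1 := blk_eq_of_mem h
    have hcc : c ω' = c ω := by rw [hc, hc, e1]
    rw [hF, hF, hcc, hblkS ω ω' h, hblk0 ω ω' h]
  have hJS : J ⊆ S := by
    intro ω hω
    rcases (hJ ω).mp hω with ⟨h1, -⟩ | ⟨h1, -⟩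
    · exact hJ₀S h1
    · exact ((hF ω).mp h1).1
  -- the intersection numbers of `J` with the blocks
  have hcJ1 : ∀ ω, ω ∈ F → (J ∩ blk N ω).ncard + c ω = b := by
    intro ω hωF
    have e : J ∩ blk N ω = blk N ω \ J₀ := by
      ext ω'
      constructor
      · rintro ⟨hJ', hb'⟩
        refine ⟨hb', ?_⟩
        rcases (hJ ω').mp hJ' with ⟨_, h2⟩ | ⟨_, h2⟩
        · exact absurd ((hFblk ω ω' hb').mpr hωF) h2
        · exact h2
      · rintro ⟨hb', h2⟩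
        exact ⟨(hJ ω').mpr (Or.inr ⟨(hFblk ω ω' hb').mpr hωF, h2⟩), hb'⟩
    rw [e, ← hbS ω ((hF ω).mp hωF).1, hc]
    have := Set.ncard_inter_add_ncard_sdiff_eq_ncard (blk N ω) J₀ (Set.toFinite _)
    rw [Set.inter_comm J₀, add_comm]
    exact this
  have hcJ2 : ∀ ω, ω ∉ F → (J ∩ blk N ω).ncard = c ω := by
    intro ω hωF
    have e : J ∩ blk N ω = J₀ ∩ blk N ω := by
      ext ω'
      constructor
      · rintro ⟨hJ', hb'⟩
        refine ⟨?_, hb'⟩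
        rcases (hJ ω').mp hJ' with ⟨h1, _⟩ | ⟨h1, _⟩
        · exact h1
        · exact absurd ((hFblk ω ω' hb').mp h1) hωF
      · rintro ⟨h1, hb'⟩
        exact ⟨(hJ ω').mpr (Or.inl ⟨h1, fun h => hωF ((hFblk ω ω' hb').mp h)⟩), hb'⟩
    rw [e, hc]
  have hK1 : b < 2 * (J ∩ blk N ω₀).ncard := by
    obtain ⟨k, hk⟩ := hbodd
    by_cases hF0 : ω₀ ∈ F
    · have h1 := hcJ1 ω₀ hF0
      rcases ((hF ω₀).mp hF0).2 with ⟨_, h2⟩ | ⟨h2, _⟩
      · omega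
      · exact absurd (mem_blk_self N ω₀) h2
    · have h1 := hcJ2 ω₀ hF0
      have h2 : ¬ (2 * c ω₀ < b) := fun h =>
        hF0 ((hF ω₀).mpr ⟨hω₀, Or.inl ⟨mem_blk_self N ω₀, h⟩⟩)
      omega
  have hK2 : ∀ ω ∈ S, ω ∉ blk N ω₀ → 2 * (J ∩ blk N ω).ncard < b := by
    intro ω hωS hω0
    obtain ⟨k, hk⟩ := hbodd
    by_cases hF0 : ω ∈ F
    · have h1 := hcJ1 ω hF0
      rcases ((hF ω).mp hF0).2 with ⟨h2, _⟩ | ⟨_, h2⟩
      · exact absurd h2 hω0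
      · omega
    · have h1 := hcJ2 ω hF0
      have h2 : ¬ (b < 2 * c ω) := fun h => hF0 ((hF ω).mpr ⟨hωS, Or.inr ⟨hω0, h⟩⟩)
      omega
  refine ⟨J, hJS, ?_⟩
  intro x hx hst
  have hcx := ncard_inter_blk_smul (hy1 x hx) (hy2 x hx) hst ω₀
  have hxN : x ∈ N := by
    apply hb8 x hx
    by_contra hcon
    have := hK2 (x • ω₀) (hinv x hx ω₀ hω₀) hcon
    omega
  apply hJ₀ x hxN
  intro ω
  have h1 := hst ω
  have h2 : x • ω ∈ F ↔ ω ∈ F := hFblk ω (x • ω) ⟨x, hxN, rfl⟩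
  rw [hJ, hJ, h2] at h1
  tauto

theorem ps_aux (hp2 : p ≠ 2) (hX : IsPGroup p X) :
    ∀ n : ℕ, ∀ (M : Subgroup X) (S : Set Ω), (∀ x ∈ M, ∀ ω ∈ S, x • ω ∈ S) →
      Nat.card M + S.ncard = n →
      ∃ J : Set Ω, J ⊆ S ∧ ∀ x ∈ M, Stb x J → ∀ ω ∈ S, x • ω = ω := by
  intro n
  induction n using Nat.strong_induction_on with
  | _ n IH =>
  intro M S hinv hn
  by_cases htriv : ∀ x ∈ M, ∀ ω ∈ S, x • ω = ω
  · exact ⟨∅, Set.empty_subset _, fun x hx _ => htriv x hx⟩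
  push Not at htriv
  obtain ⟨x₁, hx₁, ω₁, hω₁, hne₁⟩ := htriv
  -- the orbit of `ω₁`
  set O : Set Ω := {ω | ∃ x ∈ M, x • ω₁ = ω} with hO
  have hOS : O ⊆ S := by
    rintro ω ⟨x, hx, rfl⟩; exact hinv x hx ω₁ hω₁
  have hOinv : ∀ x ∈ M, ∀ ω ∈ O, x • ω ∈ O := by
    rintro x hx ω ⟨y, hy, rfl⟩
    exact ⟨x * y, M.mul_mem hx hy, mul_smul _ _ _⟩
  have hω₁O : ω₁ ∈ O := ⟨1, M.one_mem, one_smul _ _⟩
  by_cases hOeq : O = S
  · -- transitive case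
    have htr : ∀ ω ∈ S, ∃ x ∈ M, x • ω₁ = ω := by
      intro ω hω; rw [← hOeq] at hω; exact hω
    apply ps_trans hp2 hX M S hinv ω₁ hω₁ htr ⟨x₁, hx₁, hne₁⟩
    intro N hNM
    have hlt : Nat.card N + S.ncard < n := by
      have : Nat.card N < Nat.card M := by
        by_contra hcon
        push Not at hcon
        exact hNM.ne (Subgroup.eq_of_le_of_card_ge hNM.le hcon)
      omega
    exact IH _ hlt N S (fun x hx => hinv x (hNM.le hx)) rfl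
  · -- intransitive case
    have hOss : O ⊂ S := lt_of_le_of_ne hOS hOeq
    set S' : Set Ω := S \ O with hS'
    have hS'inv : ∀ x ∈ M, ∀ ω ∈ S', x • ω ∈ S' := by
      rintro x hx ω ⟨h1, h2⟩
      refine ⟨hinv x hx ω h1, fun h => h2 ?_⟩
      have := hOinv x⁻¹ (M.inv_mem hx) _ h
      rwa [inv_smul_smul] at this
    have hlt1 : Nat.card M + O.ncard < n := by
      have := Set.ncard_lt_ncard hOss (Set.toFinite _)
      omega
    have hlt2 : Nat.card M + S'.ncard < n := by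
      have hss : S' ⊂ S := by
        refine lt_of_le_of_ne Set.diff_subset ?_
        intro he
        have : ω₁ ∈ S' := by rw [he]; exact hω₁
        exact this.2 hω₁O
      have := Set.ncard_lt_ncard hss (Set.toFinite _)
      omega
    obtain ⟨J₁, hJ₁, h1⟩ := IH _ hlt1 M O hOinv rfl
    obtain ⟨J₂, hJ₂, h2⟩ := IH _ hlt2 M S' hS'inv rfl
    refine ⟨J₁ ∪ J₂, Set.union_subset (hJ₁.trans hOS) (hJ₂.trans Set.diff_subset), ?_⟩
    intro x hx hst ω hω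
    have hst1 : Stb x J₁ := by
      apply stb_of_mapsTo (Set.toFinite _)
      intro ω' hω'
      rcases (hst ω').mp (Or.inl hω') with h | h
      · exact h
      · exact absurd (hOinv x hx ω' (hJ₁ hω')) (hJ₂ h).2
    have hst2 : Stb x J₂ := by
      apply stb_of_mapsTo (Set.toFinite _)
      intro ω' hω'
      rcases (hst ω').mp (Or.inr hω') with h | h
      · exact absurd (hJ₁ h) (hS'inv x hx ω' (hJ₂ hω')).2
      · exact h
    by_cases hωO : ω ∈ O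
    · exact h1 x hx hst1 ω hωO
    · exact h2 x hx hst2 ω ⟨hω, hωO⟩

/-- **Power set lemma.** A `p`-group, `p` odd, acting on a finite set `Ω` and leaving `S ⊆ Ω`
invariant: some `J ⊆ S` is mapped into itself only by the elements acting trivially on `S`. -/
theorem exists_subset_stabilizer_le_kernel (hp2 : p ≠ 2) (hX : IsPGroup p X) (M : Subgroup X)
    (S : Set Ω) (hS : ∀ x ∈ M, ∀ ω ∈ S, x • ω ∈ S) :
    ∃ J : Set Ω, J ⊆ S ∧ ∀ x ∈ M, (∀ ω ∈ J, x • ω ∈ J) → ∀ ω ∈ S, x • ω = ω := by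
  obtain ⟨J, hJS, hJ⟩ := ps_aux hp2 hX _ M S hS rfl
  exact ⟨J, hJS, fun x hx hmap => hJ x hx (stb_of_mapsTo (Set.toFinite _) hmap)⟩

end main

end Cfsg.Agent.Helper53.BS
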