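import Mathlib
import Cfsg.Agent.Lib.Helper53.BS3
import Cfsg.Agent.Lib.Helper53.UniqueInvol2
import Cfsg.Agent.Lib.Helper66.ClassTwo

/-!
Towards P. Hall's theorem on `p`-groups all of whose invariant abelian subgroups are cyclic:
general lemmas (central elements modulo a normal subgroup, the subgroup `T₀`, the index of the
centralizer of a subgroup with commutators in a central subgroup of order `p`).
-/

set_option autoImplicit false
open scoped commutatorElement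

namespace Cfsg.Agent.Helper53.BS

open Cfsg.Agent.Helper53.Soft

section general
variable {X : Type*} [Group X]

/-- invariance under conjugation by the elements of `Γ` -/
def GInv (Γ B : Subgroup X) : Prop := ∀ γ ∈ Γ, ∀ x ∈ B, γ * x * γ⁻¹ ∈ B

theorem GInv.inf {Γ A B : Subgroup X} (hA : GInv Γ A) (hB : GInv Γ B) : GInv Γ (A ⊓ B) :=
  fun γ hγ x hx => ⟨hA γ hγ x hx.1, hB γ hγ x hx.2⟩

theorem GInv.centralizer {Γ A : Subgroup X} (hA : GInv Γ A) :
    GInv Γ (Subgroup.centralizer (A : Set X)) := by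
  intro γ hγ x hx
  rw [Subgroup.mem_centralizer_iff] at *
  intro a ha
  have h1 : γ⁻¹ * a * γ ∈ A := by
    have := hA γ⁻¹ (Γ.inv_mem hγ) a ha
    rwa [inv_inv] at this
  have h2 := hx _ h1
  calc a * (γ * x * γ⁻¹) = γ * ((γ⁻¹ * a * γ) * x) * γ⁻¹ := by group
    _ = γ * (x * (γ⁻¹ * a * γ)) * γ⁻¹ := by rw [h2]
    _ = γ * x * γ⁻¹ * a := by group

theorem GInv.mono {Γ Γ' B : Subgroup X} (h : GInv Γ B) (hle : Γ' ≤ Γ) : GInv Γ' B :=
  fun γ hγ x hx => h γ (hle hγ) x hx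

theorem GInv.cj_eq {Γ B : Subgroup X} (h : GInv Γ B) {γ : X} (hγ : γ ∈ Γ) : cj γ B = B := by
  apply le_antisymm
  · intro x hx
    rw [mem_cj] at hx
    have := h γ hγ _ hx
    have h2 : γ * (γ⁻¹ * x * γ) * γ⁻¹ = x := by group
    rwa [h2] at this
  · intro x hx
    rw [mem_cj]
    have := h γ⁻¹ (Γ.inv_mem hγ) x hx
    rwa [inv_inv] at this

theorem ginv_of_cj_eq {Γ B : Subgroup X} (h : ∀ γ ∈ Γ, cj γ B = B) : GInv Γ B := by
  intro γ hγ x hx
  have := conj_mem_cj (g := γ) hx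
  rwa [h γ hγ] at this

theorem comm_mul_right' (a g h : X) : ⁅a, g * h⁆ = ⁅a, g⁆ * (g * ⁅a, h⁆ * g⁻¹) := by
  simp only [commutatorElement_def]; group

/-- `(Cyc)`: every `Γ`-invariant commutative subgroup of `Q` is cyclic -/
def CycHyp (Γ Q : Subgroup X) : Prop :=
  ∀ B : Subgroup X, B ≤ Q → GInv Γ B → (∀ x ∈ B, ∀ y ∈ B, x * y = y * x) → IsCyclic B

theorem CycHyp.mono {Γ Q Q' : Subgroup X} (h : CycHyp Γ Q) (hle : Q' ≤ Q) : CycHyp Γ Q' :=
  fun B hB hinv hcomm => h B (hB.trans hle) hinv hcomm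

/-- an element of `H` outside `N`, central modulo `N` -/
theorem exists_central_mod {P : Type*} [Group P] [Finite P] {p : ℕ} [Fact p.Prime]
    (hP : IsPGroup p P) (N H : Subgroup P) [N.Normal] [H.Normal] (hHN : ¬ H ≤ N) :
    ∃ g ∈ H, g ∉ N ∧ ∀ y : P, ⁅g, y⁆ ∈ N := by
  have hmapne : H.map (QuotientGroup.mk' N) ≠ ⊥ := by
    intro h
    apply hHN
    intro x hx
    have : QuotientGroup.mk' N x ∈ H.map (QuotientGroup.mk' N) := Subgroup.mem_map_of_mem _ hx
    rw [h, Subgroup.mem_bot] at this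
    exact (QuotientGroup.eq_one_iff x).mp this
  have : (H.map (QuotientGroup.mk' N)).Normal :=
    Subgroup.Normal.map inferInstance _ (QuotientGroup.mk'_surjective N)
  obtain ⟨zb, hzb, hzb1, hzbc⟩ :=
    exists_ne_one_mem_center_of_normal' (hP.to_quotient N) _ hmapne
  obtain ⟨g, hgH, hgz⟩ := Subgroup.mem_map.mp hzb
  refine ⟨g, hgH, ?_, ?_⟩
  · intro h
    apply hzb1
    rw [← hgz]
    exact (QuotientGroup.eq_one_iff g).mpr h
  · intro y
    rw [← QuotientGroup.eq_one_iff, commutatorElement_def]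
    have h1 : ((g * y * g⁻¹ * y⁻¹ : P) : P ⧸ N) =
        QuotientGroup.mk' N g * QuotientGroup.mk' N y * (QuotientGroup.mk' N g)⁻¹ *
          (QuotientGroup.mk' N y)⁻¹ := by
      simp
    rw [h1, hgz]
    rw [Subgroup.mem_center_iff] at hzbc
    rw [← hzbc (QuotientGroup.mk' N y)]
    group

end general

section tzero
variable {X : Type*} [Group X] {p : ℕ} [hp : Fact p.Prime]

theorem zpowers_central {Q : Subgroup X} {z : X} (hzc : ∀ q ∈ Q, z * q = q * z) :
    ∀ g ∈ Subgroup.zpowers z, ∀ q ∈ Q, g * q = q * g := by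
  intro g hg q hq
  have hle : Subgroup.zpowers z ≤ Subgroup.centralizer (Q : Set X) := by
    rw [Subgroup.zpowers_le, Subgroup.mem_centralizer_iff]
    intro q hq
    exact (hzc q hq).symm
  have := hle hg
  rw [Subgroup.mem_centralizer_iff] at this
  exact (this q hq).symm

theorem pow_eq_one_of_mem_zpowers {z : X} {n : ℕ} (hz : z ^ n = 1) {g : X}
    (hg : g ∈ Subgroup.zpowers z) : g ^ n = 1 := by
  obtain ⟨k, rfl⟩ := hg
  rw [← zpow_natCast, ← zpow_mul, mul_comm, zpow_mul, zpow_natCast, hz, one_zpow]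

/-- the subgroup `T₀` of the elements of order dividing `p` with all commutators in `⟨z⟩` -/
theorem exists_T0 (hp2 : p ≠ 2) (Q : Subgroup X) {z : X} (hzQ : z ∈ Q)
    (hzc : ∀ q ∈ Q, z * q = q * z) (hzp : z ^ p = 1) :
    ∃ T : Subgroup X, ∀ x, x ∈ T ↔
      (x ∈ Q ∧ x ^ p = 1 ∧ ∀ q ∈ Q, ⁅x, q⁆ ∈ Subgroup.zpowers z) := by
  have hZQ : Subgroup.zpowers z ≤ Q := by rwa [Subgroup.zpowers_le]
  have hcen := zpowers_central hzc
  have hinv : ∀ x : X, (x ∈ Q ∧ x ^ p = 1 ∧ ∀ q ∈ Q, ⁅x, q⁆ ∈ Subgroup.zpowers z) →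
      (x⁻¹ ∈ Q ∧ x⁻¹ ^ p = 1 ∧ ∀ q ∈ Q, ⁅x⁻¹, q⁆ ∈ Subgroup.zpowers z) := by
    rintro x ⟨hxQ, hxp, hxc⟩
    refine ⟨Q.inv_mem hxQ, by rw [inv_pow, hxp, inv_one], ?_⟩
    intro q hq
    rw [Soft.comm_inv_left]
    have h1 : ⁅x, q⁆⁻¹ ∈ Subgroup.zpowers z := Subgroup.inv_mem _ (hxc q hq)
    have h2 : x⁻¹ * ⁅x, q⁆⁻¹ * x = ⁅x, q⁆⁻¹ := by
      rw [mul_assoc, hcen _ h1 x hxQ, inv_mul_cancel_left]
    rw [h2]; exact h1
  refine ⟨{ carrier := {x | x ∈ Q ∧ x ^ p = 1 ∧ ∀ q ∈ Q, ⁅x, q⁆ ∈ Subgroup.zpowers z}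
            one_mem' := ?o
            mul_mem' := ?m
            inv_mem' := ?i }, fun x => Iff.rfl⟩
  case o =>
    refine ⟨Q.one_mem, one_pow _, ?_⟩
    intro q _
    rw [CT.comm_one_left]
    exact Subgroup.one_mem _
  case m =>
    rintro x y ⟨hxQ, hxp, hxc⟩ ⟨hyQ, hyp, hyc⟩
    refine ⟨Q.mul_mem hxQ hyQ, ?_, ?_⟩
    · -- the power
      have hc : y⁻¹ * x⁻¹ * y * x = ⁅y⁻¹, x⁻¹⁆ := by
        rw [commutatorElement_def]; group
      have hcZ : y⁻¹ * x⁻¹ * y * x ∈ Subgroup.zpowers z := by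
        rw [hc]
        exact (hinv y ⟨hyQ, hyp, hyc⟩).2.2 _ (Q.inv_mem hxQ)
      have h1 := Cfsg.Agent.Helper66.mul_pow_class_two x y _ rfl
        (hcen _ hcZ x hxQ) (hcen _ hcZ y hyQ) p
      rw [h1, hxp, hyp, one_mul, one_mul]
      obtain ⟨m, hm⟩ := Cfsg.Agent.Helper66.dvd_tri_of_odd_prime p hp.out hp2
      rw [hm, pow_mul, pow_eq_one_of_mem_zpowers hzp hcZ, one_pow]
    · intro q hq
      rw [Soft.comm_mul_left]
      have h1 : x * ⁅y, q⁆ * x⁻¹ = ⁅y, q⁆ := by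
        rw [← hcen _ (hyc q hq) x hxQ, mul_inv_cancel_right]
      rw [h1]
      exact Subgroup.mul_mem _ (hyc q hq) (hxc q hq)
  case i =>
    intro x hx
    exact hinv x hx

end tzero

section counting
variable {X : Type*} [Group X]

/-- centralizer within `Q` -/
def cIn (Q S : Subgroup X) : Subgroup X := Q ⊓ Subgroup.centralizer (S : Set X)

theorem mem_cIn {Q S : Subgroup X} {x : X} :
    x ∈ cIn Q S ↔ x ∈ Q ∧ ∀ s ∈ S, s * x = x * s := by
  unfold cIn
  rw [Subgroup.mem_inf, Subgroup.mem_centralizer_iff]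
  rfl

theorem cIn_le (Q S : Subgroup X) : cIn Q S ≤ Q := inf_le_left

variable [Finite X] {p : ℕ} [hp : Fact p.Prime]

omit hp in
/-- one step of the index estimate -/
theorem card_cIn_step {Q Z : Subgroup X} (hZ : Nat.card Z = p)
    (hZc : ∀ g ∈ Z, ∀ q ∈ Q, g * q = q * g) (S' : Subgroup X) {t : X}
    (ht : ∀ q ∈ Q, ⁅t, q⁆ ∈ Z) :
    Nat.card (cIn Q S') ≤ p * Nat.card (cIn Q (S' ⊔ Subgroup.zpowers t)) := by
  let φ : ↥(cIn Q S') →* ↥Z :=
    { toFun := fun q => ⟨⁅t, (q : X)⁆, ht q (mem_cIn.mp q.2).1⟩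
      map_one' := by
        apply Subtype.ext
        simp [commutatorElement_def]
      map_mul' := by
        intro q q'
        apply Subtype.ext
        show ⁅t, (q : X) * (q' : X)⁆ = ⁅t, (q : X)⁆ * ⁅t, (q' : X)⁆
        rw [comm_mul_right']
        have hq := (mem_cIn.mp q.2).1
        have := hZc _ (ht q' (mem_cIn.mp q'.2).1) q hq
        rw [← this, mul_inv_cancel_right] }
  have h1 : Nat.card φ.ker * Nat.card φ.range = Nat.card (cIn Q S') := by
    rw [← Subgroup.index_ker]; exact Subgroup.card_mul_index _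
  have h2 : Nat.card φ.range ≤ p := by rw [← hZ]; exact Subgroup.card_le_card_group _
  have h3 : Nat.card φ.ker ≤ Nat.card (cIn Q (S' ⊔ Subgroup.zpowers t)) := by
    have hle : φ.ker.map (cIn Q S').subtype ≤ cIn Q (S' ⊔ Subgroup.zpowers t) := by
      rintro _ ⟨q, hq, rfl⟩
      have hq1 : φ q = 1 := hq
      have hq2 : ⁅t, (q : X)⁆ = 1 := by
        have := congrArg Subtype.val hq1
        exact this
      obtain ⟨hqQ, hqS⟩ := mem_cIn.mp q.2
      rw [mem_cIn]
      refine ⟨hqQ, ?_⟩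
      have hsup : S' ⊔ Subgroup.zpowers t ≤ Subgroup.centralizer {(q : X)} := by
        apply sup_le
        · intro s hs
          rw [Subgroup.mem_centralizer_singleton_iff]
          exact hqS s hs
        · rw [Subgroup.zpowers_le, Subgroup.mem_centralizer_singleton_iff]
          exact comm_eq_one_iff.mp hq2
      intro s hs
      have := hsup hs
      rw [Subgroup.mem_centralizer_singleton_iff] at this
      exact this
    calc Nat.card φ.ker = Nat.card (φ.ker.map (cIn Q S').subtype) :=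
          (Subgroup.card_map_of_injective (Subgroup.subtype_injective _)).symm
      _ ≤ _ := Subgroup.card_le_of_le hle
  calc Nat.card (cIn Q S') = Nat.card φ.ker * Nat.card φ.range := h1.symm
    _ ≤ Nat.card (cIn Q (S' ⊔ Subgroup.zpowers t)) * p := Nat.mul_le_mul h3 h2
    _ = p * Nat.card (cIn Q (S' ⊔ Subgroup.zpowers t)) := mul_comm _ _

theorem card_mul_le_card_cIn {Q Z T : Subgroup X} (hT : IsPGroup p T) (hZ : Nat.card Z = p)
    (hZc : ∀ g ∈ Z, ∀ q ∈ Q, g * q = q * g) (hTc : ∀ t ∈ T, ∀ q ∈ Q, ⁅t, q⁆ ∈ Z) :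
    ∀ n : ℕ, ∀ S : Subgroup X, Nat.card S = n → Z ≤ S → S ≤ T →
      Nat.card Q * Nat.card Z ≤ Nat.card S * Nat.card (cIn Q S) := by
  intro n
  induction n using Nat.strong_induction_on with
  | _ n IH =>
  intro S hn hZS hST
  by_cases hSZ : S = Z
  · have hc : cIn Q S = Q := by
      apply le_antisymm (cIn_le _ _)
      intro q hq
      rw [mem_cIn]
      refine ⟨hq, ?_⟩
      intro s hs
      rw [hSZ] at hs
      exact hZc s hs q hq
    rw [hc, hSZ, mul_comm]
  · have hlt : Z < S := lt_of_le_of_ne hZS (Ne.symm hSZ)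
    obtain ⟨S', ⟨hZS', hS'S⟩, hmax⟩ := (wellFounded_gt (α := Subgroup X)).has_min
      {S' | Z ≤ S' ∧ S' < S} ⟨Z, le_refl _, hlt⟩
    obtain ⟨t, htS, htS'⟩ := SetLike.exists_of_lt hS'S
    have hsup : S' ⊔ Subgroup.zpowers t = S := by
      by_contra hne
      have h1 : S' ⊔ Subgroup.zpowers t ≤ S := sup_le hS'S.le (by rwa [Subgroup.zpowers_le])
      have h2 : S' ⊔ Subgroup.zpowers t < S := lt_of_le_of_ne h1 hne
      have h3 : S' < S' ⊔ Subgroup.zpowers t := by
        refine lt_of_le_of_ne le_sup_left (fun he => htS' ?_)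
        rw [he]
        exact le_sup_right (a := S') (Subgroup.mem_zpowers t)
      exact hmax _ ⟨hZS'.trans le_sup_left, h2⟩ h3
    have hcard : Nat.card S' < Nat.card S := by
      by_contra hcon
      push Not at hcon
      exact hS'S.ne (Subgroup.eq_of_le_of_card_ge hS'S.le hcon)
    have ih := IH _ (hn ▸ hcard) S' rfl hZS' (hS'S.le.trans hST)
    have hstep := card_cIn_step hZ hZc S' (hTc t (hST htS))
    rw [hsup] at hstep
    have hp_le : p * Nat.card S' ≤ Nat.card S := by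
      obtain ⟨k, hk⟩ := Subgroup.card_dvd_of_le hS'S.le
      obtain ⟨m, hm⟩ := IsPGroup.iff_card.mp (hT.to_le hST)
      have hkd : k ∣ p ^ m := by rw [← hm, hk]; exact Dvd.intro_left _ rfl
      obtain ⟨j, -, hj⟩ := (Nat.dvd_prime_pow hp.out).mp hkd
      have hj0 : j ≠ 0 := by
        intro h0
        rw [h0, pow_zero] at hj
        rw [hj, mul_one] at hk
        omega
      have : p ≤ k := by rw [hj]; exact Nat.le_self_pow hj0 p
      rw [hk, mul_comm]
      exact Nat.mul_le_mul_left _ this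
    calc Nat.card Q * Nat.card Z ≤ Nat.card S' * Nat.card (cIn Q S') := ih
      _ ≤ Nat.card S' * (p * Nat.card (cIn Q S)) := Nat.mul_le_mul_left _ hstep
      _ = (p * Nat.card S') * Nat.card (cIn Q S) := by ring
      _ ≤ Nat.card S * Nat.card (cIn Q S) := Nat.mul_le_mul_right _ hp_le

/-- `Q = T · C_Q(T)` when `[T, Q] ≤ Z = Z(T)`, `|Z| = p`. -/
theorem exists_mul_cIn {Q Z T : Subgroup X} (hT : IsPGroup p T) (hZ : Nat.card Z = p)
    (hZc : ∀ g ∈ Z, ∀ q ∈ Q, g * q = q * g) (hTc : ∀ t ∈ T, ∀ q ∈ Q, ⁅t, q⁆ ∈ Z)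
    (hZT : Z ≤ T) (hTQ : T ≤ Q)
    (hcen : ∀ x ∈ T, (∀ y ∈ T, x * y = y * x) → x ∈ Z) :
    ∀ q ∈ Q, ∃ t ∈ T, ∃ c ∈ cIn Q T, q = t * c := by
  set C := cIn Q T with hC
  have h1 := card_mul_le_card_cIn hT hZ hZc hTc _ T rfl hZT (le_refl _)
  have hinf : C ⊓ T ≤ Z := by
    rintro x ⟨hxC, hxT⟩
    apply hcen x hxT
    intro y hy
    exact ((mem_cIn.mp hxC).2 y hy).symm
  have e1 : Nat.card C * C.relIndex (T ⊔ C) = Nat.card (T ⊔ C : Subgroup X) := by
    have := Subgroup.relIndex_mul_relIndex ⊥ C (T ⊔ C) bot_le le_sup_right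
    rwa [Subgroup.relIndex_bot_left, Subgroup.relIndex_bot_left] at this
  have e2 : Nat.card (C ⊓ T : Subgroup X) * C.relIndex T = Nat.card T := by
    have := Subgroup.relIndex_mul_relIndex ⊥ (C ⊓ T) T bot_le inf_le_right
    rwa [Subgroup.relIndex_bot_left, Subgroup.relIndex_bot_left,
      Subgroup.inf_relIndex_right] at this
  have e3 : C.relIndex T ≤ C.relIndex (T ⊔ C) :=
    Subgroup.relIndex_le_of_le_right le_sup_left Subgroup.index_ne_zero_of_finite
  have e4 : Nat.card (C ⊓ T : Subgroup X) ≤ Nat.card Z := Subgroup.card_le_of_le hinf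
  have hpos : 0 < Nat.card Z := Nat.card_pos
  have hge : Nat.card Q ≤ Nat.card (T ⊔ C : Subgroup X) := by
    have : Nat.card Q * Nat.card Z ≤ Nat.card (T ⊔ C : Subgroup X) * Nat.card Z := by
      calc Nat.card Q * Nat.card Z ≤ Nat.card T * Nat.card C := h1
        _ = Nat.card (C ⊓ T : Subgroup X) * C.relIndex T * Nat.card C := by rw [e2]
        _ ≤ Nat.card Z * C.relIndex (T ⊔ C) * Nat.card C :=
            Nat.mul_le_mul_right _ (Nat.mul_le_mul e4 e3)
        _ = Nat.card (T ⊔ C : Subgroup X) * Nat.card Z := by rw [← e1]; ring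
    exact Nat.le_of_mul_le_mul_right this hpos
  have hle : T ⊔ C ≤ Q := sup_le hTQ (cIn_le _ _)
  have heq : T ⊔ C = Q := Subgroup.eq_of_le_of_card_ge hle hge
  -- the product subgroup
  let TC : Subgroup X :=
    { carrier := {x | ∃ t ∈ T, ∃ c ∈ C, x = t * c}
      one_mem' := ⟨1, T.one_mem, 1, C.one_mem, (mul_one 1).symm⟩
      mul_mem' := by
        rintro _ _ ⟨t, ht, c, hc, rfl⟩ ⟨t', ht', c', hc', rfl⟩
        refine ⟨t * t', T.mul_mem ht ht', c * c', C.mul_mem hc hc', ?_⟩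
        have := (mem_cIn.mp hc).2 t' ht'
        calc t * c * (t' * c') = t * (c * t') * c' := by group
          _ = t * (t' * c) * c' := by rw [this]
          _ = t * t' * (c * c') := by group
      inv_mem' := by
        rintro _ ⟨t, ht, c, hc, rfl⟩
        refine ⟨t⁻¹, T.inv_mem ht, c⁻¹, C.inv_mem hc, ?_⟩
        have := (mem_cIn.mp (C.inv_mem hc)).2 t⁻¹ (T.inv_mem ht)
        rw [mul_inv_rev, this] }
  have hTC : T ⊔ C ≤ TC := by
    apply sup_le
    · intro t ht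
      exact ⟨t, ht, 1, C.one_mem, (mul_one t).symm⟩
    · intro c hc
      exact ⟨1, T.one_mem, c, hc, (one_mul c).symm⟩
  intro q hq
  rw [← heq] at hq
  exact hTC hq

end counting

end Cfsg.Agent.Helper53.BS
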