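import Mathlib
import Cfsg.Agent.Lib.Helper53.BS7
import Cfsg.Agent.Lib.Helper55.Dedekind
import Cfsg.Agent.S0636

/-!
P. Hall-type theorem: in a `p`-group `Q` (`p` odd) all of whose `Γ`-invariant commutative
subgroups are cyclic, the elements of order `p` have all their commutators with `Q` in
`Ω₁(Z(Q))`.
-/

set_option autoImplicit false
open scoped commutatorElement

namespace Cfsg.Agent.Helper53.BS

open Cfsg.Agent.Helper53.Soft

variable {X : Type*} [Group X] [Finite X] {p : ℕ} [hp : Fact p.Prime]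

theorem mem_zpowers_of_isCyclic_subgroup {B : Subgroup X} (hB : IsCyclic B) {z x : X}
    (hz : z ∈ B) (hx : x ∈ B) (hzo : orderOf z = p) (hxp : x ^ p = 1) :
    x ∈ Subgroup.zpowers z := by
  have h := Cfsg.Agent.Helper55.Dedekind.mem_zpowers_of_pow_eq_one (C := B) hp.out.pos
    ⟨x, hx⟩ ⟨z, hz⟩ (by rw [← hzo]; exact Subgroup.orderOf_mk z hz)
    (Subtype.ext (by simpa using hxp))
  obtain ⟨k, hk⟩ := h
  refine ⟨k, ?_⟩
  have := congrArg Subtype.val hk
  simpa using this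

/-- basic facts on the subgroup `T₀` -/
theorem T0_facts (Γ : Subgroup X) {Q : Subgroup X} (hQinv : GInv Γ Q) (hcyc : CycHyp Γ Q)
    {z : X} (hzQ : z ∈ Q) (hzc : ∀ q ∈ Q, z * q = q * z) (hzo : orderOf z = p)
    {T : Subgroup X}
    (hT : ∀ x, x ∈ T ↔ (x ∈ Q ∧ x ^ p = 1 ∧ ∀ q ∈ Q, ⁅x, q⁆ ∈ Subgroup.zpowers z)) :
    Subgroup.zpowers z ≤ T ∧ GInv Γ (Subgroup.zpowers z) ∧ GInv Γ T ∧
      (∀ a ∈ T, (∀ b ∈ T, a * b = b * a) → a ∈ Subgroup.zpowers z) := by
  have hzp : z ^ p = 1 := by rw [← hzo]; exact pow_orderOf_eq_one z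
  have hTQ : T ≤ Q := fun t ht => ((hT t).mp ht).1
  have hZT : Subgroup.zpowers z ≤ T := by
    rw [Subgroup.zpowers_le, hT]
    refine ⟨hzQ, hzp, ?_⟩
    intro q hq
    rw [comm_eq_one_iff.mpr (hzc q hq)]; exact Subgroup.one_mem _
  have hzT : z ∈ T := hZT (Subgroup.mem_zpowers z)
  have hZinv : GInv Γ (Subgroup.zpowers z) := by
    have hcenQ : GInv Γ (cIn Q Q) := hQinv.inf hQinv.centralizer
    have hcenC : IsCyclic (cIn Q Q) := hcyc _ (cIn_le _ _) hcenQ (by
      intro a ha b hb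
      exact (mem_cIn.mp hb).2 a (mem_cIn.mp ha).1)
    have hz' : z ∈ cIn Q Q := mem_cIn.mpr ⟨hzQ, fun s hs => (hzc s hs).symm⟩
    intro γ hγ g hg
    obtain ⟨k, rfl⟩ := hg
    have h1 : γ * z * γ⁻¹ ∈ cIn Q Q := hcenQ γ hγ z hz'
    have h2 : (γ * z * γ⁻¹) ^ p = 1 := by rw [conj_pow, hzp, mul_one, mul_inv_cancel]
    have h3 := mem_zpowers_of_isCyclic_subgroup hcenC hz' h1 hzo h2
    have h4 : γ * z ^ k * γ⁻¹ = (γ * z * γ⁻¹) ^ k := conj_zpow.symm
    rw [h4]; exact Subgroup.zpow_mem _ h3 k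
  have hTinv : GInv Γ T := by
    intro γ hγ t ht
    obtain ⟨htQ, htp, htc⟩ := (hT t).mp ht
    rw [hT]
    refine ⟨hQinv γ hγ t htQ, by rw [conj_pow, htp, mul_one, mul_inv_cancel], ?_⟩
    intro q hq
    rw [Soft.comm_conj]
    have hq' : γ⁻¹ * q * γ ∈ Q := by
      have := hQinv γ⁻¹ (Γ.inv_mem hγ) q hq
      rwa [inv_inv] at this
    exact hZinv γ hγ _ (htc _ hq')
  refine ⟨hZT, hZinv, hTinv, ?_⟩
  intro a ha hab
  have hinv : GInv Γ (cIn T T) := hTinv.inf hTinv.centralizer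
  have hcyc' := hcyc (cIn T T) ((cIn_le _ _).trans hTQ) hinv (by
    intro a ha b hb
    exact (mem_cIn.mp hb).2 a (mem_cIn.mp ha).1)
  have hz' : z ∈ cIn T T := mem_cIn.mpr ⟨hzT, fun s hs => (hzc s (hTQ hs)).symm⟩
  have ha' : a ∈ cIn T T := mem_cIn.mpr ⟨ha, fun s hs => (hab s hs).symm⟩
  exact mem_zpowers_of_isCyclic_subgroup hcyc' hz' ha' hzo ((hT a).mp ha).2.1

theorem hall_omega (hp2 : p ≠ 2) (Γ : Subgroup X) :
    ∀ n : ℕ, ∀ Q : Subgroup X, Nat.card Q = n → IsPGroup p Q → Q ≤ Γ → GInv Γ Q →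
      CycHyp Γ Q → ∀ z ∈ Q, (∀ q ∈ Q, z * q = q * z) → orderOf z = p →
      ∀ x ∈ Q, x ^ p = 1 → ∀ q ∈ Q, ⁅x, q⁆ ∈ Subgroup.zpowers z := by
  intro n
  induction n using Nat.strong_induction_on with
  | _ n IH =>
  intro Q hn hQ hQΓ hQinv hcyc z hzQ hzc hzo x hxQ hxp q hqQ
  by_cases hcomm : ∀ a ∈ Q, ∀ b ∈ Q, a * b = b * a
  · have : ⁅x, q⁆ = 1 := comm_eq_one_iff.mpr (hcomm x hxQ q hqQ)
    rw [this]; exact Subgroup.one_mem _
  · have hzp : z ^ p = 1 := by rw [← hzo]; exact pow_orderOf_eq_one z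
    set Z := Subgroup.zpowers z with hZdef
    have hZcard : Nat.card Z = p := by rw [Nat.card_zpowers, hzo]
    have hZQ : Z ≤ Q := by rw [hZdef, Subgroup.zpowers_le]; exact hzQ
    have hZc := zpowers_central hzc
    obtain ⟨T, hT⟩ := exists_T0 hp2 Q hzQ hzc hzp
    have hTQ : T ≤ Q := fun t ht => ((hT t).mp ht).1
    obtain ⟨hZT, hZinv, hTinv, hcenT⟩ := T0_facts Γ hQinv hcyc hzQ hzc hzo hT
    have hzT : z ∈ T := hZT (Subgroup.mem_zpowers z)
    -- an element of `T` outside `Z`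
    have hex : ∃ m ∈ T, m ∉ Z := by
      have hQnc : ¬ IsCyclic (⊤ : Subgroup Q) := by
        intro h
        apply hcomm
        intro a ha b hb
        have hc : IsCyclic Q := (Subgroup.topEquiv : (⊤ : Subgroup Q) ≃* Q).isCyclic.mp h
        have := (IsCyclic.isMulCommutative (α := Q)).is_comm.comm ⟨a, ha⟩ ⟨b, hb⟩
        exact congrArg Subtype.val this
      have hQp : IsPGroup p Q := hQ
      obtain ⟨M, -, hMn, hMcomm, hMexp, hMcard⟩ :=
        Cfsg.Agent.S0636.main (R := Q) hp2 hQp ⊤ hQnc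
      let z' : Q := ⟨z, hzQ⟩
      have hz'c : ∀ y : Q, z' * y = y * z' := fun y => Subtype.ext (hzc y y.2)
      have hNn : (Subgroup.zpowers z').Normal := by
        refine ⟨fun g hg y => ?_⟩
        obtain ⟨k, rfl⟩ := hg
        have hcm : Commute y (z' ^ k) := Commute.zpow_right (hz'c y).symm k
        rw [hcm.eq, mul_inv_cancel_right]
        exact ⟨k, rfl⟩
      have hNcard : Nat.card (Subgroup.zpowers z') = p := by
        rw [Nat.card_zpowers, Subgroup.orderOf_mk, hzo]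
      have hMN : ¬ M ≤ Subgroup.zpowers z' := by
        intro hle
        have h1 := Subgroup.card_le_of_le hle
        rw [hMcard, hNcard] at h1
        have h2 := hp.out.two_le
        nlinarith
      obtain ⟨g, hgM, hgN, hgc⟩ := exists_central_mod hQp (Subgroup.zpowers z') M hMN
      refine ⟨(g : X), ?_, ?_⟩
      · rw [hT]
        refine ⟨g.2, ?_, ?_⟩
        · have := congrArg Subtype.val (hMexp g hgM)
          simpa using this
        · intro q hq
          obtain ⟨k, hk⟩ := hgc ⟨q, hq⟩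
          refine ⟨k, ?_⟩
          have h := congrArg Subtype.val hk
          simp only [commutatorElement_def, Subgroup.coe_mul, Subgroup.coe_inv,
            Subgroup.coe_zpow] at h
          simp only [commutatorElement_def]
          exact h
      · intro hgZ
        apply hgN
        obtain ⟨k, hk⟩ := hgZ
        refine ⟨k, Subtype.ext ?_⟩
        simpa using hk
    obtain ⟨m, hmT, hmZ⟩ := hex
    have hTp : IsPGroup p T := hQ.to_le hTQ
    -- `T` is not commutative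
    have hTnc : ¬ ∀ a ∈ T, ∀ b ∈ T, a * b = b * a := by
      intro hc
      have hTcyc := hcyc T hTQ hTinv hc
      exact hmZ (mem_zpowers_of_isCyclic_subgroup hTcyc hzT hmT hzo ((hT m).mp hmT).2.1)
    -- the centralizer of `T`
    set C := cIn Q T with hCdef
    have hCQ : C ≤ Q := cIn_le _ _
    have hCne : C ≠ Q := by
      intro he
      apply hTnc
      intro a ha b hb
      have : b ∈ C := by rw [he]; exact hTQ hb
      exact (mem_cIn.mp this).2 a ha
    have hCcard : Nat.card C < Nat.card Q := by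
      by_contra hcon
      push Not at hcon
      exact hCne (Subgroup.eq_of_le_of_card_ge hCQ hcon)
    have hCinv : GInv Γ C := hQinv.inf hTinv.centralizer
    have hzC : z ∈ C := mem_cIn.mpr ⟨hzQ, fun s hs => (hzc s (hTQ hs)).symm⟩
    have ih := IH _ (hn ▸ hCcard) C rfl (hQ.to_le hCQ) (hCQ.trans hQΓ) hCinv (hcyc.mono hCQ)
      z hzC (fun q hq => hzc q (hCQ hq)) hzo
    have hdec := exists_mul_cIn hTp hZcard hZc (fun t ht q hq => ((hT t).mp ht).2.2 q hq)
      hZT hTQ hcenT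
    have hCT : ∀ c ∈ C, c ^ p = 1 → c ∈ T := by
      intro c hc hcp
      rw [hT]
      refine ⟨hCQ hc, hcp, ?_⟩
      intro q' hq'
      obtain ⟨t', ht', c', hc', rfl⟩ := hdec q' hq'
      rw [comm_mul_right']
      have h1 : ⁅c, t'⁆ = 1 := comm_eq_one_iff.mpr ((mem_cIn.mp hc).2 t' ht').symm
      have h2 : ⁅c, c'⁆ ∈ Z := ih c hc hcp c' hc'
      have h3 : t' * ⁅c, c'⁆ * t'⁻¹ = ⁅c, c'⁆ := by
        rw [← hZc _ h2 t' (hTQ ht'), mul_inv_cancel_right]
      rw [h1, one_mul, h3]; exact h2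
    obtain ⟨t, ht, c, hc, rfl⟩ := hdec x hxQ
    have htc : Commute t c := (mem_cIn.mp hc).2 t ht
    have hcp : c ^ p = 1 := by
      have := htc.mul_pow p
      rw [hxp, ((hT t).mp ht).2.1, one_mul] at this
      exact this.symm
    have hxT : t * c ∈ T := T.mul_mem ht (hCT c hc hcp)
    exact ((hT _).mp hxT).2.2 q hqQ

end Cfsg.Agent.Helper53.BS
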