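import Mathlib
import Cfsg.Agent.Lib.Helper53.BS5
import Cfsg.Agent.Lib.Helper53.BS7b
import Cfsg.Agent.Lib.Helper24.NonCyclic

/-!
The primitive case of the solvable Baer-Suzuki claim: if all maximal-fixed-point subgroups of the
invariant commutative subgroups of `Q` are invariant, a regular orbit exists.
-/

set_option autoImplicit false
open scoped commutatorElement

namespace Cfsg.Agent.Helper53.BS

open Cfsg.Agent.Helper53.Soft

universe u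
variable {W : Type u} [CommGroup W] [Finite W] {p : ℕ} [hp : Fact p.Prime]

/-- irreducibility -/
def Irr (Γ : Subgroup (MulAut W)) : Prop :=
  ∀ U : Subgroup W, (∀ γ ∈ Γ, ∀ u ∈ U, γ u ∈ U) → U = ⊥ ∨ U = ⊤

omit [Finite W] in
theorem fix_invariant {Γ B : Subgroup (MulAut W)} (h : GInv Γ B) :
    ∀ γ ∈ Γ, ∀ u ∈ fix B, γ u ∈ fix B := by
  intro γ hγ u hu
  have := apply_mem_fix_cj (γ := γ) hu
  rwa [h.cj_eq hγ] at this

theorem fpf_of_primitive {Γ B : Subgroup (MulAut W)} (hirr : Irr Γ)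
    (hprim : ∀ B₀, IsMaxFix B B₀ → GInv Γ B₀) {b : MulAut W} (hb : b ∈ B) (hb1 : b ≠ 1) :
    fixOf b = ⊥ := by
  by_contra hne
  obtain ⟨B₀, ⟨hbB₀, hB₀B, hfix⟩, hmax⟩ :=
    (wellFounded_gt (α := Subgroup (MulAut W))).has_min
      {B₁ | Subgroup.zpowers b ≤ B₁ ∧ B₁ ≤ B ∧ fix B₁ ≠ ⊥}
      ⟨Subgroup.zpowers b, le_refl _, by rwa [Subgroup.zpowers_le], by rwa [fix_zpowers]⟩
  have hmf : IsMaxFix B B₀ := by
    refine ⟨hB₀B, hfix, ?_⟩
    intro B₁ hlt hle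
    by_contra hne1
    exact hmax B₁ ⟨hbB₀.trans hlt.le, hle, hne1⟩ hlt
  have hinv := hprim B₀ hmf
  rcases hirr (fix B₀) (fix_invariant hinv) with h | h
  · exact hfix h
  · have h0 := eq_bot_of_fix_eq_top h
    rw [h0] at hbB₀
    have : b ∈ (⊥ : Subgroup (MulAut W)) := hbB₀ (Subgroup.mem_zpowers b)
    exact hb1 (Subgroup.mem_bot.mp this)

theorem isCyclic_of_fpf (hcop : (Nat.card W).Coprime p) [Nontrivial W]
    {B : Subgroup (MulAut W)} (hB : IsPGroup p B)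
    (hcomm : ∀ x ∈ B, ∀ y ∈ B, x * y = y * x)
    (hfpf : ∀ b ∈ B, b ≠ 1 → fixOf b = ⊥) : IsCyclic B := by
  by_contra hnc
  have : IsMulCommutative B := ⟨⟨fun x y => Subtype.ext (hcomm x x.2 y y.2)⟩⟩
  obtain ⟨q, B₀, hq, hB₀B, hB₀q, hB₀card⟩ :=
    Cfsg.Agent.Helper24.exists_elementary_abelian_le_of_not_isCyclic B hnc
  have hne : B₀ ≠ ⊥ := by
    intro h
    rw [h, Subgroup.card_bot] at hB₀card
    have := hq.two_le
    nlinarith
  obtain ⟨⟨z, hz⟩, hz1⟩ := (Subgroup.ne_bot_iff_exists_ne_one).mp hne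
  have hz1' : z ≠ 1 := fun h => hz1 (Subtype.ext h)
  have : Fact q.Prime := ⟨hq⟩
  have hzo : orderOf z = q := orderOf_eq_prime (hB₀q z hz) hz1'
  have hqp : q = p := by
    obtain ⟨k, hk⟩ := (IsPGroup.iff_orderOf.mp hB) ⟨z, hB₀B hz⟩
    rw [Subgroup.orderOf_mk, hzo] at hk
    have hdvd : q ∣ p ^ k := by rw [← hk]
    exact (Nat.prime_dvd_prime_iff_eq hq hp.out).mp (hq.dvd_of_dvd_pow hdvd)
  subst hqp
  have hex : ∃ y ∈ B₀, y ∉ Subgroup.zpowers z := by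
    by_contra hcon
    push Not at hcon
    have hle : B₀ ≤ Subgroup.zpowers z := hcon
    have h1 := Subgroup.card_le_of_le hle
    rw [Nat.card_zpowers, hzo] at h1
    have h2 := hq.two_le
    nlinarith
  obtain ⟨y, hy, hyz⟩ := hex
  have hall : ∀ w : W, w = 1 := by
    intro w
    apply eq_one_of_pow_eq_one hcop
    have hyz' : y * z = z * y := hcomm y (hB₀B hy) z (hB₀B hz)
    rw [pow_eq_prod_nm hyz' hzo (hfpf z (hB₀B hz) hz1') w]
    apply Finset.prod_eq_one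
    intro j _
    have hmem : y * z ^ j ∈ B := B.mul_mem (hB₀B hy) (B.pow_mem (hB₀B hz) j)
    have hne1 : y * z ^ j ≠ 1 := by
      intro h
      apply hyz
      have : y = (z ^ j)⁻¹ := eq_inv_of_mul_eq_one_left h
      rw [this]
      exact Subgroup.inv_mem _ (Subgroup.pow_mem _ (Subgroup.mem_zpowers z) j)
    have hpow : (y * z ^ j) ^ q = 1 := by
      have hc : Commute y (z ^ j) := Commute.pow_right hyz' j
      rw [hc.mul_pow, hB₀q y hy, ← pow_mul, mul_comm, pow_mul, hB₀q z hz, one_pow, mul_one]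
    exact nm_eq_one_of_fpf hpow (hfpf _ hmem hne1) w
  obtain ⟨w, hw⟩ := exists_ne (1 : W)
  exact hw (hall w)

omit [Finite W] in
theorem exists_pow_orderOf_eq_prime {G : Type*} [Group G] {g : G}
    (hg : ∃ k, orderOf g = p ^ k) (hg1 : g ≠ 1) : ∃ m : ℕ, orderOf (g ^ m) = p := by
  obtain ⟨k, hk⟩ := hg
  have hk0 : k ≠ 0 := by
    intro h
    rw [h, pow_zero, orderOf_eq_one_iff] at hk
    exact hg1 hk
  obtain ⟨j, rfl⟩ := Nat.exists_eq_succ_of_ne_zero hk0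
  refine ⟨p ^ j, ?_⟩
  rw [orderOf_pow_of_dvd (pow_ne_zero _ hp.out.ne_zero)
    (by rw [hk]; exact pow_dvd_pow p (Nat.le_succ j)), hk, pow_succ]
  exact Nat.mul_div_cancel_left _ (pow_pos hp.out.pos j)

theorem claim_primitive (hp2 : p ≠ 2) (hcop : (Nat.card W).Coprime p)
    {Γ Q : Subgroup (MulAut W)} (hQΓ : Q ≤ Γ) (hQ : IsPGroup p Q) (hQinv : GInv Γ Q)
    (hirr : Irr Γ)
    (hprim : ∀ B B₀ : Subgroup (MulAut W), B ≤ Q → (∀ x ∈ B, ∀ y ∈ B, x * y = y * x) →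
      GInv Γ B → IsMaxFix B B₀ → GInv Γ B₀)
    {a : MulAut W} (haQ : a ∈ Q) (ha1 : a ≠ 1) : ∃ w : W, ∀ γ ∈ Γ, (γ * a * γ⁻¹) w ≠ w := by
  have hnt : Nontrivial W := by
    by_contra h
    rw [not_nontrivial_iff_subsingleton] at h
    apply ha1
    ext w
    exact Subsingleton.elim _ _
  have hfpf : ∀ B : Subgroup (MulAut W), B ≤ Q → (∀ x ∈ B, ∀ y ∈ B, x * y = y * x) →
      GInv Γ B → ∀ b ∈ B, b ≠ 1 → fixOf b = ⊥ := fun B hBQ hc hinv b hb hb1 =>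
    fpf_of_primitive hirr (fun B₀ hB₀ => hprim B B₀ hBQ hc hinv hB₀) hb hb1
  have hcyc : CycHyp Γ Q := fun B hBQ hinv hc =>
    isCyclic_of_fpf hcop (hQ.to_le hBQ) hc (hfpf B hBQ hc hinv)
  have hord : ∀ g ∈ Q, ∃ k, orderOf g = p ^ k := by
    intro g hg
    obtain ⟨k, hk⟩ := (IsPGroup.iff_orderOf.mp hQ) ⟨g, hg⟩
    exact ⟨k, by rw [← hk, Subgroup.orderOf_mk]⟩
  obtain ⟨m, hm⟩ := exists_pow_orderOf_eq_prime (hord a haQ) ha1
  set a₀ := a ^ m with ha₀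
  have ha₀Q : a₀ ∈ Q := Q.pow_mem haQ m
  have ha₀1 : a₀ ≠ 1 := by
    intro h
    rw [h, orderOf_one] at hm
    exact hp.out.one_lt.ne hm
  have ha₀p : a₀ ^ p = 1 := by rw [← hm]; exact pow_orderOf_eq_one _
  -- a central element of order `p`
  have hQne : Q ≠ ⊥ := fun h => ha1 (by rw [h] at haQ; exact Subgroup.mem_bot.mp haQ)
  obtain ⟨z₀, hz₀Q, hz₀1, hz₀c⟩ : ∃ z₀ ∈ Q, z₀ ≠ 1 ∧ ∀ q ∈ Q, z₀ * q = q * z₀ := by
    have hQp : IsPGroup p Q := hQ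
    have hnQ : Nontrivial Q := (Subgroup.nontrivial_iff_ne_bot Q).mpr hQne
    obtain ⟨z', -, hz'1, hz'c⟩ :=
      exists_ne_one_mem_center_of_normal' hQp (⊤ : Subgroup Q) top_ne_bot
    refine ⟨z', z'.2, fun h => hz'1 (Subtype.ext h), ?_⟩
    intro q hq
    rw [Subgroup.mem_center_iff] at hz'c
    have := hz'c ⟨q, hq⟩
    exact (congrArg Subtype.val this).symm
  obtain ⟨mz, hmz⟩ := exists_pow_orderOf_eq_prime (hord z₀ hz₀Q) hz₀1
  set z := z₀ ^ mz with hz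
  have hzQ : z ∈ Q := Q.pow_mem hz₀Q mz
  have hzc : ∀ q ∈ Q, z * q = q * z := fun q hq =>
    (Commute.pow_left (show Commute z₀ q from hz₀c q hq) mz).eq
  have hzp : z ^ p = 1 := by rw [← hmz]; exact pow_orderOf_eq_one _
  have hL2 := hall_omega hp2 Γ _ Q rfl hQ hQΓ hQinv hcyc z hzQ hzc hmz
  obtain ⟨T, hT⟩ := exists_T0 hp2 Q hzQ hzc hzp
  obtain ⟨hZT, hZinv, hTinv, hcenT⟩ := T0_facts Γ hQinv hcyc hzQ hzc hmz hT
  have hTQ : T ≤ Q := fun t ht => ((hT t).mp ht).1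
  have hZc := zpowers_central hzc
  have hZcomm : ∀ x ∈ Subgroup.zpowers z, ∀ y ∈ Subgroup.zpowers z, x * y = y * x :=
    fun x hx y hy => hZc x hx y (hTQ (hZT hy))
  have hRO : ROHyp p T (Subgroup.zpowers z) (⊤ : Subgroup W) := by
    refine ⟨⟨hZT, fun g hg y hy => hZc g hg y (hTQ hy),
      fun x hx y hy => ((hT x).mp hx).2.2 y (hTQ hy)⟩, ?_, ?_, hcenT, ?_, ?_, ?_⟩
    · rw [Nat.card_zpowers, hmz]
    · intro x hx; exact ((hT x).mp hx).2.1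
    · intro x _ u _; trivial
    · intro g hg hg1
      rw [inf_top_eq]
      exact hfpf _ (hZT.trans hTQ) hZcomm hZinv g hg hg1
    · exact top_ne_bot
  obtain ⟨u, -, hu⟩ := regular_orbit hp2 hcop _ T _ ⊤ rfl hRO
  refine ⟨u, ?_⟩
  intro γ hγ hfix
  have ha₀T : a₀ ∈ T := (hT a₀).mpr ⟨ha₀Q, ha₀p, fun q hq => hL2 a₀ ha₀Q ha₀p q hq⟩
  have h1 : γ * a₀ * γ⁻¹ ∈ T := hTinv γ hγ a₀ ha₀T
  have h2 : γ * a₀ * γ⁻¹ ≠ 1 := by
    intro h
    apply ha₀1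
    have h3 : a₀ = γ⁻¹ * (γ * a₀ * γ⁻¹) * γ := by group
    rw [h3, h]; group
  apply hu _ h1 h2
  have h3 : γ * a₀ * γ⁻¹ = (γ * a * γ⁻¹) ^ m := by rw [conj_pow]
  rw [h3]
  exact fixOf_le_fixOf_pow _ m hfix

end Cfsg.Agent.Helper53.BS
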