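import Mathlib
import Cfsg.Agent.Lib.Helper53.BS6
import Cfsg.Agent.Lib.Helper53.BS8a

/-!
The imprimitive case of the solvable Baer-Suzuki claim: blocks, the two subcases.
-/

set_option autoImplicit false
open scoped commutatorElement
open Pointwise

namespace Cfsg.Agent.Helper53.BS

open Cfsg.Agent.Helper53.Soft

universe u
variable {W : Type u} [CommGroup W]

/-- the claim for the module `W` -/
def ClaimFor (p : ℕ) (W : Type u) [CommGroup W] : Prop :=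
  ∀ (Γ Q : Subgroup (MulAut W)) (a : MulAut W), Q ≤ Γ → IsPGroup p Q → GInv Γ Q → a ∈ Q →
    a ≠ 1 → Irr Γ → ∃ w : W, ∀ γ ∈ Γ, (γ * a * γ⁻¹) w ≠ w

/-- the blocks -/
def blocks (Γ B₁ : Subgroup (MulAut W)) : Set (Subgroup (MulAut W)) :=
  {B' | ∃ γ ∈ Γ, B' = cj γ B₁}

theorem self_mem_blocks (Γ B₁ : Subgroup (MulAut W)) : B₁ ∈ blocks Γ B₁ :=
  ⟨1, Γ.one_mem, (cj_one _).symm⟩

theorem cj_mem_blocks {Γ B₁ B' : Subgroup (MulAut W)} (h : B' ∈ blocks Γ B₁) {γ : MulAut W}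
    (hγ : γ ∈ Γ) : cj γ B' ∈ blocks Γ B₁ := by
  obtain ⟨γ', hγ', rfl⟩ := h
  exact ⟨γ * γ', Γ.mul_mem hγ hγ', (cj_mul _ _ _).symm⟩

theorem card_of_mem_blocks {Γ B₁ B' : Subgroup (MulAut W)} (h : B' ∈ blocks Γ B₁) :
    Nat.card B' = Nat.card B₁ := by
  obtain ⟨γ, -, rfl⟩ := h
  exact card_cj _ _

theorem blocks_cj {Γ B₁ : Subgroup (MulAut W)} {γ₁ : MulAut W} (hγ₁ : γ₁ ∈ Γ) :
    blocks Γ (cj γ₁ B₁) = blocks Γ B₁ := by
  ext B'
  constructor
  · rintro ⟨γ, hγ, rfl⟩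
    exact ⟨γ * γ₁, Γ.mul_mem hγ hγ₁, (cj_mul _ _ _).symm⟩
  · rintro ⟨γ, hγ, rfl⟩
    refine ⟨γ * γ₁⁻¹, Γ.mul_mem hγ (Γ.inv_mem hγ₁), ?_⟩
    rw [cj_mul, cj_inv_cj]

theorem closure_invariant {Γ : Subgroup (MulAut W)} {S : Set W}
    (h : ∀ γ ∈ Γ, ∀ w ∈ S, γ w ∈ S) :
    ∀ γ ∈ Γ, ∀ u ∈ Subgroup.closure S, γ u ∈ Subgroup.closure S := by
  intro γ hγ u hu
  have hle : Subgroup.closure S ≤ (Subgroup.closure S).comap γ.toMonoidHom := by
    rw [Subgroup.closure_le]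
    intro w hw
    exact Subgroup.subset_closure (h γ hγ w hw)
  exact hle hu

/-- restriction of automorphisms to an invariant subgroup -/
def restr (U : Subgroup W) (M : Subgroup (MulAut W)) (hM : ∀ γ ∈ M, ∀ u ∈ U, γ u ∈ U) :
    ↥M →* MulAut ↥U where
  toFun γ :=
    { toFun := fun u => ⟨(γ : MulAut W) u, hM γ γ.2 u u.2⟩
      invFun := fun u => ⟨(γ : MulAut W)⁻¹ u, hM _ (M.inv_mem γ.2) u u.2⟩
      left_inv := by
        intro u
        apply Subtype.ext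
        show (γ : MulAut W)⁻¹ ((γ : MulAut W) u) = u
        rw [MulAut.inv_apply_self]
      right_inv := by
        intro u
        apply Subtype.ext
        show (γ : MulAut W) ((γ : MulAut W)⁻¹ u) = u
        rw [MulAut.apply_inv_self]
      map_mul' := by
        intro u u'
        apply Subtype.ext
        show (γ : MulAut W) ((u : W) * (u' : W)) = (γ : MulAut W) u * (γ : MulAut W) u'
        rw [map_mul] }
  map_one' := by
    ext u
    rfl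
  map_mul' := by
    intro γ γ'
    ext u
    rfl

theorem restr_apply (U : Subgroup W) (M : Subgroup (MulAut W))
    (hM : ∀ γ ∈ M, ∀ u ∈ U, γ u ∈ U) (γ : M) (u : U) :
    ((restr U M hM γ u : U) : W) = (γ : MulAut W) u := rfl

variable [Finite W]

/-- the data of a system of blocks -/
structure BlkData (Γ B B₁ : Subgroup (MulAut W)) : Prop where
  comm : ∀ x ∈ B, ∀ y ∈ B, x * y = y * x
  inv : GInv Γ B
  max : IsMaxFix B B₁

theorem BlkData.isMaxFix {Γ B B₁ B' : Subgroup (MulAut W)} (h : BlkData Γ B B₁)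
    (hB' : B' ∈ blocks Γ B₁) : IsMaxFix B B' := by
  obtain ⟨γ, hγ, rfl⟩ := hB'
  exact h.max.cj (h.inv.cj_eq hγ)

theorem BlkData.conj {Γ B B₁ B' : Subgroup (MulAut W)} (h : BlkData Γ B B₁)
    (hB' : B' ∈ blocks Γ B₁) : BlkData Γ B B' :=
  ⟨h.comm, h.inv, h.isMaxFix hB'⟩

theorem tr_block_eq_one {Γ B B₁ : Subgroup (MulAut W)} (h : BlkData Γ B B₁)
    {B' B'' : Subgroup (MulAut W)} (hB' : B' ∈ blocks Γ B₁) (hB'' : B'' ∈ blocks Γ B₁)
    (hne : B'' ≠ B') {u : W} (hu : u ∈ fix B'') : tr B' u = 1 :=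
  tr_eq_one_of_ne h.comm (h.isMaxFix hB').1 (h.isMaxFix hB'')
    (by rw [card_of_mem_blocks hB', card_of_mem_blocks hB'']) (Ne.symm hne) hu

theorem tr_prod_blocks_mem {Γ B B₁ : Subgroup (MulAut W)} (h : BlkData Γ B B₁)
    (J : Finset (Subgroup (MulAut W))) (hJ : ∀ B'' ∈ J, B'' ∈ blocks Γ B₁)
    (f : Subgroup (MulAut W) → W) (hf : ∀ B'' ∈ J, f B'' ∈ fix B'')
    {B' : Subgroup (MulAut W)} (hB' : B' ∈ blocks Γ B₁) (hmem : B' ∈ J) :
    tr B' (∏ B'' ∈ J, f B'') = (f B') ^ Nat.card B₁ := by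
  rw [tr_prod, Finset.prod_eq_single_of_mem B' hmem
    (fun B'' hB'' hne => tr_block_eq_one h hB' (hJ B'' hB'') hne (hf B'' hB'')),
    tr_of_mem_fix (hf B' hmem), card_of_mem_blocks hB']

theorem tr_prod_blocks_not_mem {Γ B B₁ : Subgroup (MulAut W)} (h : BlkData Γ B B₁)
    (J : Finset (Subgroup (MulAut W))) (hJ : ∀ B'' ∈ J, B'' ∈ blocks Γ B₁)
    (f : Subgroup (MulAut W) → W) (hf : ∀ B'' ∈ J, f B'' ∈ fix B'')
    {B' : Subgroup (MulAut W)} (hB' : B' ∈ blocks Γ B₁) (hmem : B' ∉ J) :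
    tr B' (∏ B'' ∈ J, f B'') = 1 := by
  rw [tr_prod]
  apply Finset.prod_eq_one
  intro B'' hB''
  exact tr_block_eq_one h hB' (hJ B'' hB'') (fun he => hmem (he ▸ hB'')) (hf B'' hB'')

end Cfsg.Agent.Helper53.BS
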