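import Mathlib
import Cfsg.Agent.Lib.Helper53.BS8b

/-!
The imprimitive case, first subcase: the element `a` moves a block.
-/

set_option autoImplicit false
open scoped commutatorElement
open Pointwise

namespace Cfsg.Agent.Helper53.BS

open Cfsg.Agent.Helper53.Soft

universe u
variable {W : Type u} [CommGroup W] [Finite W] {p : ℕ} [hp : Fact p.Prime]

theorem claim_case_i (hp2 : p ≠ 2) {Γ Q B B₁ : Subgroup (MulAut W)} (h : BlkData Γ B B₁)
    (hN : (Nat.card W).Coprime (Nat.card B₁)) (hQΓ : Q ≤ Γ) (hQ : IsPGroup p Q)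
    (hQinv : GInv Γ Q) {a : MulAut W} (haQ : a ∈ Q)
    (hmove : ∃ B' ∈ blocks Γ B₁, cj a B' ≠ B') :
    ∃ w : W, ∀ γ ∈ Γ, (γ * a * γ⁻¹) w ≠ w := by
  classical
  let act : MulAction ↥Q (Subgroup (MulAut W)) :=
    MulAction.compHom (Subgroup (MulAut W))
      ((MulAut.conj : MulAut W →* MulAut (MulAut W)).comp Q.subtype)
  have hact : ∀ (x : Q) (H : Subgroup (MulAut W)), x • H = cj (x : MulAut W) H :=
    fun x H => rfl
  have hS : ∀ x ∈ (⊤ : Subgroup Q), ∀ ω ∈ blocks Γ B₁, x • ω ∈ blocks Γ B₁ := by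
    intro x _ ω hω
    rw [hact]
    exact cj_mem_blocks hω (hQΓ x.2)
  have hQp : IsPGroup p Q := hQ
  obtain ⟨J, hJS, hJ⟩ :=
    exists_subset_stabilizer_le_kernel hp2 hQp (⊤ : Subgroup Q) (blocks Γ B₁) hS
  have hchoice : ∀ B' : Subgroup (MulAut W), ∃ u : W,
      B' ∈ blocks Γ B₁ → (u ∈ fix B' ∧ u ≠ 1) := by
    intro B'
    by_cases hB' : B' ∈ blocks Γ B₁
    · have hne := (h.isMaxFix hB').2.1
      obtain ⟨⟨u, hu⟩, hu1⟩ := (Subgroup.ne_bot_iff_exists_ne_one).mp hne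
      exact ⟨u, fun _ => ⟨hu, fun he => hu1 (Subtype.ext he)⟩⟩
    · exact ⟨1, fun hc => absurd hc hB'⟩
  choose f hf using hchoice
  set Jf : Finset (Subgroup (MulAut W)) := (Set.toFinite J).toFinset with hJf
  have hJf_mem : ∀ B', B' ∈ Jf ↔ B' ∈ J := fun B' => Set.Finite.mem_toFinset _
  have hJfb : ∀ B'' ∈ Jf, B'' ∈ blocks Γ B₁ := fun B'' hB'' => hJS ((hJf_mem _).mp hB'')
  have hff : ∀ B'' ∈ Jf, f B'' ∈ fix B'' := fun B'' hB'' => (hf B'' (hJfb B'' hB'')).1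
  refine ⟨∏ B'' ∈ Jf, f B'', ?_⟩
  intro γ hγ hfix
  set a' := γ * a * γ⁻¹ with ha'
  have ha'Q : a' ∈ Q := hQinv γ hγ a haQ
  have hmap : ∀ ω ∈ J, (⟨a', ha'Q⟩ : Q) • ω ∈ J := by
    intro ω hω
    rw [hact]
    show cj a' ω ∈ J
    have hωb : ω ∈ blocks Γ B₁ := hJS hω
    have hωJf : ω ∈ Jf := (hJf_mem _).mpr hω
    have hb'' : cj a' ω ∈ blocks Γ B₁ := cj_mem_blocks hωb (hQΓ ha'Q)
    by_contra hnot
    have hnotJf : cj a' ω ∉ Jf := fun hc => hnot ((hJf_mem _).mp hc)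
    have h1 := apply_tr_cj a' ω (∏ B'' ∈ Jf, f B'')
    rw [hfix, tr_prod_blocks_mem h Jf hJfb f hff hωb hωJf,
      tr_prod_blocks_not_mem h Jf hJfb f hff hb'' hnotJf] at h1
    have h2 : (f ω) ^ Nat.card B₁ = 1 := by
      have : a' ((f ω) ^ Nat.card B₁) = a' 1 := by rw [h1, map_one]
      exact a'.injective this
    exact (hf ω hωb).2 (eq_one_of_pow_eq_one hN h2)
  have hall := hJ ⟨a', ha'Q⟩ (Subgroup.mem_top _) hmap
  obtain ⟨B', hB', hne⟩ := hmove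
  apply hne
  have h3 := hall (cj γ B') (cj_mem_blocks hB' hγ)
  rw [hact] at h3
  have h4 : cj a' (cj γ B') = cj γ (cj a B') := by
    rw [← cj_mul, ← cj_mul]
    congr 1
    rw [ha']; group
  have h5 : cj γ (cj a B') = cj γ B' := by rw [← h4]; exact h3
  have := congrArg (cj γ⁻¹) h5
  rwa [cj_inv_cj, cj_inv_cj] at this

end Cfsg.Agent.Helper53.BS
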