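import Mathlib
import Cfsg.Agent.Lib.Helper53.BS8b

/-!
The imprimitive case, second subcase: the element `a` normalizes a block and acts nontrivially
on its fixed points; induction.
-/

set_option autoImplicit false
open scoped commutatorElement
open Pointwise

namespace Cfsg.Agent.Helper53.BS

open Cfsg.Agent.Helper53.Soft

universe u
variable {W : Type u} [CommGroup W] [Finite W] {p : ℕ} [hp : Fact p.Prime]

omit hp in
theorem claim_case_ii {Γ Q B B₁ : Subgroup (MulAut W)} (h : BlkData Γ B B₁)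
    (hN : (Nat.card W).Coprime (Nat.card B₁)) (hcop : (Nat.card W).Coprime p) (hirr : Irr Γ)
    (hB₁ne : B₁ ≠ ⊥) (hQΓ : Q ≤ Γ) (hQ : IsPGroup p Q) (hQinv : GInv Γ Q) {a : MulAut W}
    (haQ : a ∈ Q) (hnorm : cj a B₁ = B₁) (hnt : ∃ u ∈ fix B₁, a u ≠ u)
    (IH : ∀ (W₁ : Type u) [CommGroup W₁] [Finite W₁], Nat.card W₁ < Nat.card W →
      (Nat.card W₁).Coprime p → ClaimFor p W₁) :
    ∃ w : W, ∀ γ ∈ Γ, (γ * a * γ⁻¹) w ≠ w := by
  classical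
  set W₁ : Subgroup W := fix B₁ with hW₁
  set M₁ : Subgroup (MulAut W) := Γ ⊓ Subgroup.normalizer (B₁ : Set (MulAut W)) with hM₁
  have hmemM₁ : ∀ {γ : MulAut W}, γ ∈ M₁ ↔ γ ∈ Γ ∧ cj γ B₁ = B₁ := by
    intro γ
    rw [hM₁, Subgroup.mem_inf, cj_eq_self_iff]
  have hM₁W : ∀ γ ∈ M₁, ∀ u ∈ W₁, γ u ∈ W₁ := by
    intro γ hγ u hu
    have := apply_mem_fix_cj (γ := γ) hu
    rwa [(hmemM₁.mp hγ).2] at this
  set ρ := restr W₁ M₁ hM₁W with hρ
  have haM₁ : a ∈ M₁ := hmemM₁.mpr ⟨hQΓ haQ, hnorm⟩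
  set Γ₁ : Subgroup (MulAut ↥W₁) := ρ.range with hΓ₁
  set Q₁ : Subgroup (MulAut ↥W₁) := (Q.subgroupOf M₁).map ρ with hQ₁
  set a₁ : MulAut ↥W₁ := ρ ⟨a, haM₁⟩ with ha₁
  have hQ₁Γ₁ : Q₁ ≤ Γ₁ := by
    rintro _ ⟨x, -, rfl⟩
    exact ⟨x, rfl⟩
  have hQ₁p : IsPGroup p Q₁ := (hQ.comap_subtype).map ρ
  have hQ₁inv : GInv Γ₁ Q₁ := by
    rintro _ ⟨m, rfl⟩ _ ⟨x, hx, rfl⟩
    refine ⟨m * x * m⁻¹, ?_, by rw [map_mul, map_mul, map_inv]⟩
    rw [SetLike.mem_coe, Subgroup.mem_subgroupOf] at hx ⊢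
    have := hQinv (m : MulAut W) (hmemM₁.mp m.2).1 _ hx
    simpa using this
  have ha₁Q₁ : a₁ ∈ Q₁ :=
    ⟨⟨a, haM₁⟩, by rw [SetLike.mem_coe, Subgroup.mem_subgroupOf]; exact haQ, rfl⟩
  have ha₁1 : a₁ ≠ 1 := by
    obtain ⟨u, hu, hau⟩ := hnt
    intro he
    apply hau
    have h1 : ((a₁ ⟨u, hu⟩ : ↥W₁) : W) = u := by rw [he]; rfl
    exact h1
  have hirr₁ : Irr Γ₁ := by
    intro U₁ hU₁
    by_cases hU₁b : U₁ = ⊥
    · exact Or.inl hU₁b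
    · right
      set U' : Subgroup W := U₁.map W₁.subtype with hU'
      have hU'W₁ : U' ≤ W₁ := by
        rintro _ ⟨u, -, rfl⟩
        exact u.2
      have hU'mem : ∀ {w : W} (hw : w ∈ W₁), w ∈ U' → (⟨w, hw⟩ : W₁) ∈ U₁ := by
        intro w hw hwU
        obtain ⟨u, hu, hu'⟩ := hwU
        have : u = ⟨w, hw⟩ := Subtype.ext hu'
        rwa [← this]
      have hU'inv : ∀ γ ∈ M₁, ∀ u ∈ U', γ u ∈ U' := by
        intro γ hγ u hu
        obtain ⟨u₁, hu₁, rfl⟩ := hu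
        have := hU₁ (ρ ⟨γ, hγ⟩) ⟨⟨γ, hγ⟩, rfl⟩ u₁ hu₁
        exact ⟨_, this, rfl⟩
      set S : Set W := {x | ∃ γ ∈ Γ, ∃ u ∈ U', x = γ u} with hS
      have hSinv : ∀ γ ∈ Γ, ∀ w ∈ S, γ w ∈ S := by
        rintro γ hγ _ ⟨γ', hγ', u, hu, rfl⟩
        exact ⟨γ * γ', Γ.mul_mem hγ hγ', u, hu, rfl⟩
      have hUS : U' ≤ Subgroup.closure S := by
        intro u hu
        exact Subgroup.subset_closure ⟨1, Γ.one_mem, u, hu, rfl⟩
      have hclne : Subgroup.closure S ≠ ⊥ := by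
        intro hb
        apply hU₁b
        rw [eq_bot_iff]
        intro u hu
        have : (u : W) ∈ Subgroup.closure S := hUS ⟨u, hu, rfl⟩
        rw [hb, Subgroup.mem_bot] at this
        rw [Subgroup.mem_bot]
        exact Subtype.ext this
      have hcltop : Subgroup.closure S = ⊤ := by
        rcases hirr _ (closure_invariant hSinv) with h1 | h1
        · exact absurd h1 hclne
        · exact h1
      have hP : ∀ x ∈ Subgroup.closure S, tr B₁ x ∈ U' := by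
        intro x hx
        induction hx using Subgroup.closure_induction with
        | mem x hx =>
          obtain ⟨γ, hγ, u, hu, rfl⟩ := hx
          by_cases hγB : cj γ B₁ = B₁
          · have hγM : γ ∈ M₁ := hmemM₁.mpr ⟨hγ, hγB⟩
            have h1 : γ u ∈ U' := hU'inv γ hγM u hu
            rw [tr_of_mem_fix (hU'W₁ h1)]
            exact U'.pow_mem h1 _
          · have h1 : γ u ∈ fix (cj γ B₁) := apply_mem_fix_cj (hU'W₁ hu)
            rw [tr_block_eq_one h (self_mem_blocks Γ B₁) ⟨γ, hγ, rfl⟩ hγB h1]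
            exact U'.one_mem
        | one => rw [tr_one]; exact U'.one_mem
        | mul x y _ _ hx hy => rw [tr_mul]; exact U'.mul_mem hx hy
        | inv x _ hx =>
          have : tr B₁ x⁻¹ = (tr B₁ x)⁻¹ := map_inv (trHom B₁) x
          rw [this]; exact U'.inv_mem hx
      rw [eq_top_iff]
      intro w _
      have hw : (w : W) ∈ Subgroup.closure S := by rw [hcltop]; trivial
      have h1 := hP _ hw
      rw [tr_of_mem_fix w.2] at h1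
      have h2 : (w : W) ∈ U' := mem_of_pow_mem hN U' h1
      exact hU'mem w.2 h2
  have hW₁top : W₁ ≠ ⊤ := fun ht => hB₁ne (eq_bot_of_fix_eq_top ht)
  have hcard : Nat.card ↥W₁ < Nat.card W := by
    by_contra hcon
    push Not at hcon
    exact hW₁top (Subgroup.eq_top_of_le_card W₁ hcon)
  have hcop₁ : (Nat.card ↥W₁).Coprime p :=
    Nat.Coprime.coprime_dvd_left (Subgroup.card_subgroup_dvd_card W₁) hcop
  obtain ⟨u₁, hu₁⟩ := IH ↥W₁ hcard hcop₁ Γ₁ Q₁ a₁ hQ₁Γ₁ hQ₁p hQ₁inv ha₁Q₁ ha₁1 hirr₁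
  have hchoice : ∀ B' : Subgroup (MulAut W), ∃ m : MulAut W,
      B' ∈ blocks Γ B₁ → (m ∈ Γ ∧ B' = cj m B₁) := by
    intro B'
    by_cases hB' : B' ∈ blocks Γ B₁
    · obtain ⟨m, hm, he⟩ := hB'
      exact ⟨m, fun _ => ⟨hm, he⟩⟩
    · exact ⟨1, fun hc => absurd hc hB'⟩
  choose mm hmm using hchoice
  set f : Subgroup (MulAut W) → W := fun B' => mm B' (u₁ : W) with hf
  set Jf : Finset (Subgroup (MulAut W)) := (Set.toFinite (blocks Γ B₁)).toFinset with hJf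
  have hJf_mem : ∀ B', B' ∈ Jf ↔ B' ∈ blocks Γ B₁ := fun B' => Set.Finite.mem_toFinset _
  have hJfb : ∀ B'' ∈ Jf, B'' ∈ blocks Γ B₁ := fun B'' hB'' => (hJf_mem _).mp hB''
  have hff : ∀ B'' ∈ Jf, f B'' ∈ fix B'' := by
    intro B'' hB''
    obtain ⟨hm, he⟩ := hmm B'' (hJfb B'' hB'')
    have h1 : mm B'' (u₁ : W) ∈ fix (cj (mm B'') B₁) := apply_mem_fix_cj u₁.2
    rw [← he] at h1
    exact h1
  refine ⟨∏ B'' ∈ Jf, f B'', ?_⟩
  intro x hx hfix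
  set a' := x * a * x⁻¹ with ha'
  set B' := cj x B₁ with hB'def
  have hB' : B' ∈ blocks Γ B₁ := ⟨x, hx, rfl⟩
  have hB'Jf : B' ∈ Jf := (hJf_mem _).mpr hB'
  have hnormB' : cj a' B' = B' := by
    rw [hB'def, ← cj_mul]
    have : a' * x = x * a := by rw [ha']; group
    rw [this, cj_mul, hnorm]
  have h1 := apply_tr_cj a' B' (∏ B'' ∈ Jf, f B'')
  rw [hnormB', hfix, tr_prod_blocks_mem h Jf hJfb f hff hB' hB'Jf, map_pow] at h1
  have h2 : a' (f B') = f B' := eq_of_pow_eq hN h1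
  obtain ⟨hm, he⟩ := hmm B' hB'
  set m := mm B' with hmdef
  have hgM : m⁻¹ * x ∈ M₁ := by
    rw [hmemM₁]
    refine ⟨Γ.mul_mem (Γ.inv_mem hm) hx, ?_⟩
    rw [cj_mul, ← hB'def, he, cj_inv_cj]
  have h3 : ((m⁻¹ * x) * a * (m⁻¹ * x)⁻¹) (u₁ : W) = u₁ := by
    have : (m⁻¹ * x) * a * (m⁻¹ * x)⁻¹ = m⁻¹ * a' * m := by rw [ha']; group
    rw [this]
    simp only [MulAut.mul_apply]
    rw [inv_apply_eq_iff]
    exact h2
  apply hu₁ (ρ ⟨m⁻¹ * x, hgM⟩) ⟨_, rfl⟩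
  apply Subtype.ext
  have h4 : ρ ⟨m⁻¹ * x, hgM⟩ * a₁ * (ρ ⟨m⁻¹ * x, hgM⟩)⁻¹ =
      ρ (⟨m⁻¹ * x, hgM⟩ * ⟨a, haM₁⟩ * ⟨m⁻¹ * x, hgM⟩⁻¹) := by
    rw [map_mul, map_mul, map_inv]
  rw [h4, restr_apply]
  exact h3

end Cfsg.Agent.Helper53.BS
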