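import Mathlib
import Cfsg.Agent.Lib.Helper53.BS8c
import Cfsg.Agent.Lib.Helper53.BS8d

/-!
The solvable Baer-Suzuki claim: a `p`-element `a` (`p` odd) of a normal `p`-subgroup `Q` of a
group `Γ` of automorphisms acting irreducibly and coprimely on `W` has a vector moved by all
`Γ`-conjugates of `a`.
-/

set_option autoImplicit false
open scoped commutatorElement
open Pointwise

namespace Cfsg.Agent.Helper53.BS

open Cfsg.Agent.Helper53.Soft

universe u
variable {p : ℕ} [hp : Fact p.Prime]

theorem claim (hp2 : p ≠ 2) : ∀ n : ℕ, ∀ (W : Type u) [CommGroup W] [Finite W],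
    Nat.card W = n → (Nat.card W).Coprime p → ClaimFor p W := by
  intro n
  induction n using Nat.strong_induction_on with
  | _ n IH =>
  intro W _ _ hn hcop Γ Q a hQΓ hQ hQinv haQ ha1 hirr
  by_cases hprim : ∀ B B₀ : Subgroup (MulAut W), B ≤ Q →
      (∀ x ∈ B, ∀ y ∈ B, x * y = y * x) → GInv Γ B → IsMaxFix B B₀ → GInv Γ B₀
  · exact claim_primitive hp2 hcop hQΓ hQ hQinv hirr hprim haQ ha1
  · push Not at hprim
    obtain ⟨B, B₀, hBQ, hcomm, hBinv, hmax, hninv⟩ := hprim
    have hdata : BlkData Γ B B₀ := ⟨hcomm, hBinv, hmax⟩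
    have IH' : ∀ (W₁ : Type u) [CommGroup W₁] [Finite W₁], Nat.card W₁ < Nat.card W →
        (Nat.card W₁).Coprime p → ClaimFor p W₁ :=
      fun W₁ _ _ hlt hc => IH _ (hn ▸ hlt) W₁ rfl hc
    have hNcop : ∀ B' ∈ blocks Γ B₀, (Nat.card W).Coprime (Nat.card B') := by
      intro B' hB'
      have hB'Q : B' ≤ Q := (hdata.isMaxFix hB').1.trans hBQ
      obtain ⟨k, hk⟩ := IsPGroup.iff_card.mp (hQ.to_le hB'Q)
      rw [hk]
      exact Nat.Coprime.pow_right k hcop
    have hB₀ne : B₀ ≠ ⊥ := by
      intro hb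
      apply hninv
      rw [hb]
      intro γ _ x hx
      rw [Subgroup.mem_bot] at hx ⊢
      rw [hx]; group
    by_cases hmove : ∃ B' ∈ blocks Γ B₀, cj a B' ≠ B'
    · exact claim_case_i hp2 hdata (hNcop B₀ (self_mem_blocks Γ B₀)) hQΓ hQ hQinv haQ hmove
    · push Not at hmove
      have hex : ∃ B₁ ∈ blocks Γ B₀, ∃ u ∈ fix B₁, a u ≠ u := by
        by_contra hcon
        push Not at hcon
        set S : Set W := {w | ∃ B' ∈ blocks Γ B₀, w ∈ fix B'} with hS
        have hSinv : ∀ γ ∈ Γ, ∀ w ∈ S, γ w ∈ S := by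
          rintro γ hγ w ⟨B', hB', hw⟩
          exact ⟨cj γ B', cj_mem_blocks hB' hγ, apply_mem_fix_cj hw⟩
        have hne : Subgroup.closure S ≠ ⊥ := by
          intro hb
          apply hmax.2.1
          rw [eq_bot_iff]
          intro w hw
          have : w ∈ Subgroup.closure S :=
            Subgroup.subset_closure ⟨B₀, self_mem_blocks Γ B₀, hw⟩
          rwa [hb] at this
        have htop : Subgroup.closure S = ⊤ := by
          rcases hirr _ (closure_invariant hSinv) with h1 | h1
          · exact absurd h1 hne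
          · exact h1
        have hle : Subgroup.closure S ≤ fixOf a := by
          rw [Subgroup.closure_le]
          rintro w ⟨B', hB', hw⟩
          exact hcon B' hB' w hw
        rw [htop, top_le_iff] at hle
        exact ha1 (eq_one_of_fixOf_eq_top hle)
      obtain ⟨B₁, hB₁, hnt⟩ := hex
      have hdata₁ : BlkData Γ B B₁ := hdata.conj hB₁
      have hB₁ne : B₁ ≠ ⊥ := by
        intro hb
        apply hB₀ne
        have := card_of_mem_blocks hB₁
        rw [hb, Subgroup.card_bot] at this
        exact Subgroup.card_eq_one.mp this.symm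
      exact claim_case_ii hdata₁ (hNcop B₁ hB₁) hcop hirr hB₁ne hQΓ hQ hQinv haQ
        (hmove B₁ hB₁) hnt IH'

end Cfsg.Agent.Helper53.BS
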