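import Mathlib
import Cfsg.Agent.Lib.Helper53.BS8e
import Cfsg.Agent.Lib.Helper9.PrimitiveSolvable
import Cfsg.Agent.Lib.Helper22.Radical

/-!
Solvable Baer-Suzuki type theorem (odd `p`): group theoretic reduction to the module claim.
-/

set_option autoImplicit false
open scoped commutatorElement
open Pointwise

namespace Cfsg.Agent.Helper53.BS

open Cfsg.Agent.Helper53.Soft

section basics
variable {G : Type*} [Group G]

theorem map_cj {H : Type*} [Group H] (f : G →* H) (g : G) (A : Subgroup G) :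
    (cj g A).map f = cj (f g) (A.map f) := by
  ext y
  constructor
  · rintro ⟨x, hx, rfl⟩
    rw [mem_cj]
    rw [SetLike.mem_coe, mem_cj] at hx
    refine ⟨_, hx, ?_⟩
    simp
  · intro hy
    rw [mem_cj] at hy
    obtain ⟨a₀, ha₀, he⟩ := hy
    refine ⟨g * a₀ * g⁻¹, conj_mem_cj ha₀, ?_⟩
    rw [map_mul, map_mul, he, map_inv]
    group

/-- the hypothesis, in `p`-group form -/
def BSHyp (p : ℕ) (A : Subgroup G) : Prop :=
  ∀ c : G, ∃ g : G, IsConj c g ∧ IsPGroup p ↥(A ⊔ cj g A)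

theorem BSHyp.map {p : ℕ} {A : Subgroup G} (h : BSHyp p A) {H : Type*} [Group H] (f : G →* H)
    (hf : Function.Surjective f) : BSHyp p (A.map f) := by
  intro c
  obtain ⟨c₀, rfl⟩ := hf c
  obtain ⟨g, hcg, hpg⟩ := h c₀
  refine ⟨f g, f.map_isConj hcg, ?_⟩
  rw [← map_cj, ← Subgroup.map_sup]
  exact hpg.map f

theorem exists_minNormal' [Finite G] [Nontrivial G] :
    ∃ N : Subgroup G, N.Normal ∧ N ≠ ⊥ ∧
      ∀ K : Subgroup G, K.Normal → K ≤ N → K = ⊥ ∨ K = N := by
  obtain ⟨N, ⟨hNn, hNne⟩, hmin⟩ := (wellFounded_lt (α := Subgroup G)).has_min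
    {N | N.Normal ∧ N ≠ ⊥} ⟨⊤, inferInstance, top_ne_bot⟩
  refine ⟨N, hNn, hNne, ?_⟩
  intro K hK hKN
  by_cases hKb : K = ⊥
  · exact Or.inl hKb
  · right
    by_contra hne
    exact hmin K ⟨hK, hKb⟩ (lt_of_le_of_ne hKN hne)

/-- subnormal in the join gives a `p`-group -/
theorem isPGroup_sup_of_subnormal [Finite G] {p : ℕ} [Fact p.Prime] {A A' : Subgroup G}
    (hA : IsPGroup p A) (hA' : IsPGroup p A')
    (hsn : (A.subgroupOf (A ⊔ A')).IsSubnormal) : IsPGroup p ↥(A ⊔ A') := by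
  set H : Subgroup G := A ⊔ A' with hH
  have hAH : A ≤ H := le_sup_left
  have hA'H : A' ≤ H := le_sup_right
  have h1 : A.subgroupOf H ≤ Cfsg.pCore p ↥H :=
    Cfsg.Agent.Helper22.subnormal_isPGroup_le_pCore hsn
      (hA.comap_of_injective H.subtype H.subtype_injective)
  have hO : IsPGroup p (Cfsg.pCore p ↥H) := Cfsg.Agent.Helper22.isPGroup_pCore p
  have hOn : (Cfsg.pCore p ↥H).Normal := Subgroup.sSup_normal _ (fun _ h => h.1)
  have hA'p : IsPGroup p (A'.subgroupOf H) :=
    hA'.comap_of_injective H.subtype H.subtype_injective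
  have hsup : IsPGroup p ↥(A'.subgroupOf H ⊔ Cfsg.pCore p ↥H) :=
    IsPGroup.to_sup_of_normal_right hA'p hO
  have htop : A'.subgroupOf H ⊔ Cfsg.pCore p ↥H = ⊤ := by
    rw [eq_top_iff]
    intro x _
    have hx : (x : G) ∈ (A'.subgroupOf H ⊔ Cfsg.pCore p ↥H).map H.subtype := by
      have hle : H ≤ (A'.subgroupOf H ⊔ Cfsg.pCore p ↥H).map H.subtype := by
        rw [hH]
        apply sup_le
        · calc A = (A.subgroupOf H).map H.subtype :=
                (Subgroup.map_subgroupOf_eq_of_le hAH).symm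
            _ ≤ _ := Subgroup.map_mono (h1.trans le_sup_right)
        · calc A' = (A'.subgroupOf H).map H.subtype :=
                (Subgroup.map_subgroupOf_eq_of_le hA'H).symm
            _ ≤ _ := Subgroup.map_mono le_sup_left
      exact hle x.2
    obtain ⟨y, hy, hyx⟩ := hx
    have : y = x := Subtype.ext hyx
    rwa [← this]
  intro x
  obtain ⟨k, hk⟩ := hsup ⟨x, by rw [htop]; trivial⟩
  refine ⟨k, ?_⟩
  have := congrArg Subtype.val hk
  simpa using this

theorem pCore_normal53 (p : ℕ) (G : Type*) [Group G] : (Cfsg.pCore p G).Normal :=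
  Subgroup.sSup_normal _ (fun _ h => h.1)

end basics

section main
universe u
variable {G : Type u} [Group G] [Finite G] {p : ℕ} [hp : Fact p.Prime]

/-- the order of an abelian normal subgroup is prime to `p` when `O_p(G) = 1` -/
theorem coprime_card_of_core_bot (hO : Cfsg.pCore p G = ⊥) {N : Subgroup G} (hNn : N.Normal)
    (hcomm : ∀ a ∈ N, ∀ b ∈ N, a * b = b * a) : (Nat.card N).Coprime p := by
  rw [Nat.coprime_comm, Nat.Prime.coprime_iff_not_dvd hp.out]
  intro hdvd
  obtain ⟨x, hx⟩ := exists_prime_orderOf_dvd_card' (G := N) p hdvd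
  let Np : Subgroup G :=
    { carrier := {y | y ∈ N ∧ ∃ k : ℕ, y ^ p ^ k = 1}
      one_mem' := ⟨N.one_mem, 0, by simp⟩
      mul_mem' := by
        rintro y y' ⟨hy, k, hk⟩ ⟨hy', k', hk'⟩
        refine ⟨N.mul_mem hy hy', k + k', ?_⟩
        have hc : Commute y y' := hcomm y hy y' hy'
        rw [hc.mul_pow, pow_add, pow_mul, hk, one_pow, mul_comm (p ^ k) (p ^ k'), pow_mul, hk',
          one_pow, mul_one]
      inv_mem' := by
        rintro y ⟨hy, k, hk⟩
        exact ⟨N.inv_mem hy, k, by rw [inv_pow, hk, inv_one]⟩ }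
  have hNpn : Np.Normal := ⟨by
    rintro y ⟨hy, k, hk⟩ g
    exact ⟨hNn.conj_mem y hy g, k, by rw [conj_pow, hk, mul_one, mul_inv_cancel]⟩⟩
  have hNpp : IsPGroup p Np := by
    rintro ⟨y, hy, k, hk⟩
    exact ⟨k, Subtype.ext hk⟩
  have hle := Cfsg.Agent.Helper22.le_pCore hNpn hNpp
  rw [hO] at hle
  have hxp : (x : G) ^ p = 1 := by
    have h1 : x ^ p = 1 := by rw [← hx]; exact pow_orderOf_eq_one x
    have := congrArg Subtype.val h1
    simpa using this
  have hxNp : (x : G) ∈ Np := ⟨x.2, 1, by rw [pow_one]; exact hxp⟩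
  have hx1 : x = 1 := Subtype.ext (Subgroup.mem_bot.mp (hle hxNp))
  rw [hx1, orderOf_one] at hx
  exact hp.out.one_lt.ne hx

/-- the case `O_p(G) = 1` -/
theorem eq_bot_of_core_bot [hsol : Group.IsSolvable G] (hp2 : p ≠ 2)
    (hO : Cfsg.pCore p G = ⊥) {A : Subgroup G} (hA : IsPGroup p A) (hyp : BSHyp p A)
    (IH : ∀ (N : Subgroup G) [N.Normal], N ≠ ⊥ →
      A.map (QuotientGroup.mk' N) ≤ Cfsg.pCore p (G ⧸ N)) : A = ⊥ := by
  by_contra hAne
  obtain ⟨⟨a, haA⟩, ha1⟩ := (Subgroup.ne_bot_iff_exists_ne_one).mp hAne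
  have ha1' : a ≠ 1 := fun h => ha1 (Subtype.ext h)
  have hGnt : Nontrivial G := ⟨⟨a, 1, ha1'⟩⟩
  obtain ⟨N, hNn, hNne, hmin⟩ := exists_minNormal' (G := G)
  have hcomm := Cfsg.Agent.Helper9.minNormal_comm N hNne hmin
  have hcopN : (Nat.card N).Coprime p := coprime_card_of_core_bot hO hNn hcomm
  have hIH := IH N hNne
  set K : Subgroup G := (Cfsg.pCore p (G ⧸ N)).comap (QuotientGroup.mk' N) with hK
  have hKn : K.Normal := Subgroup.Normal.comap (pCore_normal53 p (G ⧸ N)) _
  have hAK : A ≤ K := fun x hx => hIH (Subgroup.mem_map_of_mem _ hx)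
  obtain ⟨P, hAP⟩ :=
    (hA.comap_of_injective K.subtype K.subtype_injective).exists_le_sylow
  set P' : Subgroup G := (P : Subgroup K).map K.subtype with hP'
  have hP'p : IsPGroup p P' := P.2.map _
  have hAP' : A ≤ P' := by
    intro x hx
    exact ⟨⟨x, hAK hx⟩, hAP (show (⟨x, hAK hx⟩ : K) ∈ A.subgroupOf K from hx), rfl⟩
  -- `K = N P'`
  have hKNP : K ≤ N ⊔ P' := by
    set NK : Subgroup K := N.subgroupOf K with hNK
    have hquot : IsPGroup p (K ⧸ NK) := by
      intro x
      induction x using QuotientGroup.induction_on with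
      | H x =>
        have hx : QuotientGroup.mk' N (x : G) ∈ Cfsg.pCore p (G ⧸ N) := x.2
        obtain ⟨k, hk⟩ := (Cfsg.Agent.Helper22.isPGroup_pCore (G := G ⧸ N) p) ⟨_, hx⟩
        refine ⟨k, ?_⟩
        have h1 : (QuotientGroup.mk' N (x : G)) ^ p ^ k = 1 := by
          simpa using congrArg Subtype.val hk
        rw [← map_pow, QuotientGroup.mk'_apply, QuotientGroup.eq_one_iff] at h1
        rw [← QuotientGroup.mk_pow, QuotientGroup.eq_one_iff, hNK, Subgroup.mem_subgroupOf]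
        simpa using h1
    obtain ⟨j, hj⟩ := IsPGroup.iff_card.mp hquot
    have hidx : NK.index = p ^ j := by rw [Subgroup.index_eq_card]; exact hj
    have h1 : (NK ⊔ (P : Subgroup K)).index ∣ p ^ j :=
      hidx ▸ Subgroup.index_dvd_of_le le_sup_left
    have h2 : (NK ⊔ (P : Subgroup K)).index ∣ (P : Subgroup K).index :=
      Subgroup.index_dvd_of_le le_sup_right
    have h3 : ¬ p ∣ (P : Subgroup K).index := P.not_dvd_index
    obtain ⟨i, -, hi⟩ := (Nat.dvd_prime_pow hp.out).mp h1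
    have hi0 : i = 0 := by
      by_contra hne
      apply h3
      exact dvd_trans (hi ▸ dvd_pow_self p hne) h2
    rw [hi0, pow_zero, Subgroup.index_eq_one] at hi
    intro x hx
    have hmem : (⟨x, hx⟩ : K) ∈ NK ⊔ (P : Subgroup K) := by rw [hi]; trivial
    have h4 : x ∈ (NK ⊔ (P : Subgroup K)).map K.subtype := ⟨_, hmem, rfl⟩
    rw [Subgroup.map_sup] at h4
    have hle : NK.map K.subtype ⊔ (P : Subgroup K).map K.subtype ≤ N ⊔ P' := by
      refine sup_le_sup ?_ le_rfl
      rintro _ ⟨y, hy, rfl⟩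
      exact hy
    exact hle h4
  -- Frattini
  have hfrat : Subgroup.normalizer (P' : Set G) ⊔ K = ⊤ := Sylow.normalizer_sup_eq_top P
  set L : Subgroup G := Subgroup.normalizer (P' : Set G) with hL
  have hLN : L ⊔ N = ⊤ := by
    rw [eq_top_iff, ← hfrat]
    apply sup_le le_sup_left
    calc K ≤ N ⊔ P' := hKNP
      _ ≤ L ⊔ N := sup_le le_sup_right (Subgroup.le_normalizer.trans le_sup_left)
  -- the module
  let _ : CommGroup ↥N :=
    { (inferInstance : Group ↥N) with
      mul_comm := fun x y => Subtype.ext (hcomm x x.2 y y.2) }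
  set θ : G →* MulAut ↥N := MulAut.conjNormal with hθ
  have hθapp : ∀ (g : G) (n : N), ((θ g n : N) : G) = g * n * g⁻¹ :=
    fun g n => MulAut.conjNormal_apply g n
  have hθN : ∀ n ∈ N, θ n = 1 := by
    intro n hn
    ext m
    rw [hθapp, MulAut.one_apply, hcomm n hn m m.2]
    group
  set Γ : Subgroup (MulAut ↥N) := L.map θ with hΓ
  set Q' : Subgroup (MulAut ↥N) := P'.map θ with hQ'
  set a' : MulAut ↥N := θ a with ha'
  have hθtop : ∀ g : G, θ g ∈ Γ := by
    intro g
    have hg : g ∈ L ⊔ N := by rw [hLN]; trivial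
    have h1 : θ g ∈ (L ⊔ N).map θ := Subgroup.mem_map_of_mem θ hg
    rw [Subgroup.map_sup] at h1
    have hNbot : N.map θ = ⊥ := by
      rw [eq_bot_iff]
      rintro _ ⟨n, hn, rfl⟩
      rw [Subgroup.mem_bot]
      exact hθN n hn
    rwa [hNbot, sup_bot_eq] at h1
  have hQ'Γ : Q' ≤ Γ := Subgroup.map_mono Subgroup.le_normalizer
  have hQ'p : IsPGroup p Q' := hP'p.map θ
  have hQ'inv : GInv Γ Q' := by
    rintro _ ⟨l, hl, rfl⟩ _ ⟨y, hy, rfl⟩
    refine ⟨l * y * l⁻¹, ?_, by rw [map_mul, map_mul, map_inv]⟩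
    exact (Subgroup.mem_normalizer_iff.mp hl y).mp hy
  have ha'Q' : a' ∈ Q' := Subgroup.mem_map_of_mem θ (hAP' haA)
  have ha'1 : a' ≠ 1 := by
    intro he
    set D : Subgroup G := P' ⊓ θ.ker with hD
    have hDc : ∀ d ∈ D, ∀ n ∈ N, n * d * n⁻¹ = d := by
      intro d hd n hn
      have h1 : θ d = 1 := hd.2
      have h2 := congrArg (fun f : MulAut ↥N => ((f ⟨n, hn⟩ : N) : G)) h1
      simp only [hθapp, MulAut.one_apply] at h2
      calc n * d * n⁻¹ = (d * n * d⁻¹) * d * n⁻¹ := by rw [h2]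
        _ = d := by group
    have hDn : D.Normal := by
      rw [← Subgroup.normalizer_eq_top_iff, eq_top_iff, ← hLN]
      apply sup_le
      · intro l hl
        rw [Subgroup.mem_normalizer_iff]
        intro x
        have hl' := Subgroup.mem_normalizer_iff.mp hl x
        constructor
        · rintro ⟨hx1, hx2⟩
          exact ⟨hl'.mp hx1, (inferInstance : θ.ker.Normal).conj_mem _ hx2 l⟩
        · rintro ⟨hx1, hx2⟩
          refine ⟨hl'.mpr hx1, ?_⟩
          have h3 : x = l⁻¹ * (l * x * l⁻¹) * l⁻¹⁻¹ := by group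
          rw [h3]
          exact (inferInstance : θ.ker.Normal).conj_mem _ hx2 l⁻¹
      · intro n hn
        rw [Subgroup.mem_normalizer_iff]
        intro x
        constructor
        · intro hx
          rw [hDc x hx n hn]; exact hx
        · intro hx
          have h1 := hDc _ hx n⁻¹ (N.inv_mem hn)
          have h2 : n⁻¹ * (n * x * n⁻¹) * n⁻¹⁻¹ = x := by group
          rw [h2] at h1
          rw [h1]; exact hx
    have hDp : IsPGroup p D := hP'p.to_le inf_le_left
    have hDO : D ≤ Cfsg.pCore p G := Cfsg.Agent.Helper22.le_pCore hDn hDp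
    rw [hO] at hDO
    have haD : a ∈ D := ⟨hAP' haA, he⟩
    exact ha1' (Subgroup.mem_bot.mp (hDO haD))
  have hirr : Irr Γ := by
    intro U hU
    set U' : Subgroup G := U.map N.subtype with hU'
    have hU'N : U' ≤ N := by
      rintro _ ⟨u, -, rfl⟩
      exact u.2
    have hU'n : U'.Normal := by
      rw [← Subgroup.normalizer_eq_top_iff, eq_top_iff, ← hLN]
      have key : ∀ l ∈ L, ∀ x ∈ U', l * x * l⁻¹ ∈ U' := by
        rintro l hl _ ⟨u, hu, rfl⟩
        have := hU (θ l) (Subgroup.mem_map_of_mem θ hl) u hu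
        exact ⟨_, this, hθapp l u⟩
      apply sup_le
      · intro l hl
        rw [Subgroup.mem_normalizer_iff]
        intro x
        constructor
        · exact key l hl x
        · intro hx
          have := key l⁻¹ (L.inv_mem hl) _ hx
          have h2 : l⁻¹ * (l * x * l⁻¹) * l⁻¹⁻¹ = x := by group
          rwa [h2] at this
      · intro n hn
        rw [Subgroup.mem_normalizer_iff]
        intro x
        constructor
        · intro hx
          have : n * x * n⁻¹ = x := by rw [hcomm n hn x (hU'N hx)]; group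
          rw [this]; exact hx
        · intro hx
          have hxN : x ∈ N := by
            have h2 : x = n⁻¹ * (n * x * n⁻¹) * n⁻¹⁻¹ := by group
            rw [h2]
            exact hNn.conj_mem _ (hU'N hx) n⁻¹
          have : n * x * n⁻¹ = x := by rw [hcomm n hn x hxN]; group
          rwa [this] at hx
    rcases hmin U' hU'n hU'N with h1 | h1
    · left
      rw [eq_bot_iff]
      intro u hu
      have : (u : G) ∈ U' := ⟨u, hu, rfl⟩
      rw [h1, Subgroup.mem_bot] at this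
      rw [Subgroup.mem_bot]
      exact Subtype.ext this
    · right
      rw [eq_top_iff]
      intro u _
      have : (u : G) ∈ U' := by rw [h1]; exact u.2
      obtain ⟨u', hu', he⟩ := this
      have : u' = u := Subtype.ext he
      rwa [← this]
  obtain ⟨w, hw⟩ := claim hp2 _ ↥N rfl hcopN Γ Q' a' hQ'Γ hQ'p hQ'inv ha'Q' ha'1 hirr
  obtain ⟨g, hcg, hpg⟩ := hyp (w : G)
  obtain ⟨h, hh⟩ := isConj_iff.mp hcg
  have hgN : g ∈ N := by rw [← hh]; exact hNn.conj_mem _ w.2 h
  have hcomm1 : g * a = a * g := by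
    have hc1 : ⁅g, a⁆ ∈ A ⊔ cj g A := by
      rw [commutatorElement_def]
      exact Subgroup.mul_mem _
        (le_sup_right (a := A) (conj_mem_cj haA) : g * a * g⁻¹ ∈ A ⊔ cj g A)
        (le_sup_left (b := cj g A) (A.inv_mem haA))
    have hc2 : ⁅g, a⁆ ∈ N := by
      rw [commutatorElement_def]
      have : g * a * g⁻¹ * a⁻¹ = g * (a * g⁻¹ * a⁻¹) := by group
      rw [this]
      exact N.mul_mem hgN (hNn.conj_mem _ (N.inv_mem hgN) a)
    obtain ⟨k, hk⟩ := hpg ⟨_, hc1⟩
    have hk' : ⁅g, a⁆ ^ p ^ k = 1 := by simpa using congrArg Subtype.val hk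
    have hone : ⁅g, a⁆ = 1 := by
      have h1 : orderOf ⁅g, a⁆ ∣ p ^ k := orderOf_dvd_of_pow_eq_one hk'
      have h2 : orderOf ⁅g, a⁆ ∣ Nat.card N := by
        have := orderOf_dvd_natCard (⟨_, hc2⟩ : N)
        rwa [Subgroup.orderOf_mk] at this
      have h3 : (orderOf ⁅g, a⁆).Coprime (p ^ k) :=
        Nat.Coprime.coprime_dvd_left h2 (hcopN.pow_right k)
      exact orderOf_eq_one_iff.mp (Nat.Coprime.eq_one_of_dvd h3 h1)
    exact comm_eq_one_iff.mp hone
  apply hw (θ h⁻¹) (hθtop h⁻¹)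
  have h5 : θ h⁻¹ * a' * (θ h⁻¹)⁻¹ = θ (h⁻¹ * a * h) := by
    rw [map_mul, map_mul, map_inv, inv_inv]
  rw [h5]
  apply Subtype.ext
  rw [hθapp]
  calc h⁻¹ * a * h * (w : G) * (h⁻¹ * a * h)⁻¹
      = h⁻¹ * (a * (h * (w : G) * h⁻¹)) * a⁻¹ * h := by group
    _ = h⁻¹ * (a * g) * a⁻¹ * h := by rw [hh]
    _ = h⁻¹ * (g * a) * a⁻¹ * h := by rw [hcomm1]
    _ = h⁻¹ * g * h := by group
    _ = h⁻¹ * (h * (w : G) * h⁻¹) * h := by rw [hh]
    _ = w := by group

end main

section induction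
universe u
variable {p : ℕ} [hp : Fact p.Prime]

theorem bs_main (hp2 : p ≠ 2) : ∀ n : ℕ, ∀ (G : Type u) [Group G] [Finite G], Nat.card G = n →
    Group.IsSolvable G → ∀ A : Subgroup G, IsPGroup p A → BSHyp p A →
      A ≤ Cfsg.pCore p G := by
  intro n
  induction n using Nat.strong_induction_on with
  | _ n IH =>
  intro G _ _ hn hsol A hA hyp
  have IHq : ∀ (N : Subgroup G) [N.Normal], N ≠ ⊥ →
      A.map (QuotientGroup.mk' N) ≤ Cfsg.pCore p (G ⧸ N) := by
    intro N _ hN
    have hcard : Nat.card (G ⧸ N) < n := by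
      rw [← hn, ← Subgroup.index_eq_card, ← Subgroup.card_mul_index N]
      have h1 : 1 < Nat.card N := (Subgroup.one_lt_card_iff_ne_bot N).mpr hN
      have h2 : 0 < N.index := Nat.pos_of_ne_zero Subgroup.index_ne_zero_of_finite
      nlinarith
    exact IH _ hcard (G ⧸ N) rfl inferInstance _ (hA.map _)
      (hyp.map _ (QuotientGroup.mk'_surjective N))
  by_cases hO : Cfsg.pCore p G = ⊥
  · rw [eq_bot_of_core_bot hp2 hO hA hyp IHq]
    exact bot_le
  · have hOn : (Cfsg.pCore p G).Normal := pCore_normal53 p G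
    have h1 := IHq (Cfsg.pCore p G) hO
    set K : Subgroup G :=
      (Cfsg.pCore p (G ⧸ Cfsg.pCore p G)).comap (QuotientGroup.mk' (Cfsg.pCore p G)) with hK
    have hKn : K.Normal := Subgroup.Normal.comap (pCore_normal53 p _) _
    have hKp : IsPGroup p K := by
      rintro ⟨x, hx⟩
      have hx' : QuotientGroup.mk' (Cfsg.pCore p G) x ∈ Cfsg.pCore p (G ⧸ Cfsg.pCore p G) := hx
      obtain ⟨k, hk⟩ :=
        (Cfsg.Agent.Helper22.isPGroup_pCore (G := G ⧸ Cfsg.pCore p G) p) ⟨_, hx'⟩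
      have hk' : (QuotientGroup.mk' (Cfsg.pCore p G) x) ^ p ^ k = 1 := by
        simpa using congrArg Subtype.val hk
      rw [← map_pow, QuotientGroup.mk'_apply, QuotientGroup.eq_one_iff] at hk'
      obtain ⟨j, hj⟩ := (Cfsg.Agent.Helper22.isPGroup_pCore (G := G) p) ⟨_, hk'⟩
      have hj' : (x ^ p ^ k) ^ p ^ j = 1 := by simpa using congrArg Subtype.val hj
      refine ⟨k + j, Subtype.ext ?_⟩
      show x ^ p ^ (k + j) = 1
      rw [pow_add, pow_mul]
      exact hj'
    have hAK : A ≤ K := fun x hx => h1 (Subgroup.mem_map_of_mem _ hx)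
    exact hAK.trans (Cfsg.Agent.Helper22.le_pCore hKn hKp)

end induction

end Cfsg.Agent.Helper53.BS
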