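import Mathlib
import Cfsg.Agent.Lib.Helper53.CD3ADefs
import Cfsg.Agent.Lib.Helper81.CharClifford
import Cfsg.Agent.Lib.Helper81.CharCorr
import Cfsg.Agent.Lib.Helper81.CharProd
import Cfsg.Agent.Lib.Helper81.CharDet
import Cfsg.Agent.Lib.Helper80.ConjIrr
import Cfsg.Agent.Lib.Helper79.CharBasic
import Cfsg.Agent.Lib.Helper81.CharSylInd

set_option autoImplicit false
set_option linter.style.haveILetI false

namespace Cfsg.Agent.Helper53.CD3A

open Cfsg Cfsg.Agent.Helper81
open scoped ComplexConjugate commutatorElement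

universe u

/-- value at one of an irreducible character of degree one -/
theorem h53_one_of_deg_one {G : Type u} [Group G] (χ : IrrCharacter G)
    (h : charDegree (χ : G → ℂ) = 1) : (χ : G → ℂ) 1 = 1 := by
  rw [(Cfsg.Agent.Helper79.irr_one_eq χ).1, h]; simp

/-- a linear character times an irreducible character is irreducible -/
theorem h53_lin_mul_irr {G : Type u} [Group G] [Fintype G] (lam σ : IrrCharacter G)
    (h : charDegree (lam : G → ℂ) = 1) :
    IsIrrCharacter G ((lam : G → ℂ) * (σ : G → ℂ)) := by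
  have h1 := h53_one_of_deg_one lam h
  have hc := IsIrrCharacter.isCharacter lam.2
  exact isIrrCharacter_hom_mul (linHom hc h1) σ.2

theorem h53_deg_mul {G : Type u} [Group G] (α β : IrrCharacter G) (γ : IrrCharacter G)
    (hγ : (γ : G → ℂ) = (α : G → ℂ) * (β : G → ℂ)) :
    charDegree (γ : G → ℂ) = charDegree (α : G → ℂ) * charDegree (β : G → ℂ) := by
  have h1 := (Cfsg.Agent.Helper79.irr_one_eq γ).1
  have h2 : (γ : G → ℂ) 1 = (α : G → ℂ) 1 * (β : G → ℂ) 1 := by rw [hγ]; rfl
  rw [h1, (Cfsg.Agent.Helper79.irr_one_eq α).1, (Cfsg.Agent.Helper79.irr_one_eq β).1] at h2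
  exact_mod_cast h2

/-- (CLO) closure of `LowType` under constituents of products. -/
theorem lowType_mul {G : Type u} [Group G] [Fintype G] [Fintype ↥(commutator G)] {m n : ℕ}
    (hm : 1 < m) (hmn : m < n) (hcd : DegIn G m n) (hMM : ProdMM G m) (hnop : NoNPart G m n)
    (φ φ' ξ : IrrCharacter ↥(commutator G)) (hφ : LowType G n φ) (hφ' : LowType G n φ')
    (hξ : classInner ((φ : ↥(commutator G) → ℂ) * (φ' : ↥(commutator G) → ℂ))
      (ξ : ↥(commutator G) → ℂ) ≠ 0) : LowType G n ξ := by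
  classical
  obtain ⟨χ, hχn, hχφ⟩ := hφ
  obtain ⟨χ', hχ'n, hχ'φ'⟩ := hφ'
  have hχc := IsIrrCharacter.isCharacter χ.2
  have hχ'c := IsIrrCharacter.isCharacter χ'.2
  have hφc := IsIrrCharacter.isCharacter φ.2
  have hφ'c := IsIrrCharacter.isCharacter φ'.2
  have hres := isCharacter_restrict (commutator G) hχc
  have hres' := isCharacter_restrict (commutator G) hχ'c
  obtain ⟨Δ, hΔ, hsplit⟩ := exists_add_of_classInner_ne_zero hres φ.2 hχφ
  obtain ⟨Δ', hΔ', hsplit'⟩ := exists_add_of_classInner_ne_zero hres' φ'.2 hχ'φ'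
  have hprod : (fun x : ↥(commutator G) => ((χ : G → ℂ) * (χ' : G → ℂ)) x) =
      (φ : ↥(commutator G) → ℂ) * (φ' : ↥(commutator G) → ℂ) +
        ((φ : ↥(commutator G) → ℂ) * Δ' + Δ * (φ' : ↥(commutator G) → ℂ) + Δ * Δ') := by
    have h0 : (fun x : ↥(commutator G) => ((χ : G → ℂ) * (χ' : G → ℂ)) x) =
        (fun x : ↥(commutator G) => (χ : G → ℂ) x) * (fun x : ↥(commutator G) => (χ' : G → ℂ) x) := rfl
    rw [h0, hsplit, hsplit']; ring
  have hrest : IsCharacter ↥(commutator G)
      ((φ : ↥(commutator G) → ℂ) * Δ' + Δ * (φ' : ↥(commutator G) → ℂ) + Δ * Δ') :=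
    isCharacter_add (isCharacter_add (isCharacter_mul hφc hΔ') (isCharacter_mul hΔ hφ'c))
      (isCharacter_mul hΔ hΔ')
  obtain ⟨k1, hk1⟩ := exists_nat_classInner (isCharacter_mul hφc hφ'c) ξ.2
  obtain ⟨k2, hk2⟩ := exists_nat_classInner hrest ξ.2
  have hk1' : k1 ≠ 0 := by
    intro h0; rw [hk1, h0] at hξ; exact hξ (by simp)
  have hne : classInner (fun x : ↥(commutator G) => ((χ : G → ℂ) * (χ' : G → ℂ)) x)
      (ξ : ↥(commutator G) → ℂ) ≠ 0 := by
    rw [hprod, classInner_add_left, hk1, hk2]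
    have : ((k1 + k2 : ℕ) : ℂ) ≠ 0 := by
      have : k1 + k2 ≠ 0 := by omega
      exact_mod_cast this
    simpa using this
  haveI : Fintype (IrrCharacter G) := @Fintype.ofFinite _ irr_finite
  obtain ⟨c, hc⟩ := exists_nat_decomp (isCharacter_mul hχc hχ'c)
  have hsum : (fun x : ↥(commutator G) => ((χ : G → ℂ) * (χ' : G → ℂ)) x) =
      ∑ σ : IrrCharacter G, (c σ : ℂ) • (fun x : ↥(commutator G) => (σ : G → ℂ) x) := by
    rw [hc]; ext x; simp [Finset.sum_apply]
  rw [hsum, classInner_sum_left] at hne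
  obtain ⟨σ, -, hσ⟩ := Finset.exists_ne_zero_of_sum_ne_zero hne
  rw [classInner_smul_left] at hσ
  have hcσ : (c σ : ℂ) ≠ 0 := left_ne_zero_of_mul hσ
  have hσξ := right_ne_zero_of_mul hσ
  have hσocc : classInner ((χ : G → ℂ) * (χ' : G → ℂ)) (σ : G → ℂ) ≠ 0 := by
    rw [hc, classInner_nat_decomp (fun χ' => (c χ' : ℂ)) σ]; exact hcσ
  refine ⟨σ, ?_, hσξ⟩
  intro hσn
  have hd : charDegree (χ : G → ℂ) = 1 ∨ charDegree (χ : G → ℂ) = m := by
    rcases hcd χ with h | h | h
    · exact Or.inl h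
    · exact Or.inr h
    · exact absurd h hχn
  have hd' : charDegree (χ' : G → ℂ) = 1 ∨ charDegree (χ' : G → ℂ) = m := by
    rcases hcd χ' with h | h | h
    · exact Or.inl h
    · exact Or.inr h
    · exact absurd h hχ'n
  rcases hd with h1 | h1
  · -- χ linear
    have hirr := h53_lin_mul_irr χ χ' h1
    have heq := eq_of_classInner_ne_zero hirr σ.2 hσocc
    have := h53_deg_mul χ χ' σ heq.symm
    rw [h1, one_mul] at this
    exact hχ'n (this ▸ hσn)
  · rcases hd' with h1' | h1'
    · have hirr := h53_lin_mul_irr χ' χ h1'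
      rw [mul_comm] at hirr
      have heq := eq_of_classInner_ne_zero hirr σ.2 hσocc
      have := h53_deg_mul χ χ' σ heq.symm
      rw [h1', mul_one] at this
      exact hχn (this ▸ hσn)
    · by_cases hex : ∃ lam : IrrCharacter G, charDegree (lam : G → ℂ) = 1 ∧
          (χ' : G → ℂ) = fun g => conj ((χ : G → ℂ) g) * (lam : G → ℂ) g
      · obtain ⟨lam, hl1, hlχ⟩ := hex
        have hl1' := h53_one_of_deg_one lam hl1
        have hlc := IsIrrCharacter.isCharacter lam.2
        -- ψ := conj lam * σ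
        have hlbar := Cfsg.Agent.Helper80.isIrrCharacter_cconj lam.2
        let lb : IrrCharacter G := ⟨fun g => conj ((lam : G → ℂ) g), hlbar⟩
        have hlb1 : charDegree (lb : G → ℂ) = 1 := by
          apply Cfsg.Agent.Helper81.charDegree_eq_of_one 1
          show conj ((lam : G → ℂ) 1) = ((1 : ℕ) : ℂ)
          rw [hl1']; simp
        have hψirr := h53_lin_mul_irr lb σ hlb1
        let ψ : IrrCharacter G := ⟨(lb : G → ℂ) * (σ : G → ℂ), hψirr⟩
        have hψdeg : charDegree (ψ : G → ℂ) = n := by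
          rw [h53_deg_mul lb σ ψ rfl, hlb1, one_mul, hσn]
        have h0 := hnop χ ψ h1 hψdeg
        apply hσocc
        rw [← h0]
        unfold classInner
        congr 1
        apply Finset.sum_congr rfl
        intro g _
        have hu : (lam : G → ℂ) g * conj ((lam : G → ℂ) g) = 1 :=
          hom_mul_conj (linHom hlc hl1') g
        show ((χ : G → ℂ) * (χ' : G → ℂ)) g * conj ((σ : G → ℂ) g) =
          (χ : G → ℂ) g * conj ((χ : G → ℂ) g) * conj (((lb : G → ℂ) * (σ : G → ℂ)) g)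
        rw [hlχ]
        simp only [Pi.mul_apply, map_mul, Complex.conj_conj]
        show (χ : G → ℂ) g * (conj ((χ : G → ℂ) g) * (lam : G → ℂ) g) * conj ((σ : G → ℂ) g) =
          (χ : G → ℂ) g * conj ((χ : G → ℂ) g) * (conj (conj ((lam : G → ℂ) g)) * conj ((σ : G → ℂ) g))
        rw [Complex.conj_conj]; ring
      · have hnl : ∀ lam : IrrCharacter G, charDegree (lam : G → ℂ) = 1 →
            (χ' : G → ℂ) ≠ fun g => conj ((χ : G → ℂ) g) * (lam : G → ℂ) g := by
          intro lam hl he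
          exact hex ⟨lam, hl, he⟩
        have := hMM χ χ' h1 h1' hnl σ hσocc
        omega

end Cfsg.Agent.Helper53.CD3A
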