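import Mathlib
import Cfsg.Agent.Lib.Helper53.CD3ADefs
import Cfsg.Agent.Lib.Helper81.CharClifford
import Cfsg.Agent.Lib.Helper25.CD3ACASEA
import Cfsg.Agent.Lib.Helper25.CD3ACASEB1
import Cfsg.Agent.Lib.Helper25.CD3APERF
import Cfsg.Agent.Lib.Helper30.CD3AGCD
import Cfsg.Agent.Lib.Helper30.CD3APMM
import Cfsg.Agent.Lib.Helper30.CD3APMN
import Cfsg.Agent.Lib.Helper4.CD3ACASEB2
import Cfsg.Agent.Lib.Helper4.CD3ATYPE
import Cfsg.Agent.Lib.Helper53.CD3ACLO
import Cfsg.Agent.Lib.Helper53.CD3ANOP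
import Cfsg.Agent.Lib.Helper57.CD3ACARD
import Cfsg.Agent.Lib.Helper57.CD3AFEW
import Cfsg.Agent.Lib.Helper57.CD3AQUOT
import Cfsg.Agent.Lib.Helper59.CD3AEXT
import Cfsg.Agent.Lib.Helper59.CD3AMINN
import Cfsg.Agent.Lib.Helper59.CD3ASIMP
import Cfsg.Agent.Lib.Helper59.CD3ASQ
import Cfsg.Agent.Lib.Helper62.CD3ATRANS
import Cfsg.Agent.Lib.Helper68.CD3ADUAL
import Cfsg.Agent.Lib.Helper68.CD3AFIN5
import Cfsg.Agent.Lib.Helper68.CD3AKER5
import Cfsg.Agent.Lib.Helper68.CD3ATRIV
import Cfsg.Agent.Lib.Helper74.CD3AXI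
import Cfsg.Agent.Lib.Helper75.CD3AKMAX
import Cfsg.Agent.Lib.Helper8.CD3AVAN
import Cfsg.Agent.Lib.Helper19.DG2B
import Cfsg.Agent.Lib.Helper90.DG2A1
import Cfsg.Agent.Lib.Helper90.DG2A2
import Cfsg.Agent.Lib.Helper16.DG2A3
import Cfsg.Agent.Lib.Helper76.CD2Basic
import Cfsg.Agent.Lib.Helper20.CD3S124
import Cfsg.Agent.Lib.Helper20.CD3VanK

set_option autoImplicit false

namespace Cfsg.Agent.Helper53.CD3A

open Cfsg Cfsg.Agent.Helper53.CD3A Cfsg.Agent.Helper81
open scoped ComplexConjugate commutatorElement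

universe u

theorem step (G : Type u) [Group G] [Finite G] (hmin : SmallerSolv G) (a b : ℕ) (h : DegIn G a b) :
    Group.IsSolvable G := by
  classical
  by_contra hns
  obtain ⟨m, n, hm, hmn, hcd, hχm, hχn⟩ := Cfsg.Agent.Helper57.CD3A.normalize_degrees h hns
  haveI : Fintype G := Fintype.ofFinite G
  haveI : Fintype ↥(commutator G) := Fintype.ofFinite _
  have hn : 1 < n := lt_trans hm hmn
  have hQ : QuotSolv G := Cfsg.Agent.Helper57.CD3A.quot_solvable hcd hmin
  have hcop := Cfsg.Agent.Helper30.CD3A.coprime_degrees hm hn hcd hmin hns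
  have hMN := Cfsg.Agent.Helper30.CD3A.prodMN hm hmn hcop hcd
  have hMM := Cfsg.Agent.Helper30.CD3A.prodMM hm hmn hcop hcd
  have hvan := Cfsg.Agent.Helper8.CD3A.vanish hm hmn hcd hMN hMM
  -- (3)
  have hnp : commutator G ≠ ⊤ := by
    intro hperf
    haveI := Cfsg.Agent.Helper59.CD3A.simple_of_perfect hQ hns hperf
    exact Cfsg.Agent.Helper25.CD3A.false_of_simple hm hmn hcd hχm hperf hvan
  -- (4)
  have h4 : ⁅commutator G, commutator G⁆ = commutator G := by
    by_contra hne
    obtain ⟨K, hKn, hK2, hK1, hKmax⟩ := Cfsg.Agent.Helper75.CD3A.exists_K hne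
    haveI := hKn
    haveI := Cfsg.Agent.Helper59.CD3A.solvable_quot K hK2
    obtain ⟨hna, hq⟩ := Cfsg.Agent.Helper19.DG2.bridge K hK1 hKmax
    obtain ⟨hV, hab, q, e, hqp, hcard⟩ := Cfsg.Agent.Helper90.DG2.comm_abelian hna hq
    by_cases hc : commutator (G ⧸ K) ≤ Subgroup.center (G ⧸ K)
    · obtain ⟨k, hk⟩ := Cfsg.Agent.Helper90.DG2.central_case hq hV q e hqp hcard hc
      exact Cfsg.Agent.Helper25.CD3A.caseA_false hm hmn hcop hcd hχm hχn K hna q k hqp hk
    · obtain ⟨hcopV, hfpf⟩ :=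
        Cfsg.Agent.Helper16.DG2.noncentral_case hq hV hab q e hqp hcard hc
      obtain ⟨f, d, hidx, hf, hd, hfd, hcd', hqd⟩ :=
        Cfsg.Agent.Helper25.CD3A.caseB_degrees hm hmn hcop hcd hχm hχn K q e hqp hV hab hcard hcopV hfpf
      haveI : (commutator (G ⧸ K)).Normal := by rw [commutator_def]; infer_instance
      obtain ⟨F, hFn, hKF, hGF, hFidx, habF, hrel, hfpfF⟩ :=
        Cfsg.Agent.Helper62.CD3A.trans_to_subgroups K q e hab hcard hfpf
      haveI := hFn
      have h124 : ∀ θ : IrrCharacter F, ¬ q ∣ charDegree (θ : F → ℂ) →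
          ∃ χ : IrrCharacter G, charDegree (χ : G → ℂ) = F.index * charDegree (θ : F → ℂ) := by
        intro θ hθ
        have he : 0 < e := by
          rcases Nat.eq_zero_or_pos e with h0 | h0
          · exfalso
            rw [h0, pow_zero] at hcard
            haveI : Subsingleton ↥(commutator (G ⧸ K)) :=
              (Nat.card_eq_one_iff_unique.1 hcard).1
            exact hV (Subgroup.eq_bot_of_subsingleton _)
          · exact h0
        rcases Cfsg.Agent.Helper20.CD3.strong124 K F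
            (fun x hx y hy => by rw [commutatorElement_def]; exact habF x hx y hy)
            (fun a b => hGF (by
              rw [commutator_def]
              exact Subgroup.commutator_mem_commutator (Subgroup.mem_top a) (Subgroup.mem_top b)))
            (fun g hg x hx h => hfpfF g hg x hx (by rwa [commutatorElement_def] at h)) θ with hv | hχ
        · exact absurd (Cfsg.Agent.Helper20.CD3.p_dvd_degree_of_vanish_off K F
            (fun x hx y hy => by rw [commutatorElement_def]; exact habF x hx y hy)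
            q e hqp he hrel θ hv) hθ
        · exact hχ
      have hF2 := Cfsg.Agent.Helper4.CD3A.caseB_final hf hd hfd hcd' q hqp hqd F hGF (hFidx.trans hidx) h124
      have hFs : Group.IsSolvable F := Cfsg.Agent.Helper76.CD2.isSolvable d hF2
      exact hns (Cfsg.Agent.Helper59.CD3A.solvable_of_comm_le F hGF hFs)
  -- (5)
  have hminn := Cfsg.Agent.Helper59.CD3A.minComm hQ h4
  haveI : (commutator G).Normal := by rw [commutator_def]; infer_instance
  have hsame : SameDeg G (commutator G) := Cfsg.Agent.Helper4.CD3A.sameDeg (commutator G) le_rfl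
  have hnop := Cfsg.Agent.Helper53.CD3A.noNPart hm hmn hcd hminn hsame hvan
  have hT : {φ : IrrCharacter ↥(commutator G) | LowType G n φ} = Set.univ :=
    Cfsg.Agent.Helper74.CD3A.closed_eq_univ _ (Cfsg.Agent.Helper68.CD3A.exists_lowType hn)
      (fun φ hφ φ' hφ' ξ hξ => Cfsg.Agent.Helper53.CD3A.lowType_mul hm hmn hcd hMM hnop φ φ' ξ hφ hφ' hξ)
      (fun φ hφ ξ hξ => Cfsg.Agent.Helper68.CD3A.lowType_conj φ ξ hφ hξ)
      (fun x hx => Cfsg.Agent.Helper68.CD3A.lowType_ker hm hmn hχm hminn hsame x hx)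
  refine Cfsg.Agent.Helper68.CD3A.false_of_all_lowType hχn hsame (fun ξ => ?_)
  have : ξ ∈ {φ : IrrCharacter ↥(commutator G) | LowType G n φ} := by rw [hT]; trivial
  exact this

theorem main_aux : ∀ N : ℕ, ∀ (G : Type u) [Group G] [Finite G], Nat.card G = N →
    (∃ a b : ℕ, DegIn G a b) → Group.IsSolvable G := by
  intro N
  induction N using Nat.strong_induction_on with
  | _ N ih =>
    intro G _ _ hN hab
    obtain ⟨a, b, h⟩ := hab
    refine step G ?_ a b h
    intro H _ _ hlt hH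
    exact ih (Nat.card H) (hN ▸ hlt) H rfl hH

/-- **Theorem A of S4460**: three character degrees ⇒ solvable. -/
theorem cd3_solvable {G : Type u} [Group G] [Finite G]
    (hcd : Nat.card {n : ℕ // ∃ χ : IrrCharacter G, charDegree (χ : G → ℂ) = n} = 3) :
    Group.IsSolvable G := by
  obtain ⟨m, n, _, _, h, _, _⟩ := Cfsg.Agent.Helper57.CD3A.three_degrees hcd
  exact main_aux _ G rfl ⟨m, n, h⟩

/-- also useful: at most three degrees ⇒ solvable -/
theorem solvable_of_degIn {G : Type u} [Group G] [Finite G] (m n : ℕ) (h : DegIn G m n) :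
    Group.IsSolvable G :=
  main_aux _ G rfl ⟨m, n, h⟩

end Cfsg.Agent.Helper53.CD3A
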