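import Mathlib
import Cfsg.Agent.Lib.Helper53.CD3ADefs
import Cfsg.Agent.Lib.Helper81.CharClifford
import Cfsg.Agent.Lib.Helper81.CharCorr
import Cfsg.Agent.Lib.Helper81.DG2CR
import Cfsg.Agent.Lib.Helper76.CD2Basic
import Cfsg.Agent.Lib.Helper79.CharBasic

set_option autoImplicit false
set_option linter.style.haveILetI false

namespace Cfsg.Agent.Helper53.CD3A

open Cfsg Cfsg.Agent.Helper81
open scoped ComplexConjugate commutatorElement

universe u

/-- (CASEB2) `cd(F) ⊆ {1,d}`. -/
theorem caseB_final {G : Type u} [Group G] [Finite G] {f d : ℕ} (hf : 1 < f) (hd : 1 < d)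
    (hcop : Nat.Coprime f d) (hcd : DegIn G f d) (q : ℕ) (hq : q.Prime) (hqd : q ∣ d)
    (F : Subgroup G) [F.Normal] (hGF : commutator G ≤ F) (hidx : F.index = f)
    (h124 : ∀ θ : IrrCharacter F, ¬ q ∣ charDegree (θ : F → ℂ) →
      ∃ χ : IrrCharacter G, charDegree (χ : G → ℂ) = F.index * charDegree (θ : F → ℂ)) :
    ∀ θ : IrrCharacter F, charDegree (θ : F → ℂ) = 1 ∨ charDegree (θ : F → ℂ) = d := by
  classical
  intro θ
  haveI : Fintype G := Fintype.ofFinite G
  haveI : Fintype F := Fintype.ofFinite F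
  obtain ⟨χ, e, hdeg, hediv, hne⟩ := Cfsg.Agent.Helper76.CD2.exists_over F θ
  rcases hcd χ with h | h | h
  · left
    rw [h] at hdeg
    exact Nat.eq_one_of_mul_eq_one_left hdeg.symm
  · left
    rw [h] at hdeg
    have hθf : charDegree (θ : F → ℂ) ∣ f := ⟨e, by rw [hdeg]; ring⟩
    have hqθ : ¬ q ∣ charDegree (θ : F → ℂ) := by
      intro hq'
      have hqf : q ∣ f := dvd_trans hq' hθf
      have := Nat.dvd_gcd hqf hqd
      rw [hcop] at this
      exact hq.one_lt.ne' (Nat.dvd_one.1 this)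
    obtain ⟨χ2, hχ2⟩ := h124 θ hqθ
    rw [hidx] at hχ2
    have hθpos : 0 < charDegree (θ : F → ℂ) := (Cfsg.Agent.Helper79.irr_one_eq θ).2
    rcases hcd χ2 with h2 | h2 | h2
    · rw [h2] at hχ2
      have := Nat.eq_one_of_mul_eq_one_right hχ2.symm
      omega
    · rw [h2] at hχ2
      have : f * charDegree (θ : F → ℂ) = f * 1 := by rw [mul_one]; exact hχ2.symm
      exact Nat.eq_of_mul_eq_mul_left (by omega) this
    · rw [h2] at hχ2
      have hfd : f ∣ d := ⟨charDegree (θ : F → ℂ), hχ2⟩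
      have := Nat.dvd_gcd (dvd_refl f) hfd
      rw [hcop] at this
      have := Nat.dvd_one.1 this
      omega
  · right
    haveI : IsMulCommutative (G ⧸ F) :=
      Subgroup.Normal.quotient_commutative_iff_commutator_le.2 hGF
    haveI : Group.IsSolvable (G ⧸ F) :=
      Group.isSolvable_of_comm (fun a b => mul_comm' a b)
    have hc : Nat.Coprime (charDegree (χ : G → ℂ)) F.index := by
      rw [h, hidx]; exact hcop.symm
    have hirr := Cfsg.Agent.Helper81.DG2.restrict_irr_of_coprime F χ hc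
    have heq := eq_of_classInner_ne_zero hirr θ.2 hne
    have h1 : (θ : F → ℂ) 1 = (χ : G → ℂ) 1 := by rw [← heq]; rfl
    have h2 := (Cfsg.Agent.Helper79.irr_one_eq θ).1
    have h3 := (Cfsg.Agent.Helper79.irr_one_eq χ).1
    rw [h1, h3, h] at h2
    exact_mod_cast h2.symm

end Cfsg.Agent.Helper53.CD3A
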