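import Mathlib
import Cfsg.Agent.Lib.Helper53.CD3ADefs
import Cfsg.Agent.Lib.Helper81.CharClifford
import Cfsg.Agent.Lib.Helper81.CharFrob
import Cfsg.Agent.Lib.Helper81.CharSylInd
import Cfsg.Agent.Lib.Helper79.CharBasic
import Cfsg.Agent.Lib.Helper79.Inflation

set_option autoImplicit false
set_option linter.style.haveILetI false

namespace Cfsg.Agent.Helper53.CD3A

open Cfsg Cfsg.Agent.Helper81
open scoped ComplexConjugate commutatorElement

universe u

/-- the trivial character, as an `IrrCharacter` -/
noncomputable def h53_triv (G : Type u) [Group G] [Fintype G] : IrrCharacter G :=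
  ⟨fun _ => (1 : ℂ), isIrrCharacter_one⟩

theorem h53_triv_deg (G : Type u) [Group G] [Fintype G] : charDegree ((h53_triv G : IrrCharacter G) : G → ℂ) = 1 := by
  apply charDegree_eq_of_one 1
  show (1 : ℂ) = ((1 : ℕ) : ℂ)
  simp

/-- an irreducible character of `G` whose restriction to `N = G'` contains the trivial character is linear -/
theorem h53_linear_of_over_triv {G : Type u} [Group G] [Fintype G] [Fintype ↥(commutator G)]
    (hsame : SameDeg G (commutator G)) (χ : IrrCharacter G)
    (h : classInner (fun x : ↥(commutator G) => (χ : G → ℂ) x) (fun _ => (1 : ℂ)) ≠ 0) :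
    charDegree (χ : G → ℂ) = 1 := by
  have h1 : classInner (fun x : ↥(commutator G) => ((h53_triv G : IrrCharacter G) : G → ℂ) x)
      ((h53_triv ↥(commutator G) : IrrCharacter ↥(commutator G)) : ↥(commutator G) → ℂ) ≠ 0 := by
    have : classInner (fun _ : ↥(commutator G) => (1 : ℂ)) (fun _ : ↥(commutator G) => (1 : ℂ)) = 1 := by
      rw [irr_orthonormal isIrrCharacter_one isIrrCharacter_one, if_pos rfl]
    show classInner (fun _ : ↥(commutator G) => (1 : ℂ)) (fun _ : ↥(commutator G) => (1 : ℂ)) ≠ 0
    rw [this]; exact one_ne_zero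
  have := hsame (h53_triv ↥(commutator G)) χ (h53_triv G) h h1
  rw [this, h53_triv_deg]

/-- (NOP) -/
theorem noNPart {G : Type u} [Group G] [Fintype G] [Fintype ↥(commutator G)] {m n : ℕ} (hm : 1 < m)
    (hmn : m < n) (hcd : DegIn G m n) (hminn : MinComm G) (hsame : SameDeg G (commutator G))
    (hvan : Vanish G m n) : NoNPart G m n := by
  classical
  intro χ ψ hχ hψ
  by_contra hne
  have hv := hvan χ ψ hχ hψ hne
  let L : Subgroup G := commutator G ⊓ Cfsg.Agent.Helper79.irrKer ψ
  haveI : (commutator G).Normal := by rw [commutator_def]; infer_instance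
  have hLn : L.Normal := Subgroup.normal_inf_normal _ _
  have hLle : L ≤ commutator G := inf_le_left
  have hcard : (Nat.card ↥(commutator G) : ℂ) ≠ 0 := by
    exact_mod_cast Nat.card_pos.ne'
  by_cases hL : L = ⊥
  · -- χ vanishes on N ∖ 1
    have hχ1 : (χ : G → ℂ) 1 ≠ 0 := Cfsg.Agent.Helper79.irr_one_ne_zero χ
    have hin : classInner (fun x : ↥(commutator G) => (χ : G → ℂ) x) (fun _ => (1 : ℂ)) ≠ 0 := by
      unfold classInner
      have hsum : ∑ x : ↥(commutator G), (fun x : ↥(commutator G) => (χ : G → ℂ) x) x *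
          conj ((fun _ : ↥(commutator G) => (1 : ℂ)) x) = (χ : G → ℂ) 1 := by
        rw [Finset.sum_eq_single (1 : ↥(commutator G))]
        · simp
        · intro x _ hx
          have hxL : (x : G) ∉ L := by
            intro hxL
            rw [hL, Subgroup.mem_bot] at hxL
            exact hx (Subtype.ext hxL)
          have hψx : (ψ : G → ℂ) x ≠ (ψ : G → ℂ) 1 := by
            intro h
            exact hxL ⟨x.2, h⟩
          have := hv x x.2 hψx
          simp [this]
        · intro h; exact absurd (Finset.mem_univ _) h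
      rw [hsum]
      exact mul_ne_zero (inv_ne_zero hcard) hχ1
    have := h53_linear_of_over_triv hsame χ hin
    omega
  · have hLN : L = commutator G := hminn L hLn hLle hL
    have hker : ∀ x : ↥(commutator G), (ψ : G → ℂ) x = (ψ : G → ℂ) 1 := by
      intro x
      have : (x : G) ∈ L := by rw [hLN]; exact x.2
      exact this.2
    have hψ1 : (ψ : G → ℂ) 1 ≠ 0 := Cfsg.Agent.Helper79.irr_one_ne_zero ψ
    have hin : classInner (fun x : ↥(commutator G) => (ψ : G → ℂ) x) (fun _ => (1 : ℂ)) ≠ 0 := by
      unfold classInner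
      have hsum : ∑ x : ↥(commutator G), (fun x : ↥(commutator G) => (ψ : G → ℂ) x) x *
          conj ((fun _ : ↥(commutator G) => (1 : ℂ)) x) =
          (Nat.card ↥(commutator G) : ℂ) * (ψ : G → ℂ) 1 := by
        simp only [hker, map_one, mul_one, Finset.sum_const, Finset.card_univ, nsmul_eq_mul,
          Nat.card_eq_fintype_card]
      rw [hsum]
      exact mul_ne_zero (inv_ne_zero hcard) (mul_ne_zero hcard hψ1)
    have := h53_linear_of_over_triv hsame ψ hin
    omega

end Cfsg.Agent.Helper53.CD3A
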