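import Mathlib
import Cfsg.Agent.Lib.Helper53.Soft1

/-!
Dihedral-like subgroups `S` of a finite group `X` (helper53): abstract data
`DD S a t` (cyclic rotation subgroup `zpowers a`, a reflection `t`), and the bound
`|T| ≤ 2 |D|` for `D ≤ T ≤ S`, `T` normalizing `D`, `D` not inside the rotations.
-/

set_option autoImplicit false

namespace Cfsg.Agent.Helper53.DihSyl

open Cfsg.Agent.Helper53.Soft

variable {X : Type*} [Group X]

/-- abstract dihedral data -/
structure DD (S : Subgroup X) (a t : X) : Prop where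
  ha : a ∈ S
  ht : t ∈ S
  htR : t ∉ Subgroup.zpowers a
  sq : ∀ x ∈ S, x ∉ Subgroup.zpowers a → x * x = 1
  mul : ∀ x ∈ S, ∀ y ∈ S, x ∉ Subgroup.zpowers a → y ∉ Subgroup.zpowers a →
    x * y ∈ Subgroup.zpowers a

theorem DD.zpowers_le {S : Subgroup X} {a t : X} (h : DD S a t) : Subgroup.zpowers a ≤ S := by
  rw [Subgroup.zpowers_le]; exact h.ha

/-- reflections invert rotations -/
theorem DD.inv_conj {S : Subgroup X} {a t : X} (h : DD S a t) {x ρ : X} (hx : x ∈ S)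
    (hxR : x ∉ Subgroup.zpowers a) (hρ : ρ ∈ Subgroup.zpowers a) : x * ρ * x⁻¹ = ρ⁻¹ := by
  have hxρS : x * ρ ∈ S := S.mul_mem hx (h.zpowers_le hρ)
  have hxρR : x * ρ ∉ Subgroup.zpowers a := by
    intro hh
    apply hxR
    have := (Subgroup.zpowers a).mul_mem hh ((Subgroup.zpowers a).inv_mem hρ)
    simpa using this
  have h1 : x * ρ * (x * ρ) = 1 := h.sq _ hxρS hxρR
  have h2 : x * x = 1 := h.sq _ hx hxR
  have hxinv : x⁻¹ = x := inv_eq_of_mul_eq_one_left h2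
  rw [hxinv]
  have : x * ρ * x * ρ = 1 := by rw [← h1]; group
  exact eq_inv_of_mul_eq_one_left this

/-- elements of `zpowers a` commute -/
theorem zp_comm {a x y : X} (hx : x ∈ Subgroup.zpowers a) (hy : y ∈ Subgroup.zpowers a) :
    x * y = y * x := by
  obtain ⟨i, rfl⟩ := Subgroup.mem_zpowers_iff.mp hx
  obtain ⟨j, rfl⟩ := Subgroup.mem_zpowers_iff.mp hy
  rw [← zpow_add, ← zpow_add, add_comm]

/-- a cyclic group has at most one involution -/
theorem cyc_invol_unique [Finite X] (a : X) {x y : X} (hx : x ∈ Subgroup.zpowers a)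
    (hy : y ∈ Subgroup.zpowers a) (hx2 : x * x = 1) (hy2 : y * y = 1) (hx1 : x ≠ 1)
    (hy1 : y ≠ 1) : x = y := by
  classical
  by_contra hne
  have : Fintype ↥(Subgroup.zpowers a) := Fintype.ofFinite _
  have h := IsCyclic.card_pow_eq_one_le (α := ↥(Subgroup.zpowers a)) (n := 2) (by norm_num)
  have h3 : 2 < (Finset.univ.filter fun g : ↥(Subgroup.zpowers a) => g ^ 2 = 1).card := by
    rw [Finset.two_lt_card_iff]
    refine ⟨1, ⟨x, hx⟩, ⟨y, hy⟩, ?_, ?_, ?_, ?_, ?_, ?_⟩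
    · simp
    · simp only [Finset.mem_filter, Finset.mem_univ, true_and]
      apply Subtype.ext
      simp [pow_two, hx2]
    · simp only [Finset.mem_filter, Finset.mem_univ, true_and]
      apply Subtype.ext
      simp [pow_two, hy2]
    · intro e
      apply hx1
      have := congrArg Subtype.val e
      simpa using this.symm
    · intro e
      apply hy1
      have := congrArg Subtype.val e
      simpa using this.symm
    · intro e
      apply hne
      have := congrArg Subtype.val e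
      simpa using this
  omega

/-- a subgroup with a subgroup `H₀` such that products of two elements outside `H₀` lie in
`H₀` has order at most `2 |H₀|`. -/
theorem card_le_two_mul [Finite X] {H H₀ : Subgroup X} (hle : H₀ ≤ H)
    (hmul : ∀ x ∈ H, ∀ y ∈ H, x ∉ H₀ → y ∉ H₀ → x * y ∈ H₀) :
    Nat.card H ≤ 2 * Nat.card H₀ := by
  classical
  by_cases hall : ∀ x ∈ H, x ∈ H₀
  · have : H = H₀ := le_antisymm hall hle
    rw [this]; omega
  · push Not at hall
    obtain ⟨x, hxH, hx0⟩ := hall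
    have hsub : (H : Set X) ⊆ (H₀ : Set X) ∪ (fun y => x⁻¹ * y) '' (H₀ : Set X) := by
      intro y hy
      by_cases hy0 : y ∈ H₀
      · exact Or.inl hy0
      · right
        refine ⟨x * y, hmul x hxH y hy hx0 hy0, ?_⟩
        simp
    have h1 : Nat.card H = (H : Set X).ncard := (Nat.card_coe_set_eq _)
    have h2 : Nat.card H₀ = (H₀ : Set X).ncard := (Nat.card_coe_set_eq _)
    rw [h1, h2]
    calc (H : Set X).ncard ≤ ((H₀ : Set X) ∪ (fun y => x⁻¹ * y) '' (H₀ : Set X)).ncard :=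
          Set.ncard_le_ncard hsub (Set.toFinite _)
      _ ≤ (H₀ : Set X).ncard + ((fun y => x⁻¹ * y) '' (H₀ : Set X)).ncard :=
          Set.ncard_union_le _ _
      _ ≤ (H₀ : Set X).ncard + (H₀ : Set X).ncard := by
          have := Set.ncard_image_le (f := fun y => x⁻¹ * y) (Set.toFinite (H₀ : Set X))
          omega
      _ = 2 * (H₀ : Set X).ncard := by ring

theorem two_mul_card_le_of_lt' [Finite X] {A B : Subgroup X} (h : A < B) :
    2 * Nat.card A ≤ Nat.card B := by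
  obtain ⟨k, hk⟩ := Subgroup.card_dvd_of_le h.le
  have hB : 0 < Nat.card B := Nat.card_pos
  have hA : 0 < Nat.card A := Nat.card_pos
  rcases k with _ | _ | k
  · rw [hk] at hB; simp at hB
  · exfalso
    apply h.ne
    apply Subgroup.eq_of_le_of_card_ge h.le
    rw [hk]; simp
  · rw [hk]; nlinarith

/-- a subgroup of the rotations normalizing `D`: its order is at most `2 |D ∩ R|`. -/
theorem card_rot_le [Finite X] {S : Subgroup X} {a t : X} (h : DD S a t) {D T₀ : Subgroup X}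
    (hT₀R : T₀ ≤ Subgroup.zpowers a) (hT₀N : T₀ ≤ Subgroup.normalizer (D : Set X))
    {t' : X} (ht'D : t' ∈ D) (ht'S : t' ∈ S) (ht'R : t' ∉ Subgroup.zpowers a) :
    Nat.card T₀ ≤ 2 * Nat.card (D ⊓ Subgroup.zpowers a : Subgroup X) := by
  have hcyc : IsCyclic T₀ := Subgroup.isCyclic_of_le hT₀R
  obtain ⟨⟨ρ, hρ⟩, hgen⟩ := hcyc.exists_generator
  have hord : orderOf ρ = Nat.card T₀ := by
    have := orderOf_eq_card_of_forall_mem_zpowers hgen
    rwa [Subgroup.orderOf_mk] at this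
  -- ρ² ∈ D ⊓ R
  have hρR : ρ ∈ Subgroup.zpowers a := hT₀R hρ
  have hρN : ρ ∈ Subgroup.normalizer (D : Set X) := hT₀N hρ
  have h1 : ρ * t' * ρ⁻¹ ∈ D := (Subgroup.mem_normalizer_iff.mp hρN t').mp ht'D
  have h2 : t' * ρ⁻¹ * t'⁻¹ = ρ := by
    have := h.inv_conj ht'S ht'R ((Subgroup.zpowers a).inv_mem hρR)
    simpa using this
  have h3 : ρ * ρ = ρ * t' * ρ⁻¹ * t'⁻¹ := by
    calc ρ * ρ = ρ * (t' * ρ⁻¹ * t'⁻¹) := by rw [h2]
      _ = ρ * t' * ρ⁻¹ * t'⁻¹ := by group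
  have h4 : ρ ^ 2 ∈ (D ⊓ Subgroup.zpowers a : Subgroup X) := by
    rw [pow_two]
    refine Subgroup.mem_inf.mpr ⟨?_, (Subgroup.zpowers a).mul_mem hρR hρR⟩
    rw [h3]
    exact D.mul_mem h1 (D.inv_mem ht'D)
  have h5 : Subgroup.zpowers (ρ ^ 2) ≤ (D ⊓ Subgroup.zpowers a : Subgroup X) := by
    rw [Subgroup.zpowers_le]; exact h4
  have h6 : orderOf (ρ ^ 2) ≤ Nat.card (D ⊓ Subgroup.zpowers a : Subgroup X) := by
    rw [← Nat.card_zpowers]
    exact Subgroup.card_le_of_le h5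
  have hpos : 0 < orderOf ρ := orderOf_pos ρ
  have h7 : orderOf (ρ ^ 2) = orderOf ρ / Nat.gcd (orderOf ρ) 2 := orderOf_pow ρ
  have h8 : Nat.gcd (orderOf ρ) 2 ∣ 2 := Nat.gcd_dvd_right _ _
  have h9 : Nat.gcd (orderOf ρ) 2 ∣ orderOf ρ := Nat.gcd_dvd_left _ _
  have h10 : Nat.gcd (orderOf ρ) 2 ≤ 2 := Nat.le_of_dvd (by norm_num) h8
  obtain ⟨c, hc⟩ := h9
  have hgpos : 0 < Nat.gcd (orderOf ρ) 2 := Nat.gcd_pos_of_pos_right _ (by norm_num)
  have h11 : orderOf ρ / Nat.gcd (orderOf ρ) 2 = c := Nat.div_eq_of_eq_mul_right hgpos hc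
  rw [← hord]
  rw [h7, h11] at h6
  calc orderOf ρ = Nat.gcd (orderOf ρ) 2 * c := hc
    _ ≤ 2 * c := Nat.mul_le_mul_right c h10
    _ ≤ 2 * Nat.card (D ⊓ Subgroup.zpowers a : Subgroup X) := Nat.mul_le_mul_left 2 h6

/-- **Key bound.** If `D ≤ T ≤ S`, `T` normalizes `D`, and `D` is not inside the rotations,
then `|T| ≤ 2 |D|`. -/
theorem card_le_of_normalizes [Finite X] {S : Subgroup X} {a t : X} (h : DD S a t)
    {D T : Subgroup X} (hDT : D ≤ T) (hTS : T ≤ S)
    (hTN : T ≤ Subgroup.normalizer (D : Set X)) (hD : ¬ D ≤ Subgroup.zpowers a) :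
    Nat.card T ≤ 2 * Nat.card D := by
  obtain ⟨t', ht'D, ht'R⟩ := SetLike.not_le_iff_exists.mp hD
  have ht'S : t' ∈ S := hTS (hDT ht'D)
  -- |T| ≤ 2 |T ⊓ R|
  have hA : Nat.card T ≤ 2 * Nat.card (T ⊓ Subgroup.zpowers a : Subgroup X) := by
    apply card_le_two_mul inf_le_left
    intro x hx y hy hx0 hy0
    have hxR : x ∉ Subgroup.zpowers a := fun hh => hx0 (Subgroup.mem_inf.mpr ⟨hx, hh⟩)
    have hyR : y ∉ Subgroup.zpowers a := fun hh => hy0 (Subgroup.mem_inf.mpr ⟨hy, hh⟩)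
    exact Subgroup.mem_inf.mpr ⟨T.mul_mem hx hy, h.mul x (hTS hx) y (hTS hy) hxR hyR⟩
  -- |T ⊓ R| ≤ 2 |D ⊓ R|
  have hB : Nat.card (T ⊓ Subgroup.zpowers a : Subgroup X)
      ≤ 2 * Nat.card (D ⊓ Subgroup.zpowers a : Subgroup X) :=
    card_rot_le h inf_le_right (inf_le_left.trans hTN) ht'D ht'S ht'R
  -- 2 |D ⊓ R| ≤ |D|
  have hC : 2 * Nat.card (D ⊓ Subgroup.zpowers a : Subgroup X) ≤ Nat.card D := by
    apply two_mul_card_le_of_lt'
    refine lt_of_le_of_ne inf_le_left ?_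
    intro e
    apply ht'R
    have : t' ∈ (D ⊓ Subgroup.zpowers a : Subgroup X) := by rw [e]; exact ht'D
    exact (Subgroup.mem_inf.mp this).2
  omega

/-- a subgroup containing two distinct involutions is not inside the rotations -/
theorem not_le_zpowers_of_two_invol [Finite X] (a : X) {D : Subgroup X} {z₁ z₂ : X}
    (h1 : z₁ ∈ D) (h2 : z₂ ∈ D) (hz1 : z₁ * z₁ = 1) (hz2 : z₂ * z₂ = 1) (hne1 : z₁ ≠ 1)
    (hne2 : z₂ ≠ 1) (hne : z₁ ≠ z₂) : ¬ D ≤ Subgroup.zpowers a := by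
  intro hle
  exact hne (cyc_invol_unique a (hle h1) (hle h2) hz1 hz2 hne1 hne2)

end Cfsg.Agent.Helper53.DihSyl
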