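import Mathlib
import Cfsg.Agent.Lib.Helper53.Soft1
import Cfsg.Agent.Lib.Helper53.SylowConj
import Cfsg.Agent.Lib.Helper53.SylowConj2
import Cfsg.Agent.Lib.Helper53.DihSyl1
import Cfsg.Agent.Lib.Helper34.Dihedral2

/-!
Fusion of non-cyclic subgroups of a dihedral Sylow 2-subgroup (helper53): the tower argument.
-/

set_option autoImplicit false

namespace Cfsg.Agent.Helper53.DihSyl

open Cfsg.Agent.Helper53.Soft

variable {X : Type*} [Group X] [Finite X]

/-- every 2-subgroup is conjugate into a given Sylow 2-subgroup -/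
theorem exists_cj_le_sylow (S : Sylow 2 X) {P : Subgroup X} (hP : IsPGroup 2 P) :
    ∃ g : X, cj g P ≤ (S : Subgroup X) := by
  have : Fact (Nat.Prime 2) := ⟨Nat.prime_two⟩
  obtain ⟨Q, hQ⟩ := hP.exists_le_sylow
  obtain ⟨g, hg⟩ := MulAction.exists_smul_eq X Q S
  refine ⟨g, ?_⟩
  intro x hx
  rw [mem_cj] at hx
  have h1 : g⁻¹ * x * g ∈ (Q : Subgroup X) := hQ hx
  rw [← hg, Cfsg.Agent.Helper53.mem_smul_sylow_iff]
  exact h1

/-- **2-subgroups of normalizers.** A 2-subgroup `P ≥ E` normalizing a 2-subgroup `E` with two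
distinct involutions has order at most `2 |E|`. -/
theorem card_le_of_two_group (S : Sylow 2 X) {a t : X} (h : DD (S : Subgroup X) a t)
    {E P : Subgroup X} (hEP : E ≤ P) (hPN : P ≤ Subgroup.normalizer (E : Set X))
    (hP : IsPGroup 2 P) {z₁ z₂ : X} (h1 : z₁ ∈ E) (h2 : z₂ ∈ E) (hz1 : z₁ * z₁ = 1)
    (hz2 : z₂ * z₂ = 1) (hne1 : z₁ ≠ 1) (hne2 : z₂ ≠ 1) (hne : z₁ ≠ z₂) :
    Nat.card P ≤ 2 * Nat.card E := by
  obtain ⟨g, hg⟩ := exists_cj_le_sylow S hP
  have hDT : cj g E ≤ cj g P := cj_mono hEP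
  have hTN : cj g P ≤ Subgroup.normalizer ((cj g E : Subgroup X) : Set X) := by
    rw [normalizer_cj]; exact cj_mono hPN
  have hnot : ¬ cj g E ≤ Subgroup.zpowers a := by
    apply not_le_zpowers_of_two_invol a (conj_mem_cj (g := g) h1) (conj_mem_cj (g := g) h2)
    · calc g * z₁ * g⁻¹ * (g * z₁ * g⁻¹) = g * (z₁ * z₁) * g⁻¹ := by group
        _ = 1 := by rw [hz1]; group
    · calc g * z₂ * g⁻¹ * (g * z₂ * g⁻¹) = g * (z₂ * z₂) * g⁻¹ := by group
        _ = 1 := by rw [hz2]; group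
    · intro e
      apply hne1
      have : z₁ = g⁻¹ * (g * z₁ * g⁻¹) * g := by group
      rw [this, e]; group
    · intro e
      apply hne2
      have : z₂ = g⁻¹ * (g * z₂ * g⁻¹) * g := by group
      rw [this, e]; group
    · intro e
      apply hne
      have e1 : z₁ = g⁻¹ * (g * z₁ * g⁻¹) * g := by group
      have e2 : z₂ = g⁻¹ * (g * z₂ * g⁻¹) * g := by group
      rw [e1, e2, e]
  have := card_le_of_normalizes h hDT hg hTN hnot
  rwa [card_cj, card_cj] at this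

/-- normalizers grow inside a Sylow subgroup -/
theorem lt_nIn_sylow (S : Sylow 2 X) {D : Subgroup X} (hD : D < (S : Subgroup X)) :
    D < nIn (S : Subgroup X) D := by
  have : Fact (Nat.Prime 2) := ⟨Nat.prime_two⟩
  have hnil : Group.IsNilpotent (S : Subgroup X) := S.2.isNilpotent
  have hlt : D.subgroupOf (S : Subgroup X) < ⊤ := by
    rw [lt_top_iff_ne_top, Ne, Subgroup.subgroupOf_eq_top]
    exact not_le_of_gt hD
  have h1 := Group.normalizerCondition_of_isNilpotent (G := (S : Subgroup X))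
    (D.subgroupOf (S : Subgroup X)) hlt
  rw [← Subgroup.subgroupOf_normalizer_eq hD.le] at h1
  obtain ⟨x, hx, hx'⟩ := SetLike.exists_of_lt h1
  refine lt_of_le_of_ne (le_nIn hD.le) ?_
  intro heq
  apply hx'
  rw [Subgroup.mem_subgroupOf]
  rw [heq]
  exact mem_nIn.mpr ⟨Subgroup.mem_subgroupOf.mp hx, x.2⟩

/-- `|N_S(D)| = 2 |D|` for `D < S` with two distinct involutions -/
theorem card_nIn (S : Sylow 2 X) {a t : X} (h : DD (S : Subgroup X) a t)
    {D : Subgroup X} (hD : D < (S : Subgroup X)) {z₁ z₂ : X} (h1 : z₁ ∈ D) (h2 : z₂ ∈ D)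
    (hz1 : z₁ * z₁ = 1) (hz2 : z₂ * z₂ = 1) (hne1 : z₁ ≠ 1) (hne2 : z₂ ≠ 1) (hne : z₁ ≠ z₂) :
    Nat.card (nIn (S : Subgroup X) D) = 2 * Nat.card D := by
  have hA := two_mul_card_le_of_lt' (lt_nIn_sylow S hD)
  have hB : Nat.card (nIn (S : Subgroup X) D) ≤ 2 * Nat.card D :=
    card_le_of_normalizes h (le_nIn hD.le) (nIn_le _ _) inf_le_left
      (not_le_zpowers_of_two_invol a h1 h2 hz1 hz2 hne1 hne2 hne)
  omega

/-- **Tower step.** -/
theorem tower_step (S : Sylow 2 X) {a t : X} (h : DD (S : Subgroup X) a t)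
    {D E : Subgroup X} (hD : D < (S : Subgroup X)) (hE : E ≤ (S : Subgroup X))
    {z₁ z₂ : X} (h1 : z₁ ∈ D) (h2 : z₂ ∈ D)
    (hz1 : z₁ * z₁ = 1) (hz2 : z₂ * z₂ = 1) (hne1 : z₁ ≠ 1) (hne2 : z₂ ≠ 1) (hne : z₁ ≠ z₂)
    {y : X} (hy : cj y D = E) :
    ∃ y' : X, cj y' (nIn (S : Subgroup X) D) = nIn (S : Subgroup X) E ∧ cj y' D = E ∧
      Nat.card (nIn (S : Subgroup X) D) = 2 * Nat.card D := by
  have : Fact (Nat.Prime 2) := ⟨Nat.prime_two⟩
  have hcD := card_nIn S h hD h1 h2 hz1 hz2 hne1 hne2 hne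
  have hcardDE : Nat.card E = Nat.card D := by rw [← hy, card_cj]
  -- E < S
  have hElt : E < (S : Subgroup X) := by
    refine lt_of_le_of_ne hE ?_
    intro e
    have h3 := Soft.card_mul_relIndex hD.le
    have h4 : Nat.card D < Nat.card (S : Subgroup X) := by
      have := two_mul_card_le_of_lt' hD
      have hpos : 0 < Nat.card D := Nat.card_pos
      omega
    rw [← e, hcardDE] at h4
    exact lt_irrefl _ h4
  -- involutions in E
  have hw1 : y * z₁ * y⁻¹ ∈ E := by rw [← hy]; exact conj_mem_cj h1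
  have hw2 : y * z₂ * y⁻¹ ∈ E := by rw [← hy]; exact conj_mem_cj h2
  have hw1s : y * z₁ * y⁻¹ * (y * z₁ * y⁻¹) = 1 := by
    calc y * z₁ * y⁻¹ * (y * z₁ * y⁻¹) = y * (z₁ * z₁) * y⁻¹ := by group
      _ = 1 := by rw [hz1]; group
  have hw2s : y * z₂ * y⁻¹ * (y * z₂ * y⁻¹) = 1 := by
    calc y * z₂ * y⁻¹ * (y * z₂ * y⁻¹) = y * (z₂ * z₂) * y⁻¹ := by group
      _ = 1 := by rw [hz2]; group
  have hw1n : y * z₁ * y⁻¹ ≠ 1 := by
    intro e
    apply hne1
    have : z₁ = y⁻¹ * (y * z₁ * y⁻¹) * y := by group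
    rw [this, e]; group
  have hw2n : y * z₂ * y⁻¹ ≠ 1 := by
    intro e
    apply hne2
    have : z₂ = y⁻¹ * (y * z₂ * y⁻¹) * y := by group
    rw [this, e]; group
  have hwne : y * z₁ * y⁻¹ ≠ y * z₂ * y⁻¹ := by
    intro e
    apply hne
    have e1 : z₁ = y⁻¹ * (y * z₁ * y⁻¹) * y := by group
    have e2 : z₂ = y⁻¹ * (y * z₂ * y⁻¹) * y := by group
    rw [e1, e2, e]
  have hcE := card_nIn S h hElt hw1 hw2 hw1s hw2s hw1n hw2n hwne
  -- A = N_S(E), B = y N_S(D) y⁻¹, both in K = N_X(E)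
  set A := nIn (S : Subgroup X) E with hA
  set B := cj y (nIn (S : Subgroup X) D) with hB
  set K := Subgroup.normalizer (E : Set X) with hK
  have hAK : A ≤ K := inf_le_left
  have hBK : B ≤ K := by
    rw [hK, ← hy, normalizer_cj, hB]
    exact cj_mono inf_le_left
  have hpA : IsPGroup 2 A := S.2.to_le (nIn_le _ _)
  have hpB : IsPGroup 2 B := by
    have : IsPGroup 2 (nIn (S : Subgroup X) D) := S.2.to_le (nIn_le _ _)
    exact this.of_equiv (Subgroup.equivSMul (MulAut.conj y) (nIn (S : Subgroup X) D))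
  obtain ⟨k, hkK, P', hAP', hBP'⟩ := Cfsg.Agent.Helper53.exists_conj_le_sylow hAK hBK hpA hpB
  have hkE : cj k E = E := cj_eq_self_iff.mpr hkK
  have hkB : cj k B ≤ (P' : Subgroup X) := by
    intro x hx
    rw [mem_cj] at hx
    have := hBP' _ hx
    have e : k * (k⁻¹ * x * k) * k⁻¹ = x := by group
    rwa [e] at this
  have hkBK : cj k B ≤ K := by
    have : cj k B ≤ cj k K := cj_mono hBK
    rwa [hK, ← normalizer_cj, hkE] at this
  -- T = A ⊔ k B k⁻¹
  have hT2 : IsPGroup 2 (A ⊔ cj k B : Subgroup X) := P'.2.to_le (sup_le hAP' hkB)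
  have hTN : (A ⊔ cj k B : Subgroup X) ≤ Subgroup.normalizer (E : Set X) := sup_le hAK hkBK
  have hET : E ≤ (A ⊔ cj k B : Subgroup X) := le_trans (le_nIn hE) le_sup_left
  have hTcard := card_le_of_two_group S h hET hTN hT2 hw1 hw2 hw1s hw2s hw1n hw2n hwne
  have hTA : A = (A ⊔ cj k B : Subgroup X) :=
    Subgroup.eq_of_le_of_card_ge le_sup_left (by rw [hcE]; exact hTcard)
  have hkBA : cj k B ≤ A := by
    rw [hTA]; exact le_sup_right
  have hkBeq : cj k B = A := by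
    apply Subgroup.eq_of_le_of_card_ge hkBA
    rw [card_cj, hB, card_cj, hcE, hcD, hcardDE]
  refine ⟨k * y, ?_, ?_, hcD⟩
  · rw [cj_mul]; exact hkBeq
  · rw [cj_mul, hy, hkE]

/-- decomposition of an element into commuting 2-part and odd part -/
theorem exists_two_odd_decomp (w : X) :
    ∃ u v : X, w = u * v ∧ u ∈ Subgroup.zpowers w ∧ v ∈ Subgroup.zpowers w ∧
      (∃ j : ℕ, orderOf u = 2 ^ j) ∧ (orderOf v).Coprime 2 := by
  have hpos : 0 < orderOf w := orderOf_pos w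
  obtain ⟨e, o, ho, hn⟩ := Nat.exists_eq_two_pow_mul_odd (n := orderOf w) hpos.ne'
  have hcop : Nat.Coprime (2 ^ e) o := Nat.Coprime.pow_left e (Nat.coprime_two_left.mpr ho)
  have hbez := Nat.gcd_eq_gcd_ab (2 ^ e) o
  rw [hcop] at hbez
  set α := Nat.gcdA (2 ^ e) o with hα
  set β := Nat.gcdB (2 ^ e) o with hβ
  have hw1 : w ^ ((2 ^ e * o : ℕ) : ℤ) = 1 := by
    rw [zpow_natCast, ← hn]; exact pow_orderOf_eq_one w
  refine ⟨w ^ ((o : ℤ) * β), w ^ (((2 ^ e : ℕ) : ℤ) * α), ?_, ?_, ?_, ?_, ?_⟩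
  · rw [← zpow_add]
    have : (o : ℤ) * β + ((2 ^ e : ℕ) : ℤ) * α = 1 := by
      rw [add_comm]; exact_mod_cast hbez.symm
    rw [this, zpow_one]
  · exact Subgroup.zpow_mem_zpowers _ _
  · exact Subgroup.zpow_mem_zpowers _ _
  · have h1 : (w ^ ((o : ℤ) * β)) ^ (2 ^ e) = 1 := by
      rw [← zpow_natCast, ← zpow_mul]
      have : (o : ℤ) * β * ((2 ^ e : ℕ) : ℤ) = ((2 ^ e * o : ℕ) : ℤ) * β := by push_cast; ring
      rw [this, zpow_mul, hw1, one_zpow]
    have h2 := orderOf_dvd_of_pow_eq_one h1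
    obtain ⟨j, _, hj⟩ := (Nat.dvd_prime_pow Nat.prime_two).mp h2
    exact ⟨j, hj⟩
  · have h1 : (w ^ (((2 ^ e : ℕ) : ℤ) * α)) ^ o = 1 := by
      rw [← zpow_natCast, ← zpow_mul]
      have : ((2 ^ e : ℕ) : ℤ) * α * (o : ℤ) = ((2 ^ e * o : ℕ) : ℤ) * α := by push_cast; ring
      rw [this, zpow_mul, hw1, one_zpow]
    have h2 := orderOf_dvd_of_pow_eq_one h1
    have h3 : Nat.Coprime o 2 := (Nat.coprime_two_left.mpr ho).symm
    exact Nat.Coprime.coprime_dvd_left h2 h3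

/-- **The normalizer of a dihedral Sylow 2-subgroup acts on it by inner automorphisms**: any
subgroup `D` of `S` normalized by `S` is normalized by `N_X(S)`, provided `S` has an element
of order `> 2`. -/
theorem cj_eq_of_mem_normalizer (S : Sylow 2 X) (hdih : Cfsg.Agent.Helper34.Dih.DihLike (S : Subgroup X))
    (hv : ∃ v ∈ (S : Subgroup X), v * v ≠ 1) {w : X}
    (hw : w ∈ Subgroup.normalizer ((S : Subgroup X) : Set X)) {D : Subgroup X}
    (hDS : D ≤ (S : Subgroup X)) (hSD : (S : Subgroup X) ≤ Subgroup.normalizer (D : Set X)) :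
    cj w D = D := by
  obtain ⟨u, v, hwuv, hu, hv', ⟨j, hj⟩, hvo⟩ := exists_two_odd_decomp w
  have hzw : Subgroup.zpowers w ≤ Subgroup.normalizer ((S : Subgroup X) : Set X) := by
    rw [Subgroup.zpowers_le]; exact hw
  have huN : u ∈ Subgroup.normalizer ((S : Subgroup X) : Set X) := hzw hu
  have hvN : v ∈ Subgroup.normalizer ((S : Subgroup X) : Set X) := hzw hv'
  -- u ∈ S
  have huS : u ∈ (S : Subgroup X) := by
    have hP : IsPGroup 2 (Subgroup.zpowers u) := by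
      apply IsPGroup.of_card (n := j)
      rw [Nat.card_zpowers, hj]
    have h1 := hP.inf_normalizer_sylow S
    have h2 : u ∈ (Subgroup.zpowers u ⊓ Subgroup.normalizer ((S : Subgroup X) : Set X) : Subgroup X) :=
      Subgroup.mem_inf.mpr ⟨Subgroup.mem_zpowers u, huN⟩
    have h2' : u ∈ (Subgroup.zpowers u ⊓ (S : Subgroup X) : Subgroup X) := by
      rw [← h1]; exact h2
    exact (Subgroup.mem_inf.mp h2').2
  -- v centralizes S
  have hvC : v ∈ Subgroup.centralizer ((S : Subgroup X) : Set X) :=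
    hdih.centralizes_of_sq_ne_one (S : Subgroup X) le_rfl S.2 v hvN hvo hv
  have hvD : cj v D = D := by
    ext x
    rw [mem_cj]
    constructor
    · intro hx
      have hxS : v⁻¹ * x * v ∈ (S : Subgroup X) := hDS hx
      have hcomm := Subgroup.mem_centralizer_iff.mp hvC _ hxS
      -- (v⁻¹ x v) * v = v * (v⁻¹ x v)
      have : x = v⁻¹ * x * v := by
        have e1 : v * (v⁻¹ * x * v) = x * v := by group
        have e2 : v⁻¹ * x * v * v = x * v := by rw [hcomm, e1]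
        exact (mul_right_cancel e2).symm
      rw [this]; exact hx
    · intro hx
      have hxS : x ∈ (S : Subgroup X) := hDS hx
      have hcomm := Subgroup.mem_centralizer_iff.mp hvC _ hxS
      have : v⁻¹ * x * v = x := by
        calc v⁻¹ * x * v = v⁻¹ * (x * v) := by group
          _ = v⁻¹ * (v * x) := by rw [hcomm]
          _ = x := by group
      rw [this]; exact hx
  rw [hwuv, cj_mul, hvD]
  exact cj_eq_self_iff.mpr (hSD huS)

end Cfsg.Agent.Helper53.DihSyl
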