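import Mathlib
import Cfsg.Agent.Lib.Helper53.DihSyl2
import Cfsg.Agent.Lib.Helper19.Klein

/-!
Klein four-subgroups of a group with dihedral Sylow 2-subgroup of order `> 4` (helper53):
two classes, not fused.
-/

set_option autoImplicit false

namespace Cfsg.Agent.Helper53.DihSyl

open Cfsg.Agent.Helper53.Soft Cfsg.Agent.Helper19

variable {X : Type*} [Group X]

/-- conjugate of a four-group -/
theorem cj_kleinFour (c z t' z' x' : X) (hz : z * z = 1) (ht : t' * t' = 1)
    (hc : z * t' = t' * z) (hz' : z' * z' = 1) (hx' : x' * x' = 1) (hc' : z' * x' = x' * z')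
    (e1 : c * z * c⁻¹ = z') (e2 : c * t' * c⁻¹ = x') :
    cj c (kleinFour z t' hz ht hc) = kleinFour z' x' hz' hx' hc' := by
  have e3 : c * (z * t') * c⁻¹ = z' * x' := by
    rw [← e1, ← e2]; group
  have key : ∀ y w : X, c⁻¹ * y * c = w ↔ y = c * w * c⁻¹ := by
    intro y w
    constructor
    · intro h; rw [← h]; group
    · intro h; rw [h]; group
  ext y
  rw [mem_cj, mem_kleinFour, mem_kleinFour, key, key, key, key, e1, e2, e3]
  have : c * 1 * c⁻¹ = 1 := by group
  rw [this]

/-- in dihedral data, a rotation conjugates a reflection `t'` to `c c t'` -/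
theorem DD.conj_refl {S : Subgroup X} {a t : X} (h : DD S a t) {t' c : X} (ht' : t' ∈ S)
    (ht'R : t' ∉ Subgroup.zpowers a) (hc : c ∈ Subgroup.zpowers a) :
    c * t' * c⁻¹ = c * c * t' := by
  have h1 : t' * c⁻¹ * t'⁻¹ = c := by
    have := h.inv_conj ht' ht'R ((Subgroup.zpowers a).inv_mem hc)
    simpa using this
  calc c * t' * c⁻¹ = c * (t' * c⁻¹ * t'⁻¹) * t' := by group
    _ = c * c * t' := by rw [h1]

/-- a rotation involution commutes with reflections -/
theorem DD.comm_invol {S : Subgroup X} {a t : X} (h : DD S a t) {t' z : X} (ht' : t' ∈ S)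
    (ht'R : t' ∉ Subgroup.zpowers a) (hz : z ∈ Subgroup.zpowers a) (hzz : z * z = 1) :
    z * t' = t' * z := by
  have h1 := h.inv_conj ht' ht'R hz
  have hzinv : z⁻¹ = z := inv_eq_of_mul_eq_one_left hzz
  rw [hzinv] at h1
  calc z * t' = (t' * z * t'⁻¹) * t' := by rw [h1]
    _ = t' * z := by group

theorem DD.at_mem {S : Subgroup X} {a t : X} (h : DD S a t) : a * t ∈ S := S.mul_mem h.ha h.ht

theorem DD.at_not_mem {S : Subgroup X} {a t : X} (h : DD S a t) :
    a * t ∉ Subgroup.zpowers a := by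
  intro hh
  apply h.htR
  have := (Subgroup.zpowers a).mul_mem ((Subgroup.zpowers a).inv_mem (Subgroup.mem_zpowers a)) hh
  simpa using this

variable [Finite X]

/-- **No fusion** between subgroups over `⟨z, t⟩` and subgroups containing `a t`. -/
theorem no_fusion (S : Sylow 2 X) {a t z : X} (h : DD (S : Subgroup X) a t)
    (hdih : Cfsg.Agent.Helper34.Dih.DihLike (S : Subgroup X)) (haa : a * a ≠ 1)
    (hzR : z ∈ Subgroup.zpowers a) (hzz : z * z = 1) (hz1 : z ≠ 1) :
    ∀ (k : ℕ) (D E : Subgroup X), D ≤ (S : Subgroup X) → E ≤ (S : Subgroup X) → z ∈ D → t ∈ D →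
      a * t ∈ E → D ≠ (S : Subgroup X) → Nat.card (S : Subgroup X) - Nat.card D ≤ k →
      ¬ ∃ y : X, cj y D = E := by
  have htt : t * t = 1 := h.sq t h.ht h.htR
  have ht1 : t ≠ 1 := fun e => h.htR (e ▸ (Subgroup.zpowers a).one_mem)
  have hzt : z ≠ t := fun e => h.htR (e ▸ hzR)
  intro k
  induction k with
  | zero =>
    intro D E hDS _ _ _ _ hDne hk _
    apply hDne
    apply Subgroup.eq_of_le_of_card_ge hDS
    omega
  | succ k ih =>
    intro D E hDS hES hzD htD hatE hDne hk ⟨y, hy⟩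
    have hDlt : D < (S : Subgroup X) := lt_of_le_of_ne hDS hDne
    obtain ⟨y', hy'N, hy'D, hcard⟩ := tower_step S h hDlt hES hzD htD hzz htt hz1 ht1 hzt hy
    by_cases htop : nIn (S : Subgroup X) D = (S : Subgroup X)
    · -- top step
      have hNE : nIn (S : Subgroup X) E = (S : Subgroup X) := by
        apply Subgroup.eq_of_le_of_card_ge (nIn_le _ _)
        rw [← hy'N, card_cj, htop]
      rw [htop, hNE] at hy'N
      have hy'mem : y' ∈ Subgroup.normalizer ((S : Subgroup X) : Set X) := cj_eq_self_iff.mp hy'N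
      have hSD : (S : Subgroup X) ≤ Subgroup.normalizer (D : Set X) := by
        intro x hx
        have : x ∈ nIn (S : Subgroup X) D := by rw [htop]; exact hx
        exact (mem_nIn.mp this).1
      have hDD : cj y' D = D :=
        cj_eq_of_mem_normalizer S hdih ⟨a, h.ha, haa⟩ hy'mem hDS hSD
      have hDE : D = E := by rw [← hDD, hy'D]
      have hatD : a * t ∈ D := by rw [hDE]; exact hatE
      have haD : a ∈ D := by
        have := D.mul_mem hatD (D.inv_mem htD)
        simpa using this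
      have hRD : Subgroup.zpowers a ≤ D := by
        rw [Subgroup.zpowers_le]; exact haD
      apply hDne
      apply le_antisymm hDS
      intro x hx
      by_cases hxR : x ∈ Subgroup.zpowers a
      · exact hRD hxR
      · have h1 : x * t ∈ Subgroup.zpowers a := h.mul x hx t h.ht hxR h.htR
        have := D.mul_mem (hRD h1) (D.inv_mem htD)
        simpa using this
    · -- induction step
      have hD' : D ≤ nIn (S : Subgroup X) D := le_nIn hDS
      have hE' : E ≤ nIn (S : Subgroup X) E := le_nIn hES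
      have hpos : 0 < Nat.card D := Nat.card_pos
      have hle : Nat.card (nIn (S : Subgroup X) D) ≤ Nat.card (S : Subgroup X) :=
        Subgroup.card_le_of_le (nIn_le _ _)
      have hlt : Nat.card D < Nat.card (S : Subgroup X) := by
        have := two_mul_card_le_of_lt' hDlt
        omega
      exact ih (nIn (S : Subgroup X) D) (nIn (S : Subgroup X) E) (nIn_le _ _) (nIn_le _ _)
        (hD' hzD) (hD' htD) (hE' hatE) htop (by omega) ⟨y', hy'N⟩

/-- **Classification**: every four-group is conjugate to `⟨z, t⟩` or `⟨z, a t⟩`. -/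
theorem klein_conj (S : Sylow 2 X) {a t z : X} (h : DD (S : Subgroup X) a t)
    (hzR : z ∈ Subgroup.zpowers a) (hzz : z * z = 1) (hz1 : z ≠ 1)
    (V : Subgroup X) (hV4 : Nat.card V = 4) (hVsq : ∀ x ∈ V, x * x = 1) :
    ∃ g : X, cj g V = kleinFour z t hzz (h.sq t h.ht h.htR) (h.comm_invol h.ht h.htR hzR hzz) ∨
      cj g V = kleinFour z (a * t) hzz (h.sq _ h.at_mem h.at_not_mem)
        (h.comm_invol h.at_mem h.at_not_mem hzR hzz) := by
  classical
  have hVp : IsPGroup 2 V := IsPGroup.of_card (n := 2) (by rw [hV4]; norm_num)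
  obtain ⟨g, hg⟩ := exists_cj_le_sylow S hVp
  set V' := cj g V with hV'
  have hV'4 : Nat.card V' = 4 := by rw [hV', card_cj, hV4]
  have hV'sq : ∀ x ∈ V', x * x = 1 := by
    intro x hx
    rw [hV', mem_cj] at hx
    have := hVsq _ hx
    have e : x * x = g * (g⁻¹ * x * g * (g⁻¹ * x * g)) * g⁻¹ := by group
    rw [e, this]; group
  -- V' ⊓ R ⊆ {1, z}
  have hinf : ∀ x ∈ (V' ⊓ Subgroup.zpowers a : Subgroup X), x = 1 ∨ x = z := by
    intro x hx
    obtain ⟨hx1, hx2⟩ := Subgroup.mem_inf.mp hx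
    by_cases hx0 : x = 1
    · exact Or.inl hx0
    · exact Or.inr (cyc_invol_unique a hx2 hzR (hV'sq x hx1) hzz hx0 hz1)
  have hcard2 : Nat.card V' ≤ 2 * Nat.card (V' ⊓ Subgroup.zpowers a : Subgroup X) := by
    apply card_le_two_mul inf_le_left
    intro x hx y hy hx0 hy0
    have hxR : x ∉ Subgroup.zpowers a := fun hh => hx0 (Subgroup.mem_inf.mpr ⟨hx, hh⟩)
    have hyR : y ∉ Subgroup.zpowers a := fun hh => hy0 (Subgroup.mem_inf.mpr ⟨hy, hh⟩)
    exact Subgroup.mem_inf.mpr ⟨V'.mul_mem hx hy, h.mul x (hg hx) y (hg hy) hxR hyR⟩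
  -- z ∈ V'
  have hzV' : z ∈ V' := by
    by_contra hzn
    have hbot : (V' ⊓ Subgroup.zpowers a : Subgroup X) = ⊥ := by
      rw [Subgroup.eq_bot_iff_forall]
      intro x hx
      rcases hinf x hx with e | e
      · exact e
      · exfalso; apply hzn; rw [← e]; exact (Subgroup.mem_inf.mp hx).1
    rw [hbot, Subgroup.card_bot, hV'4] at hcard2
    omega
  -- an element outside R
  have hnotle : ¬ V' ≤ Subgroup.zpowers a := by
    intro hle
    have hsub : (V' : Set X) ⊆ (({1, z} : Finset X) : Set X) := by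
      intro x hx
      have := hinf x (Subgroup.mem_inf.mpr ⟨hx, hle hx⟩)
      simpa using this
    have h1 : Nat.card V' = (V' : Set X).ncard := (Nat.card_coe_set_eq _)
    have h2 := Set.ncard_le_ncard hsub (Finset.finite_toSet _)
    rw [Set.ncard_coe_finset] at h2
    have h3 : ({1, z} : Finset X).card ≤ 2 := Finset.card_le_two
    omega
  obtain ⟨x, hxV', hxR⟩ := SetLike.not_le_iff_exists.mp hnotle
  have hxS : x ∈ (S : Subgroup X) := hg hxV'
  have hxx : x * x = 1 := hV'sq x hxV'
  have hzx : z * x = x * z := h.comm_invol hxS hxR hzR hzz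
  have hx1 : x ≠ 1 := fun e => hxR (e ▸ (Subgroup.zpowers a).one_mem)
  have hzxne : z ≠ x := fun e => hxR (e ▸ hzR)
  -- V' = kleinFour z x
  have hV'eq : kleinFour z x hzz hxx hzx = V' := by
    apply Subgroup.eq_of_le_of_card_ge
    · intro y hy
      rcases mem_kleinFour.mp hy with e | e | e | e
      · rw [e]; exact V'.one_mem
      · rw [e]; exact hzV'
      · rw [e]; exact hxV'
      · rw [e]; exact V'.mul_mem hzV' hxV'
    · rw [hV'4]
      have := kleinFour_card hzz hxx hzx hz1 hx1 hzxne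
      omega
  -- x = a^n t
  have htt : t * t = 1 := h.sq t h.ht h.htR
  have htinv : t⁻¹ = t := inv_eq_of_mul_eq_one_left htt
  have hxt : x * t ∈ Subgroup.zpowers a := h.mul x hxS t h.ht hxR h.htR
  obtain ⟨n, hn⟩ := Subgroup.mem_zpowers_iff.mp hxt
  have hxeq : x = a ^ n * t := by
    rw [hn]
    calc x = x * (t * t) := by rw [htt, mul_one]
      _ = x * t * t := by group
  rcases Int.even_or_odd' n with ⟨j, hj | hj⟩
  · -- even
    have hcR : a ^ j ∈ Subgroup.zpowers a := Subgroup.zpow_mem_zpowers a j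
    have e2 : a ^ j * t * (a ^ j)⁻¹ = x := by
      rw [h.conj_refl h.ht h.htR hcR, hxeq, hj, ← zpow_add]
      congr 2; ring
    have e1 : a ^ j * z * (a ^ j)⁻¹ = z := by
      rw [zp_comm hcR hzR]; group
    have hcj := cj_kleinFour (a ^ j) z t z x hzz htt (h.comm_invol h.ht h.htR hzR hzz) hzz hxx hzx
      e1 e2
    refine ⟨(a ^ j)⁻¹ * g, Or.inl ?_⟩
    rw [cj_mul, ← hV', ← hV'eq, ← hcj, cj_inv_cj]
  · -- odd
    have hcR : a ^ j ∈ Subgroup.zpowers a := Subgroup.zpow_mem_zpowers a j
    have e2 : a ^ j * (a * t) * (a ^ j)⁻¹ = x := by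
      rw [h.conj_refl h.at_mem h.at_not_mem hcR, hxeq, hj, ← zpow_add]
      have : a ^ (2 * j + 1) = a ^ (j + j) * a := by
        rw [← zpow_add_one]; congr 1; ring
      rw [this]; group
    have e1 : a ^ j * z * (a ^ j)⁻¹ = z := by
      rw [zp_comm hcR hzR]; group
    have hcj := cj_kleinFour (a ^ j) z (a * t) z x hzz (h.sq _ h.at_mem h.at_not_mem)
      (h.comm_invol h.at_mem h.at_not_mem hzR hzz) hzz hxx hzx e1 e2
    refine ⟨(a ^ j)⁻¹ * g, Or.inr ?_⟩
    rw [cj_mul, ← hV', ← hV'eq, ← hcj, cj_inv_cj]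

end Cfsg.Agent.Helper53.DihSyl
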