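import Mathlib
import Cfsg.Agent.Lib.Helper53.TwoGroupMisc
import Cfsg.Prelude.Def_CaseTheorems

set_option autoImplicit false

namespace Cfsg.Agent.Helper53.DirProd

variable {G : Type*} [Group G]

/-- Elements of the join of two elementwise commuting subgroups are products. -/
theorem mem_sup_of_comm {A B : Subgroup G} (hc : ∀ a ∈ A, ∀ b ∈ B, a * b = b * a) {x : G}
    (hx : x ∈ A ⊔ B) : ∃ a ∈ A, ∃ b ∈ B, x = a * b := by
  rw [Subgroup.sup_eq_closure] at hx
  induction hx using Subgroup.closure_induction with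
  | mem y hy =>
    rcases hy with hy | hy
    · exact ⟨y, hy, 1, B.one_mem, by simp⟩
    · exact ⟨1, A.one_mem, y, hy, by simp⟩
  | one => exact ⟨1, A.one_mem, 1, B.one_mem, by simp⟩
  | mul y z _ _ ihy ihz =>
    obtain ⟨a, ha, b, hb, rfl⟩ := ihy
    obtain ⟨a', ha', b', hb', rfl⟩ := ihz
    refine ⟨a * a', A.mul_mem ha ha', b * b', B.mul_mem hb hb', ?_⟩
    have h := hc a' ha' b hb
    calc a * b * (a' * b') = a * (b * a') * b' := by group
      _ = a * (a' * b) * b' := by rw [h]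
      _ = a * a' * (b * b') := by group
  | inv y _ ihy =>
    obtain ⟨a, ha, b, hb, rfl⟩ := ihy
    refine ⟨a⁻¹, A.inv_mem ha, b⁻¹, B.inv_mem hb, ?_⟩
    have h := hc a ha b hb
    rw [mul_inv_rev]
    have h2 : b⁻¹ * a⁻¹ = (a * b)⁻¹ := by rw [mul_inv_rev]
    rw [h2, h, mul_inv_rev]

/-- In an (internal) direct product `P × Q`, `(A ⊔ B) ⊓ P = A` for `A ≤ P`, `B ≤ Q`. -/
theorem sup_inf_left {P Q A B : Subgroup G} (hPQ : P ⊓ Q = ⊥)
    (hc : ∀ a ∈ P, ∀ b ∈ Q, a * b = b * a) (hA : A ≤ P) (hB : B ≤ Q) :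
    (A ⊔ B) ⊓ P = A := by
  apply le_antisymm
  · rintro x ⟨hx, hxP⟩
    obtain ⟨a, ha, b, hb, rfl⟩ :=
      mem_sup_of_comm (fun a ha b hb => hc a (hA ha) b (hB hb)) hx
    have hbP : b ∈ P := by
      have : b = a⁻¹ * (a * b) := by group
      rw [this]; exact P.mul_mem (P.inv_mem (hA ha)) hxP
    have hb1 : b ∈ P ⊓ Q := ⟨hbP, hB hb⟩
    rw [hPQ, Subgroup.mem_bot] at hb1
    rw [hb1, mul_one]; exact ha
  · exact le_inf le_sup_left hA

theorem sup_inf_right {P Q A B : Subgroup G} (hPQ : P ⊓ Q = ⊥)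
    (hc : ∀ a ∈ P, ∀ b ∈ Q, a * b = b * a) (hA : A ≤ P) (hB : B ≤ Q) :
    (A ⊔ B) ⊓ Q = B := by
  have h := sup_inf_left (P := Q) (Q := P) (A := B) (B := A) (by rw [inf_comm]; exact hPQ)
    (fun a ha b hb => (hc b hb a ha).symm) hB hA
  rw [sup_comm]; exact h

/-- A proper inclusion of finite subgroups at least doubles the order. -/
theorem two_mul_card_le_of_lt [Finite G] {A B : Subgroup G} (h : A < B) :
    2 * Nat.card A ≤ Nat.card B := by
  obtain ⟨k, hk⟩ := Subgroup.card_dvd_of_le h.le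
  have hB : 0 < Nat.card B := Nat.card_pos
  have hA : 0 < Nat.card A := Nat.card_pos
  rcases k with _ | _ | k
  · rw [hk] at hB; simp at hB
  · exfalso
    apply h.ne
    apply Subgroup.eq_of_le_of_card_ge h.le
    rw [hk]; simp
  · rw [hk]; nlinarith

/-- A normal subgroup of order `2` is central. -/
theorem le_center_of_normal_of_card_two (N : Subgroup G) [N.Normal] (hN : Nat.card N = 2) :
    N ≤ Subgroup.center G := by
  intro z hz
  rw [Subgroup.mem_center_iff]
  intro g
  by_cases hz1 : z = 1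
  · rw [hz1]; simp
  · have h1 : g * z * g⁻¹ ∈ N := Subgroup.Normal.conj_mem ‹_› z hz g
    have h2 : g * z * g⁻¹ ≠ 1 := by
      intro h; apply hz1
      have : z = g⁻¹ * (g * z * g⁻¹) * g := by group
      rw [this, h]; group
    -- N has exactly two elements
    have h3 : ∀ a ∈ N, ∀ b ∈ N, a ≠ 1 → b ≠ 1 → a = b := by
      intro a ha b hb ha1 hb1
      obtain ⟨y, _, hy⟩ := (Nat.card_eq_two_iff' (1 : N)).mp hN
      have e1 : (⟨a, ha⟩ : N) = y := hy _ (fun h => ha1 (congrArg Subtype.val h))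
      have e2 : (⟨b, hb⟩ : N) = y := hy _ (fun h => hb1 (congrArg Subtype.val h))
      exact congrArg Subtype.val (e1.trans e2.symm)
    have h4 := h3 _ h1 _ hz h2 hz1
    calc g * z = g * z * g⁻¹ * g := by group
      _ = z * g := by rw [h4]

/-- A noncommutative finite `2`-group has two distinct subgroups of index `2`. -/
theorem exists_two_index_two {P : Type*} [Group P] [Finite P] (hP : IsPGroup 2 P)
    (hnc : ¬ IsMulCommutative P) :
    ∃ M₁ M₂ : Subgroup P, M₁.index = 2 ∧ M₂.index = 2 ∧ ∃ x, x ∈ M₂ ∧ x ∉ M₁ := by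
  have hbt : (⊥ : Subgroup P) ≠ ⊤ := by
    intro h
    apply hnc
    refine ⟨⟨fun a b => ?_⟩⟩
    have ha : a ∈ (⊥ : Subgroup P) := by rw [h]; trivial
    have hb : b ∈ (⊥ : Subgroup P) := by rw [h]; trivial
    rw [Subgroup.mem_bot] at ha hb
    rw [ha, hb]
  obtain ⟨M₁, -, hM₁⟩ := Cfsg.Agent.Helper53.exists_index_two_ge hP ⊥ hbt
  have hM₁top : M₁ ≠ ⊤ := by
    intro h; rw [h, Subgroup.index_top] at hM₁; norm_num at hM₁
  obtain ⟨x, hx⟩ : ∃ x, x ∉ M₁ := by
    by_contra hcon
    push Not at hcon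
    exact hM₁top (Subgroup.eq_top_iff' M₁ |>.mpr hcon)
  have hxt : Subgroup.zpowers x ≠ ⊤ := by
    intro h
    apply hnc
    refine ⟨⟨fun a b => ?_⟩⟩
    have ha : a ∈ Subgroup.zpowers x := by rw [h]; trivial
    have hb : b ∈ Subgroup.zpowers x := by rw [h]; trivial
    obtain ⟨i, rfl⟩ := Subgroup.mem_zpowers_iff.mp ha
    obtain ⟨j, rfl⟩ := Subgroup.mem_zpowers_iff.mp hb
    exact zpow_mul_comm x i j
  obtain ⟨M₂, hxM₂, hM₂⟩ := Cfsg.Agent.Helper53.exists_index_two_ge hP _ hxt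
  exact ⟨M₁, M₂, hM₁, hM₂, x, hxM₂ (Subgroup.mem_zpowers x), hx⟩

/-- In a noncommutative finite `2`-group with centre of order `2`, the centre lies in every
subgroup of index `2`. -/
theorem center_le_of_index_two {P : Type*} [Group P] [Finite P] (hP : IsPGroup 2 P)
    (hnc : ¬ IsMulCommutative P) (hZ : Nat.card (Subgroup.center P) = 2) (M : Subgroup P)
    (hM : M.index = 2) : Subgroup.center P ≤ M := by
  have : Fact (Nat.Prime 2) := ⟨Nat.prime_two⟩
  intro z hz
  by_contra hzM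
  have hz1 : z ≠ 1 := fun h => hzM (h ▸ M.one_mem)
  have hcover : ∀ g : P, g ∈ M ∨ z⁻¹ * g ∈ M := by
    intro g
    by_cases hg : g ∈ M
    · exact Or.inl hg
    · right
      rw [Subgroup.mul_mem_iff_of_index_two hM]
      constructor
      · intro h; exact absurd (M.inv_mem_iff.mp h) hzM
      · intro h; exact absurd h hg
  have hzc : ∀ g : P, g * z = z * g := fun g => Subgroup.mem_center_iff.mp hz g
  -- elements of `M` central in `M` are central in `P`
  have hcen : ∀ m ∈ M, (∀ k ∈ M, k * m = m * k) → m ∈ Subgroup.center P := by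
    intro m _ hmk
    rw [Subgroup.mem_center_iff]
    intro g
    rcases hcover g with hg | hg
    · exact hmk g hg
    · have e : g = z * (z⁻¹ * g) := by group
      have h1 := hmk _ hg
      have h2 : m * z = z * m := hzc m
      rw [e]
      calc z * (z⁻¹ * g) * m = z * ((z⁻¹ * g) * m) := by group
        _ = z * (m * (z⁻¹ * g)) := by rw [h1]
        _ = (z * m) * (z⁻¹ * g) := by group
        _ = (m * z) * (z⁻¹ * g) := by rw [h2]
        _ = m * (z * (z⁻¹ * g)) := by group
  -- the centre of `P` is `{1, z}`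
  have hcz : ∀ a ∈ Subgroup.center P, a ≠ 1 → a = z := by
    intro a ha ha1
    obtain ⟨y, _, hy⟩ := (Nat.card_eq_two_iff' (1 : Subgroup.center P)).mp hZ
    have e1 : (⟨a, ha⟩ : Subgroup.center P) = y := hy _ (fun h => ha1 (congrArg Subtype.val h))
    have e2 : (⟨z, hz⟩ : Subgroup.center P) = y := hy _ (fun h => hz1 (congrArg Subtype.val h))
    exact congrArg Subtype.val (e1.trans e2.symm)
  by_cases hMt : Nontrivial M
  · obtain ⟨m', hm'c, hm'1⟩ :=
      (Subgroup.nontrivial_iff_exists_ne_one _).mp ((hP.to_subgroup M).center_nontrivial)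
    have hmc : (m' : P) ∈ Subgroup.center P := by
      apply hcen _ m'.2
      intro k hk
      have := Subgroup.mem_center_iff.mp hm'c ⟨k, hk⟩
      exact congrArg Subtype.val this
    have hm1 : (m' : P) ≠ 1 := fun h => hm'1 (Subtype.ext h)
    have := hcz _ hmc hm1
    exact hzM (this ▸ m'.2)
  · rw [not_nontrivial_iff_subsingleton] at hMt
    have hM1 : ∀ k ∈ M, k = 1 := by
      intro k hk
      have := Subsingleton.elim (⟨k, hk⟩ : M) 1
      exact congrArg Subtype.val this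
    apply hnc
    have hall : ∀ g : P, g ∈ Subgroup.center P := by
      intro g
      rcases hcover g with hg | hg
      · rw [hM1 g hg]; exact Subgroup.one_mem _
      · have := hM1 _ hg
        have e : g = z := by
          calc g = z * (z⁻¹ * g) := by group
            _ = z := by rw [this, mul_one]
        rw [e]; exact hz
    exact ⟨⟨fun a b => (Subgroup.mem_center_iff.mp (hall b) a)⟩⟩

/-- Membership in the image of the centre of a subgroup. -/
theorem mem_map_center {P : Subgroup G} {x : G} :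
    x ∈ (Subgroup.center P).map P.subtype ↔ x ∈ P ∧ ∀ y ∈ P, y * x = x * y := by
  constructor
  · rintro ⟨z, hz, rfl⟩
    refine ⟨z.2, fun y hy => ?_⟩
    have := Subgroup.mem_center_iff.mp hz ⟨y, hy⟩
    exact congrArg Subtype.val this
  · rintro ⟨hx, hc⟩
    refine ⟨⟨x, hx⟩, ?_, rfl⟩
    show (⟨x, hx⟩ : P) ∈ Subgroup.center P
    rw [Subgroup.mem_center_iff]
    intro y
    exact Subtype.ext (hc y y.2)

/-- If all squares of `H` lie in `N ≤ H` then `H / N` is an elementary abelian `2`-section, so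
its order is bounded by the sectional rank. -/
theorem card_le_of_sq_mem {k : ℕ} [Finite G] (hr : Cfsg.SectionalPRankLE 2 k G) (H N : Subgroup G)
    (hNH : N ≤ H) (hsq : ∀ h ∈ H, h ^ 2 ∈ N) : Nat.card H ≤ 2 ^ k * Nat.card N := by
  have hnorm : (N.subgroupOf H).Normal := by
    constructor
    intro n hn h
    rw [Subgroup.mem_subgroupOf] at hn ⊢
    have e : ((h * n * h⁻¹ : H) : G) = ((h : G) * n) ^ 2 * (n : G)⁻¹ * ((h : G)⁻¹) ^ 2 := by
      push_cast; rw [sq, sq]; group
    rw [e]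
    exact N.mul_mem (N.mul_mem (hsq _ (H.mul_mem h.2 n.2)) (N.inv_mem hn))
      (hsq _ (H.inv_mem h.2))
  have hexp : ∀ a : H ⧸ N.subgroupOf H, a ^ 2 = 1 := by
    intro a
    induction a using QuotientGroup.induction_on with
    | H h =>
      rw [← QuotientGroup.mk_pow, QuotientGroup.eq_one_iff, Subgroup.mem_subgroupOf]
      push_cast
      exact hsq _ h.2
  have hcomm : ∀ a b : H ⧸ N.subgroupOf H, a * b = b * a := by
    intro a b
    have ha : a⁻¹ = a := by
      rw [inv_eq_iff_mul_eq_one, ← sq]; exact hexp a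
    have hb : b⁻¹ = b := by
      rw [inv_eq_iff_mul_eq_one, ← sq]; exact hexp b
    have hab : (a * b)⁻¹ = a * b := by
      rw [inv_eq_iff_mul_eq_one, ← sq]; exact hexp _
    rw [mul_inv_rev, ha, hb] at hab
    exact hab.symm
  have h1 := hr H (N.subgroupOf H) ⊤ ⟨⟨fun a b => Subtype.ext (hcomm a b)⟩⟩
    (fun a _ => hexp a)
  rw [Subgroup.card_top] at h1
  have h2 : Nat.card H = Nat.card (H ⧸ N.subgroupOf H) * Nat.card (N.subgroupOf H) :=
    Subgroup.card_eq_card_quotient_mul_card_subgroup _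
  have h3 : Nat.card (N.subgroupOf H) = Nat.card N :=
    Nat.card_congr (Subgroup.subgroupOfEquivOfLe hNH).toEquiv
  rw [h2, h3]
  exact Nat.mul_le_mul_right _ h1

/-- A noncommutative `2`-subgroup `P` with centre of order `2` has subgroups `A₀ < A₂ < P` with
`Z(P) ≤ A₀` and all squares of `P` in `A₀`. -/
theorem exists_chain [Finite G] (P : Subgroup G) (hP : IsPGroup 2 P)
    (hnc : ¬ IsMulCommutative P) (hZ : Nat.card (Subgroup.center P) = 2) :
    ∃ A₀ A₂ : Subgroup G, A₀ < A₂ ∧ A₂ < P ∧ (Subgroup.center P).map P.subtype ≤ A₀ ∧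
      ∀ x ∈ P, x ^ 2 ∈ A₀ := by
  obtain ⟨M₁, M₂, hM₁, hM₂, x, hxM₂, hxM₁⟩ := exists_two_index_two hP hnc
  refine ⟨(M₁ ⊓ M₂).map P.subtype, M₂.map P.subtype, ?_, ?_, ?_, ?_⟩
  · refine lt_of_le_of_ne (Subgroup.map_mono inf_le_right) ?_
    intro h
    have h1 : (x : G) ∈ M₂.map P.subtype := ⟨x, hxM₂, rfl⟩
    rw [← h] at h1
    obtain ⟨y, hy, hyx⟩ := h1
    have : y = x := Subtype.ext hyx
    rw [this] at hy
    exact hxM₁ hy.1
  · have hle : M₂.map P.subtype ≤ P := by
      rintro _ ⟨y, _, rfl⟩; exact y.2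
    refine lt_of_le_of_ne hle ?_
    intro h
    have hM₂top : M₂ = ⊤ := by
      rw [Subgroup.eq_top_iff']
      intro y
      have h1 : (y : G) ∈ M₂.map P.subtype := by rw [h]; exact y.2
      obtain ⟨y', hy', hyy⟩ := h1
      have : y' = y := Subtype.ext hyy
      rw [← this]; exact hy'
    rw [hM₂top, Subgroup.index_top] at hM₂
    norm_num at hM₂
  · apply Subgroup.map_mono
    exact le_inf (center_le_of_index_two hP hnc hZ M₁ hM₁) (center_le_of_index_two hP hnc hZ M₂ hM₂)
  · intro y hy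
    refine ⟨(⟨y, hy⟩ : P) ^ 2, ⟨Subgroup.sq_mem_of_index_two hM₁ _, Subgroup.sq_mem_of_index_two hM₂ _⟩, ?_⟩
    simp

end Cfsg.Agent.Helper53.DirProd
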