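import Cfsg.Agent.Lib.Helper53.IPDefs
import Cfsg.Agent.Lib.Helper20.IPBasics
import Cfsg.Agent.Lib.Helper91.BLeFour
import Cfsg.Agent.Lib.Helper79.DG2GT
import Cfsg.Agent.Lib.Helper19.DG2B

/-!
# IP (helper53): pieces (G1) (G2) (G4) (G5) (G7) and `b ≤ 4 ⇒ solvable` of the S4463 server, from the landed
libraries of helper20 (`IPBasics`) and helper91 (`BLeFour`)
-/

set_option autoImplicit false

namespace Cfsg.Agent.Helper53.IPLib

open Cfsg Cfsg.Agent.Helper53.IP
open scoped ComplexConjugate commutatorElement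

universe u

theorem degLe_subgroup {G : Type u} [Group G] [Finite G] (b : ℕ) (h : DegLe G b) (H : Subgroup G) :
    DegLe H b :=
  fun ψ => Cfsg.Agent.Helper20.IP.degree_le_of_subgroup b h H ψ

theorem degLe_quotient {G : Type u} [Group G] [Finite G] (b : ℕ) (h : DegLe G b) (K : Subgroup G)
    [K.Normal] : DegLe (G ⧸ K) b := by
  intro β
  obtain ⟨ψ, hψ⟩ := Cfsg.Agent.Helper79.DG2.inflate_deg K β
  rw [← hψ]
  exact h ψ

theorem exists_restrict_eq {G : Type u} [Group G] [Finite G] (b : ℕ) (h : DegLe G b)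
    (H : Subgroup G) (ψ : IrrCharacter H) (hψ : charDegree (ψ : H → ℂ) = b) :
    ∃ χ : IrrCharacter G, ∀ x : H, (χ : G → ℂ) x = (ψ : H → ℂ) x :=
  (Cfsg.Agent.Helper20.IP.extends_and_vanishes b h H ψ hψ).1

theorem vanish_off_core {G : Type u} [Group G] [Finite G] (b : ℕ) (h : DegLe G b)
    (H : Subgroup G) (ψ : IrrCharacter H) (hψ : charDegree (ψ : H → ℂ) = b) :
    ∀ x : H, (x : G) ∉ H.normalCore → (ψ : H → ℂ) x = 0 := by
  intro x hx
  by_contra hne
  apply hx
  have h2 := (Cfsg.Agent.Helper20.IP.extends_and_vanishes b h H ψ hψ).2 x hne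
  rw [Subgroup.normalCore]
  exact fun g => h2 g

theorem degLe_half {G : Type u} [Group G] [Finite G] (b : ℕ) (h : DegLe G b) (K : Subgroup G)
    [K.Normal] (hK : ¬ commutator G ≤ K) : DegLe K (b / 2) := by
  have hna : ¬ ∀ x y : G ⧸ K, x * y = y * x := by
    intro hcomm
    apply hK
    rw [commutator_def, Subgroup.commutator_le]
    intro a _ c _
    rw [← QuotientGroup.eq_one_iff, commutatorElement_def]
    have h1 := hcomm (a : G ⧸ K) (c : G ⧸ K)
    calc ((a * c * a⁻¹ * c⁻¹ : G) : G ⧸ K)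
        = (a : G ⧸ K) * (c : G ⧸ K) * (a : G ⧸ K)⁻¹ * (c : G ⧸ K)⁻¹ := by simp
      _ = (c : G ⧸ K) * (a : G ⧸ K) * (a : G ⧸ K)⁻¹ * (c : G ⧸ K)⁻¹ := by rw [h1]
      _ = 1 := by group
  intro φ
  have h2 := Cfsg.Agent.Helper20.IP.two_mul_degree_le_of_nonabelian_quotient b h K hna φ
  omega

theorem solvable_of_degLe_four (G : Type u) [Group G] [Finite G] (h : DegLe G 4) :
    Group.IsSolvable G :=
  Cfsg.Agent.Helper91.BLeFour.solvable_of_degrees_le_four h

end Cfsg.Agent.Helper53.IPLib
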