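import Cfsg.Agent.Lib.Helper20.IPF1
import Cfsg.Agent.Lib.Helper20.IPG6
import Cfsg.Agent.Lib.Helper30.IPNUM
import Cfsg.Agent.Lib.Helper44.IPN1
import Cfsg.Agent.Lib.Helper44.IPN2
import Cfsg.Agent.Lib.Helper89.IPN4
import Cfsg.Agent.Lib.Helper53.IPLib
import Cfsg.Agent.Lib.Helper89.DG2Main
import Cfsg.Agent.Lib.Helper19.DG2B
import Cfsg.Agent.Lib.Helper55.CD3L123
import Cfsg.Agent.Lib.Helper20.CD3FD
import Cfsg.Agent.Lib.Helper20.CD3S124
import Cfsg.Agent.Lib.Helper74.IPPG

/-!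
# IP (helper53): assembly of S4463 (Isaacs–Passman: an abelian subgroup of index at most `(b!)²`)
-/

set_option autoImplicit false
set_option linter.style.haveILetI false

namespace Cfsg.Agent.Helper53.IPMain

open Cfsg Cfsg.Agent.Helper53.IP Cfsg.Agent.Helper53.IPLib
open scoped ComplexConjugate commutatorElement

universe u

theorem hasAb_mono {G : Type u} [Group G] {n m : ℕ} (h : HasAb G n) (hnm : n ≤ m) : HasAb G m := by
  obtain ⟨A, hA, hi⟩ := h
  exact ⟨A, hA, le_trans hi hnm⟩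

theorem hasAb_of_subgroup {G : Type u} [Group G] (H : Subgroup G) (n : ℕ)
    (h : HasAb H n) : HasAb G (H.index * n) := by
  obtain ⟨A, hA, hi⟩ := h
  refine ⟨A.map H.subtype, ?_, ?_⟩
  · rintro x ⟨a, ha, rfl⟩ y ⟨c, hc, rfl⟩
    have := hA a ha c hc
    simp only [Subgroup.coe_subtype]
    rw [← Subgroup.coe_mul, ← Subgroup.coe_mul, this]
  · rw [Subgroup.index_map_subtype, mul_comm]
    exact Nat.mul_le_mul_left _ hi

theorem one_le_of_degLe {G : Type u} [Group G] [Finite G] (b : ℕ) (h : DegLe G b) : 1 ≤ b := by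
  haveI : Fintype G := Fintype.ofFinite G
  have h1 := h ⟨_, Cfsg.Agent.Helper81.isIrrCharacter_one (G := G)⟩
  have h2 : charDegree (fun _ : G => (1 : ℂ)) = 1 := by
    unfold charDegree
    simp
  rw [h2] at h1
  exact h1

theorem alt_of_nonab {G : Type u} [Group G] [Finite G] (b : ℕ) (h : DegLe G b)
    (hna : ¬ ∀ a b : G, a * b = b * a) : Alt G b := by
  obtain ⟨K, hKn, hK, hmax⟩ := Cfsg.Agent.Helper89.DG2.exists_max_nonab hna
  haveI := hKn
  have hhalf := degLe_half b h K hK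
  have hQ := degLe_quotient b h K
  obtain ⟨hna', hq⟩ := Cfsg.Agent.Helper19.DG2.bridge K hK hmax
  by_cases hsol : Group.IsSolvable (G ⧸ K)
  · haveI := hsol
    obtain ⟨p, hp, hP | ⟨F, hFn, hFrob⟩⟩ := Cfsg.Agent.Helper55.CD3W.frob_or_pgroup K hK hmax
    · left
      haveI : Fintype G := Fintype.ofFinite G
      obtain ⟨H, hHi, hHd⟩ := Cfsg.Agent.Helper74.IP.pgroup_case K hK hmax p hp hP b h
      exact ⟨H, hHi, fun ψ => Nat.le_sub_one_of_lt (hHd ψ)⟩
    · haveI := hFn
      obtain ⟨⟨χ, hχ⟩, hf1⟩ := Cfsg.Agent.Helper20.CD3.frob_deg K F p hFrob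
      obtain ⟨k, hk, hrel⟩ := hFrob.card
      have hfb : F.index ≤ b := hχ ▸ h χ
      exact Cfsg.Agent.Helper20.IP.frobcase b h K F p k hFrob.prime hk hFrob.le hrel hFrob.ndvd hf1 hfb
        (Cfsg.Agent.Helper20.CD3.strong124 K F (Cfsg.Agent.Helper20.CD3.frob_habF hFrob)
          (Cfsg.Agent.Helper20.CD3.frob_habG hFrob) (Cfsg.Agent.Helper20.CD3.frob_hfpf hFrob))
        (degLe_subgroup b h F) hhalf
        (fun ψ hv => Cfsg.Agent.Helper20.IP.index_eq_of_vanish (K.subgroupOf F) ψ (fun x hx => hv x hx))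
        (Cfsg.Agent.Helper30.IP.numeric b).1
  · haveI : Nontrivial (G ⧸ K) := by
      by_contra hnt
      rw [not_nontrivial_iff_subsingleton] at hnt
      exact hna' (fun a b => Subsingleton.elim _ _)
    obtain ⟨x, hx1, hxi⟩ := Cfsg.Agent.Helper44.IP.exists_small_class b hQ
    have hcore := Cfsg.Agent.Helper44.IP.core_centralizer_eq_bot hq hsol x hx1
    exact Cfsg.Agent.Helper89.IP.nscase b K hsol x hxi hcore (fun H => degLe_subgroup b h H)
      (fun H ψ hψ => vanish_off_core b h H ψ hψ)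
      (fun H ψ hKH hv => Cfsg.Agent.Helper20.IP.index_eq_of_vanish (K.subgroupOf H) ψ (fun y hy => hv y hy))
      hhalf (solvable_of_degLe_four (G ⧸ K)) hQ (Cfsg.Agent.Helper30.IP.numeric b).2.1

theorem main_aux : ∀ (b : ℕ) (G : Type u) [Group G] [Finite G], DegLe G b →
    HasAb G ((b.factorial) ^ 2) := by
  intro b
  induction b using Nat.strong_induction_on with
  | _ b ih =>
    intro G _ _ h
    by_cases hab : ∀ x y : G, x * y = y * x
    · refine ⟨⊤, fun x _ y _ => hab x y, ?_⟩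
      rw [Subgroup.index_top]
      exact Nat.one_le_iff_ne_zero.2 (pow_ne_zero _ (Nat.factorial_ne_zero b))
    · have hb1 := one_le_of_degLe b h
      obtain ⟨hn3, hn4, hnL, hnN⟩ := Cfsg.Agent.Helper30.IP.numeric b
      rcases alt_of_nonab b h hab with ⟨H, hHi, hHd⟩ | ⟨K, hKi, hKd⟩
      · have h1 := ih (b - 1) (by omega) H hHd
        have h2 := hasAb_of_subgroup H _ h1
        refine hasAb_mono h2 ?_
        rw [← hnL hb1]
        exact Nat.mul_le_mul_right _ hHi
      · have h1 := ih (b / 2) (Nat.div_lt_self (by omega) (by norm_num)) K hKd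
        have h2 := hasAb_of_subgroup K _ h1
        refine hasAb_mono h2 ?_
        rw [← hnN]
        exact Nat.mul_le_mul_right _ hKi

/-- **Isaacs–Passman** (S4463). -/
theorem isaacs_passman {G : Type u} [Group G] [Finite G] (b : ℕ) (h : DegLe G b) :
    HasAb G ((b.factorial) ^ 2) :=
  main_aux b G h

end Cfsg.Agent.Helper53.IPMain
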