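import Mathlib
import Cfsg.Agent.S0638
import Cfsg.Agent.Lib.Helper53.MC3Defs

set_option autoImplicit false

namespace Cfsg.Agent.Helper53.MC3

open Subgroup

universe u

section A
variable {L : Type u} [Group L] [Finite L] {p : ℕ} [Fact p.Prime]

/-- (A2) `Ω₁`: restatement of the landed `Cfsg.Agent.S0638.result` in elementwise form. -/
theorem om1 (hp : p ≠ 2) (hL : IsPGroup p L) (hmc : Cfsg.IsMetacyclic L) (hncyc : ¬ IsCyclic L) :
    (∀ x y : L, x ^ p = 1 → y ^ p = 1 → (x * y) ^ p = 1 ∧ x * y = y * x) ∧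
      Nat.card {x : L // x ^ p = 1} = p ^ 2 := by
  obtain ⟨⟨hcomm, hexp⟩, hcard⟩ := Cfsg.Agent.S0638.result hp hL hmc hncyc
  have hmem : ∀ x : L, x ∈ Cfsg.omegaOne p (⊤ : Subgroup L) ↔ x ^ p = 1 := by
    intro x
    constructor
    · exact hexp x
    · intro hx
      exact Subgroup.subset_closure ⟨Subgroup.mem_top x, hx⟩
  constructor
  · intro x y hx hy
    have hxm := (hmem x).mpr hx
    have hym := (hmem y).mpr hy
    refine ⟨(hmem _).mp (Subgroup.mul_mem _ hxm hym), ?_⟩
    have := hcomm.is_comm.comm (⟨x, hxm⟩ : Cfsg.omegaOne p (⊤ : Subgroup L)) ⟨y, hym⟩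
    exact congrArg Subtype.val this
  · rw [← hcard]
    apply Nat.card_congr
    exact
      { toFun := fun x => ⟨x.1, (hmem x.1).mpr x.2⟩
        invFun := fun x => ⟨x.1, (hmem x.1).mp x.2⟩
        left_inv := fun x => rfl
        right_inv := fun x => rfl }

end A

end Cfsg.Agent.Helper53.MC3
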