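import Mathlib
import Cfsg.Agent.Lib.Helper53.SectRank
import Cfsg.Agent.Lib.Helper53.TwoGroupMisc
import Cfsg.Agent.Lib.Helper73.TwoGroupC

set_option autoImplicit false

universe u

namespace Cfsg.Agent.Helper53

open Cfsg
open scoped commutatorElement

theorem card_mul_relIndex_of_le {G : Type*} [Group G] {H K : Subgroup G} (h : H ≤ K) :
    Nat.card H * H.relIndex K = Nat.card K := by
  have := Subgroup.relIndex_mul_relIndex (H := ⊥) (K := H) (L := K) bot_le h
  rwa [Subgroup.relIndex_bot_left, Subgroup.relIndex_bot_left] at this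

theorem relIndex_comm_map_subtype {S : Type*} [Group S] (M : Subgroup S) (H' : Subgroup M) :
    (⁅H'.map M.subtype, H'.map M.subtype⁆).relIndex (H'.map M.subtype) =
      (⁅H', H'⁆).relIndex H' := by
  rw [← Subgroup.map_commutator, Subgroup.relIndex_map_map_of_injective _ _ M.subtype_injective]

theorem relIndex_comm_self_eq {S : Type*} [Group S] (M : Subgroup S) :
    (⁅M, M⁆).relIndex M = (commutator M).index := by
  have := relIndex_comm_map_subtype M ⊤
  rw [← MonoidHom.range_eq_map, Subgroup.range_subtype] at this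
  rw [this, ← commutator_def, Subgroup.relIndex_top_right]

theorem relIndex_comm_subgroupOf {S : Type*} [Group S] {H M : Subgroup S} (h : H ≤ M) :
    (⁅H.subgroupOf M, H.subgroupOf M⁆).relIndex (H.subgroupOf M) = (⁅H, H⁆).relIndex H := by
  have := relIndex_comm_map_subtype M (H.subgroupOf M)
  rw [Subgroup.map_subgroupOf_eq_of_le h] at this
  exact this.symm

theorem normal_of_le_center {G : Type*} [Group G] (Z : Subgroup G) (h : Z ≤ Subgroup.center G) :
    Z.Normal := by
  refine ⟨fun n hn g => ?_⟩
  have := Subgroup.mem_center_iff.mp (h hn) g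
  rw [this, mul_inv_cancel_right]
  exact hn

/-- Base case: order 16 with a nonabelian subgroup of index 2. -/
theorem index_commutator_eq_four_base {S : Type*} [Group S] [Finite S] (hS : IsPGroup 2 S)
    (hc : Nat.card S = 16) (hr : SectionalPRankLE 2 2 S) (M : Subgroup S) (hM : M.index = 2)
    (hMc : (⁅M, M⁆).relIndex M = 4) : (commutator S).index = 4 := by
  have hf2 : Fact (Nat.Prime 2) := ⟨Nat.prime_two⟩
  have hMn : M.Normal := Subgroup.normal_of_index_eq_two hM
  have hDM : ⁅M, M⁆ ≤ M := Subgroup.commutator_le_right M M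
  have hcM : Nat.card M = 8 := by
    have := M.card_mul_index
    rw [hM, hc] at this
    omega
  have hcD : Nat.card (⁅M, M⁆ : Subgroup S) = 2 := by
    have := card_mul_relIndex_of_le hDM
    rw [hMc, hcM] at this
    omega
  have hDne : (⁅M, M⁆ : Subgroup S) ≠ ⊥ := by
    intro h
    rw [h, Subgroup.card_bot] at hcD
    omega
  obtain ⟨z, hzD, hz2, hzc⟩ := exists_central_invol_of_normal hS ⁅M, M⁆ hDne
  have hDz : (⁅M, M⁆ : Subgroup S) = Subgroup.zpowers z := by
    symm
    apply Subgroup.eq_of_le_of_card_ge ((Subgroup.zpowers_le).mpr hzD)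
    rw [Nat.card_zpowers, hz2, hcD]
  have hz1 : z ≠ 1 := by
    intro h
    rw [h, orderOf_one] at hz2
    omega
  have hzz : z * z = 1 := by
    rw [← pow_two, ← hz2]; exact pow_orderOf_eq_one z
  have hDS : (⁅M, M⁆ : Subgroup S) ≤ commutator S := by
    rw [commutator_def]; exact Subgroup.commutator_mono le_top le_top
  have hSne : commutator S ≠ ⊥ := fun h => hDne (le_bot_iff.mp (h ▸ hDS))
  have h4 := Cfsg.Agent.Helper73.four_dvd_index_commutator hS hSne
  have hci := (commutator S).card_mul_index
  rw [hc] at hci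
  have hc2 : 2 ≤ Nat.card (commutator S) := by
    rw [← hcD]; exact Nat.le_of_dvd Nat.card_pos (Subgroup.card_dvd_of_le hDS)
  by_contra hne
  -- then the commutator subgroup has order 2
  have hcS : Nat.card (commutator S) = 2 := by
    obtain ⟨c, hcc⟩ := h4
    rw [hcc] at hci hne
    have hc8 : Nat.card (commutator S) * c = 4 := by
      have : 4 * (Nat.card (commutator S) * c) = 4 * 4 := by
        have e : (4 : ℕ) * 4 = 16 := by norm_num
        rw [e, ← hci]; ring
      omega
    have hcle : c ≤ 4 := Nat.le_of_dvd (by norm_num) ⟨_, by rw [mul_comm]; exact hc8.symm⟩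
    interval_cases c <;> omega
  have hSD : commutator S = ⁅M, M⁆ := by
    symm
    apply Subgroup.eq_of_le_of_card_ge hDS
    rw [hcS, hcD]
  -- some square is outside `D`
  have hex : ∃ x : S, x ^ 2 ∉ (⁅M, M⁆ : Subgroup S) := by
    by_contra hall
    push Not at hall
    have hQc : ∀ a b : S ⧸ (⁅M, M⁆ : Subgroup S), a * b = b * a := by
      intro a b
      obtain ⟨a, rfl⟩ := QuotientGroup.mk_surjective a
      obtain ⟨b, rfl⟩ := QuotientGroup.mk_surjective b
      rw [← QuotientGroup.mk_mul, ← QuotientGroup.mk_mul, QuotientGroup.eq]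
      rw [← hSD]
      have : (a * b)⁻¹ * (b * a) = ⁅b⁻¹, a⁻¹⁆ := by
        simp [commutatorElement_def, mul_assoc]
      rw [this]
      exact Subgroup.commutator_mem_commutator (Subgroup.mem_top _) (Subgroup.mem_top _)
    have hpr := pRankLE_quotient_of_sectional (⁅M, M⁆ : Subgroup S) hr
    have hle := hpr ⊤ ⟨⟨fun a b => Subtype.ext (hQc a.1 b.1)⟩⟩ (by
      intro a _
      obtain ⟨a, rfl⟩ := QuotientGroup.mk_surjective a
      rw [← QuotientGroup.mk_pow, QuotientGroup.eq_one_iff]
      exact hall a)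
    rw [Subgroup.card_top] at hle
    have hQ8 : Nat.card (S ⧸ (⁅M, M⁆ : Subgroup S)) = 8 := by
      have := Subgroup.card_eq_card_quotient_mul_card_subgroup (⁅M, M⁆ : Subgroup S)
      rw [hc, hcD] at this
      omega
    omega
  obtain ⟨x, hx⟩ := hex
  -- commutators are `1` or `z`
  have hcomm : ∀ g y : S, g * y = y * g ∨ g * y = z * (y * g) := by
    intro g y
    have h1 : ⁅g, y⁆ ∈ commutator S :=
      Subgroup.commutator_mem_commutator (Subgroup.mem_top _) (Subgroup.mem_top _)
    rw [hSD, hDz] at h1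
    obtain ⟨i, hi⟩ := Subgroup.mem_zpowers_iff.mp h1
    have h2 : g * y = ⁅g, y⁆ * (y * g) := by simp [commutatorElement_def, mul_assoc]
    rcases Int.even_or_odd i with ⟨j, hj⟩ | ⟨j, hj⟩
    · left
      have : z ^ i = 1 := by
        rw [hj, ← two_mul, zpow_mul, zpow_ofNat, pow_two, hzz, one_zpow]
      rw [h2, ← hi, this, one_mul]
    · right
      have : z ^ i = z := by
        rw [hj, zpow_add, zpow_mul, zpow_ofNat, pow_two, hzz, one_zpow, one_mul, zpow_one]
      rw [h2, ← hi, this]
  have hzcomm : ∀ y : S, y * z = z * y := fun y => Subgroup.mem_center_iff.mp hzc y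
  have hwc : ∀ y : S, y * x ^ 2 = x ^ 2 * y := by
    intro y
    rcases hcomm x y with h | h
    · exact (show Commute y x from h.symm).pow_right 2
    · symm
      calc x ^ 2 * y = x * (x * y) := by rw [pow_two, mul_assoc]
        _ = x * (z * (y * x)) := by rw [h]
        _ = z * ((x * y) * x) := by rw [← mul_assoc x z, hzcomm x]; simp only [mul_assoc]
        _ = z * (z * (y * x) * x) := by rw [h]
        _ = (z * z) * (y * x ^ 2) := by rw [pow_two]; simp only [mul_assoc]
        _ = y * x ^ 2 := by rw [hzz, one_mul]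
  have hwM : x ^ 2 ∈ M := Subgroup.sq_mem_of_index_two hM x
  -- the centre of `M` has order at least 4, so `M` is abelian
  let Z' : Subgroup M := (Subgroup.center S).subgroupOf M
  have hZ'c : Z' ≤ Subgroup.center M := by
    intro m hm
    rw [Subgroup.mem_center_iff]
    intro g
    apply Subtype.ext
    have := Subgroup.mem_center_iff.mp (Subgroup.mem_subgroupOf.mp hm) g.1
    exact this
  have hZ'n : Z'.Normal := normal_of_le_center Z' hZ'c
  let z' : M := ⟨z, hDM hzD⟩
  let w' : M := ⟨x ^ 2, hwM⟩
  have hz'Z : z' ∈ Z' := Subgroup.mem_subgroupOf.mpr hzc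
  have hw'Z : w' ∈ Z' := by
    apply Subgroup.mem_subgroupOf.mpr
    rw [Subgroup.mem_center_iff]
    exact hwc
  have hlt : Subgroup.zpowers z' < Z' := by
    refine lt_of_le_of_ne ((Subgroup.zpowers_le).mpr hz'Z) ?_
    intro h
    rw [← h] at hw'Z
    obtain ⟨i, hi⟩ := Subgroup.mem_zpowers_iff.mp hw'Z
    apply hx
    rw [hDz]
    refine Subgroup.mem_zpowers_iff.mpr ⟨i, ?_⟩
    have := congrArg Subtype.val hi
    simpa using this
  have hcz' : Nat.card (Subgroup.zpowers z') = 2 := by
    rw [Nat.card_zpowers]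
    have : orderOf z' = orderOf z := by
      rw [← Subgroup.orderOf_coe z']
    rw [this, hz2]
  have hcZ' : 4 ≤ Nat.card Z' := by
    have h1 : Nat.card (Subgroup.zpowers z') ∣ Nat.card Z' := Subgroup.card_dvd_of_le hlt.le
    have h2 : Nat.card Z' ∣ 8 := by rw [← hcM]; exact Subgroup.card_subgroup_dvd_card Z'
    have h3 : Nat.card Z' ≠ 2 := by
      intro h
      apply hlt.ne
      apply Subgroup.eq_of_le_of_card_ge hlt.le
      rw [h, hcz']
    rw [hcz'] at h1
    have h4 : Nat.card Z' ≤ 8 := Nat.le_of_dvd (by norm_num) h2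
    have h5 : 0 < Nat.card Z' := Nat.card_pos
    obtain ⟨c, hc'⟩ := h1
    omega
  have hidx : Nat.card (M ⧸ Z') ≤ 2 := by
    have := Subgroup.card_eq_card_quotient_mul_card_subgroup Z'
    rw [hcM] at this
    nlinarith
  have hcyc : IsCyclic (M ⧸ Z') := by
    have hpos : 0 < Nat.card (M ⧸ Z') := Nat.card_pos
    rcases (show Nat.card (M ⧸ Z') = 1 ∨ Nat.card (M ⧸ Z') = 2 by omega) with h | h
    · have : Subsingleton (M ⧸ Z') := (Nat.card_eq_one_iff_unique.mp h).1
      exact isCyclic_of_subsingleton
    · exact isCyclic_of_prime_card h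
  have hMc' : IsMulCommutative M :=
    MonoidHom.isMulCommutative_of_isCyclic_of_ker_le_center (QuotientGroup.mk' Z')
      (by rw [QuotientGroup.ker_mk']; exact hZ'c)
  have hMcomm : ∀ a b : M, a * b = b * a := fun a b => mul_comm' a b
  apply hDne
  rw [Subgroup.commutator_eq_bot_iff_le_centralizer]
  intro a ha
  rw [Subgroup.mem_centralizer_iff]
  intro b hb
  have := hMcomm ⟨b, hb⟩ ⟨a, ha⟩
  exact congrArg Subtype.val this

/-- A `2`-group of sectional rank at most `2` having a subgroup `H` of order at least `8` with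
`|H : H'| = 4` has `|S : S'| = 4`. -/
theorem index_commutator_eq_four_aux : ∀ (n : ℕ) (S : Type u) [Group S] [Finite S],
    Nat.card S = n → IsPGroup 2 S → SectionalPRankLE 2 2 S →
    (∃ H : Subgroup S, 8 ≤ Nat.card H ∧ (⁅H, H⁆).relIndex H = 4) →
    (commutator S).index = 4 := by
  intro n
  induction n using Nat.strong_induction_on with
  | _ n ih =>
  intro S _ _ hn hS hr hex
  obtain ⟨H, hH8, hH4⟩ := hex
  have hf2 : Fact (Nat.Prime 2) := ⟨Nat.prime_two⟩
  by_cases hHtop : H = ⊤
  · subst hHtop
    rw [← commutator_def, Subgroup.relIndex_top_right] at hH4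
    exact hH4
  obtain ⟨M, hHM, hM2⟩ := exists_index_two_ge hS H hHtop
  have hMn : M.Normal := Subgroup.normal_of_index_eq_two hM2
  have hMcard : Nat.card M * 2 = n := by rw [← hM2, ← hn]; exact M.card_mul_index
  have hMpos : 0 < Nat.card M := Nat.card_pos
  have hM4 : (⁅M, M⁆).relIndex M = 4 := by
    rw [relIndex_comm_self_eq]
    refine ih (Nat.card M) (by omega) M rfl (hS.to_subgroup M) (sectionalPRankLE_subgroup M hr)
      ⟨H.subgroupOf M, ?_, ?_⟩
    · rw [Nat.card_congr (Subgroup.subgroupOfEquivOfLe hHM).toEquiv]; exact hH8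
    · rw [relIndex_comm_subgroupOf hHM]; exact hH4
  have hM8 : 8 ≤ Nat.card M := le_trans hH8 (Nat.le_of_dvd hMpos (Subgroup.card_dvd_of_le hHM))
  have hDM : ⁅M, M⁆ ≤ M := Subgroup.commutator_le_right M M
  have hcD := card_mul_relIndex_of_le hDM
  rw [hM4] at hcD
  obtain ⟨k, hk⟩ := IsPGroup.iff_card.mp (hS.to_subgroup M)
  have hk3 : 3 ≤ k := by
    by_contra h
    push Not at h
    have : (2 : ℕ) ^ k ≤ 2 ^ 2 := Nat.pow_le_pow_right (by norm_num) (by omega)
    rw [← hk] at this
    omega
  rcases (show k = 3 ∨ 4 ≤ k by omega) with rfl | hk4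
  · -- base case
    refine index_commutator_eq_four_base hS ?_ hr M hM2 hM4
    rw [hn, ← hMcard, hk]; norm_num
  -- general step
  have h16 : 16 ≤ Nat.card M := by
    rw [hk]
    calc 16 = 2 ^ 4 := by norm_num
      _ ≤ 2 ^ k := Nat.pow_le_pow_right (by norm_num) hk4
  have hDne : (⁅M, M⁆ : Subgroup S) ≠ ⊥ := by
    intro h
    rw [h, Subgroup.card_bot] at hcD
    omega
  obtain ⟨z, hzD, hz2, hzc⟩ := exists_central_invol_of_normal hS ⁅M, M⁆ hDne
  have hZc : Subgroup.zpowers z ≤ Subgroup.center S := (Subgroup.zpowers_le).mpr hzc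
  have hZn : (Subgroup.zpowers z).Normal := normal_of_le_center _ hZc
  have hZD : Subgroup.zpowers z ≤ ⁅M, M⁆ := (Subgroup.zpowers_le).mpr hzD
  have hZM : Subgroup.zpowers z ≤ M := hZD.trans hDM
  have hDS : (⁅M, M⁆ : Subgroup S) ≤ commutator S := by
    rw [commutator_def]; exact Subgroup.commutator_mono le_top le_top
  have hcZ : Nat.card (Subgroup.zpowers z) = 2 := by rw [Nat.card_zpowers, hz2]
  let f : S →* S ⧸ Subgroup.zpowers z := QuotientGroup.mk' (Subgroup.zpowers z)
  have hfs : Function.Surjective f := QuotientGroup.mk'_surjective _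
  have hker : f.ker = Subgroup.zpowers z := QuotientGroup.ker_mk' _
  have hQcard : Nat.card (S ⧸ Subgroup.zpowers z) * 2 = n := by
    have := Subgroup.card_eq_card_quotient_mul_card_subgroup (Subgroup.zpowers z)
    rw [hcZ, hn] at this
    exact this.symm
  have hQ : (commutator (S ⧸ Subgroup.zpowers z)).index = 4 := by
    refine ih (Nat.card (S ⧸ Subgroup.zpowers z)) (by omega) (S ⧸ Subgroup.zpowers z) rfl
      (hS.to_quotient _) (sectionalPRankLE_quotient _ hr) ⟨M.map f, ?_, ?_⟩
    · have h1 : (M.map f).index = 2 := by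
        rw [Subgroup.index_map_eq M hfs (by rw [hker]; exact hZM)]; exact hM2
      have h2 := (M.map f).card_mul_index
      rw [h1] at h2
      omega
    · rw [← Subgroup.map_commutator, Subgroup.relIndex_map_map, hker, sup_of_le_left hZD,
        sup_of_le_left hZM]
      exact hM4
  have hmap : commutator (S ⧸ Subgroup.zpowers z) = (commutator S).map f := by
    rw [commutator_def, commutator_def, Subgroup.map_commutator,
      Subgroup.map_top_of_surjective f hfs]
  rw [hmap, Subgroup.index_map_eq _ hfs (by rw [hker]; exact hZD.trans hDS)] at hQ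
  exact hQ

/-- A `2`-group of sectional rank at most `2` with a nonabelian subgroup of order `8` has
commutator quotient of order `4`. -/
theorem index_commutator_eq_four {S : Type u} [Group S] [Finite S] (hS : IsPGroup 2 S)
    (hr : SectionalPRankLE 2 2 S) (H : Subgroup S) (hH8 : Nat.card H = 8)
    (hna : ∃ a b : H, a * b ≠ b * a) : (commutator S).index = 4 := by
  refine index_commutator_eq_four_aux _ S rfl hS hr ⟨H, hH8.ge, ?_⟩
  rw [relIndex_comm_self_eq]
  have hHne : commutator H ≠ ⊥ := by
    intro h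
    obtain ⟨a, b, hab⟩ := hna
    apply hab
    have h1 : ⁅a, b⁆ ∈ commutator H :=
      Subgroup.commutator_mem_commutator (Subgroup.mem_top _) (Subgroup.mem_top _)
    rw [h, Subgroup.mem_bot, commutatorElement_eq_one_iff_mul_comm] at h1
    exact h1
  have h4 := Cfsg.Agent.Helper73.four_dvd_index_commutator (hS.to_subgroup H) hHne
  have hci := (commutator H).card_mul_index
  rw [hH8] at hci
  have h2 : 2 ≤ Nat.card (commutator H) := by
    by_contra h
    push Not at h
    have hpos : 0 < Nat.card (commutator H) := Nat.card_pos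
    have : Nat.card (commutator H) = 1 := by omega
    exact hHne (Subgroup.card_eq_one.mp this)
  obtain ⟨c, hc⟩ := h4
  rw [hc] at hci ⊢
  have : Nat.card (commutator H) * c = 2 := by
    have : 4 * (Nat.card (commutator H) * c) = 4 * 2 := by
      have e : (4 : ℕ) * 2 = 8 := by norm_num
      rw [e, ← hci]; ring
    omega
  have hcle : c ≤ 2 := Nat.le_of_dvd (by norm_num) ⟨_, by rw [mul_comm]; exact this.symm⟩
  interval_cases c <;> omega

end Cfsg.Agent.Helper53
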