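import Mathlib
import Cfsg.Prelude.Def_OddOrderLocal
import Cfsg.Agent.Lib.Helper53.SectRankMaxClass

set_option autoImplicit false

namespace Cfsg.Agent.Helper53

open Cfsg
open scoped commutatorElement

/-- A subgroup containing the commutator subgroup is normal. -/
theorem normal_of_commutator_le {G : Type*} [Group G] (N : Subgroup G) (h : commutator G ≤ N) :
    N.Normal := by
  refine ⟨fun n hn g => ?_⟩
  have h1 : g * n * g⁻¹ = ⁅g, n⁆ * n := by simp [commutatorElement_def]
  rw [h1]
  exact N.mul_mem (h (Subgroup.commutator_mem_commutator (Subgroup.mem_top _)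
    (Subgroup.mem_top _))) hn

/-- Metacyclicity from a cyclic normal subgroup and a generator of the quotient. -/
theorem isMetacyclic_of_normal_cyclic {G : Type*} [Group G] (N : Subgroup G) [hN : N.Normal]
    (hc : IsCyclic N) (y : G) (h : ∀ g : G, ∃ j : ℤ, (g : G ⧸ N) = (y : G ⧸ N) ^ j) :
    IsMetacyclic G := by
  refine ⟨N, hN, hc, ⟨(y : G ⧸ N), fun q => ?_⟩⟩
  obtain ⟨g, rfl⟩ := QuotientGroup.mk_surjective q
  obtain ⟨j, hj⟩ := h g
  exact Subgroup.mem_zpowers_iff.mpr ⟨j, hj.symm⟩

/-- If `G` is generated by `a`, `b` and a central subgroup, any normal subgroup containing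
`[b, a]` contains the commutator subgroup. -/
theorem commutator_le_of_gens {G : Type*} [Group G] (a b : G) (K : Subgroup G)
    (hK : K ≤ Subgroup.center G)
    (hgen : ∀ g : G, ∃ j i : ℤ, ∃ c ∈ K, g = b ^ j * a ^ i * c)
    (L : Subgroup G) [L.Normal] (hL : ⁅b, a⁆ ∈ L) : commutator G ≤ L := by
  let q : G →* G ⧸ L := QuotientGroup.mk' L
  have hqs : Function.Surjective q := QuotientGroup.mk'_surjective L
  have hba : q b * q a = q a * q b := by
    rw [← commutatorElement_eq_one_iff_mul_comm, ← map_commutatorElement]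
    exact (QuotientGroup.eq_one_iff _).mpr hL
  have hc : ∀ c ∈ K, q c ∈ Subgroup.center (G ⧸ L) := by
    intro c hc
    rw [Subgroup.mem_center_iff]
    intro y
    obtain ⟨y, rfl⟩ := hqs y
    rw [← map_mul, ← map_mul, Subgroup.mem_center_iff.mp (hK hc) y]
  have hform : ∀ g : G, ∃ j i : ℤ, ∃ c ∈ K, q g = q b ^ j * q a ^ i * q c := by
    intro g
    obtain ⟨j, i, c, hcK, rfl⟩ := hgen g
    exact ⟨j, i, c, hcK, by simp⟩
  have hbc : q b ∈ Subgroup.center (G ⧸ L) := by
    rw [Subgroup.mem_center_iff]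
    intro y
    obtain ⟨g, rfl⟩ := hqs y
    obtain ⟨j, i, c, hcK, hg⟩ := hform g
    have h1 : Commute (q b) (q b ^ j) := (Commute.refl _).zpow_right j
    have h2 : Commute (q b) (q a ^ i) := (show Commute (q b) (q a) from hba).zpow_right i
    have h3 : Commute (q b) (q c) := Subgroup.mem_center_iff.mp (hc c hcK) (q b)
    rw [hg]
    exact (((h1.mul_right h2).mul_right h3).eq).symm
  have hac : q a ∈ Subgroup.center (G ⧸ L) := by
    rw [Subgroup.mem_center_iff]
    intro y
    obtain ⟨g, rfl⟩ := hqs y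
    obtain ⟨j, i, c, hcK, hg⟩ := hform g
    have h1 : Commute (q a) (q b ^ j) := (show Commute (q a) (q b) from hba.symm).zpow_right j
    have h2 : Commute (q a) (q a ^ i) := (Commute.refl _).zpow_right i
    have h3 : Commute (q a) (q c) := Subgroup.mem_center_iff.mp (hc c hcK) (q a)
    rw [hg]
    exact (((h1.mul_right h2).mul_right h3).eq).symm
  have hall : ∀ g : G, q g ∈ Subgroup.center (G ⧸ L) := by
    intro g
    obtain ⟨j, i, c, hcK, hg⟩ := hform g
    rw [hg]
    exact Subgroup.mul_mem _ (Subgroup.mul_mem _ (Subgroup.zpow_mem _ hbc j)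
      (Subgroup.zpow_mem _ hac i)) (hc c hcK)
  rw [commutator_def, Subgroup.commutator_le]
  intro g1 _ g2 _
  rw [← QuotientGroup.eq_one_iff, ← QuotientGroup.mk'_apply, map_commutatorElement,
    commutatorElement_eq_one_iff_mul_comm]
  exact (Subgroup.mem_center_iff.mp (hall g1) (q g2)).symm

/-- Elements of the subgroup generated by an involution. -/
theorem mem_zpowers_invol {G : Type*} [Group G] {k c : G} (hk : k * k = 1)
    (hc : c ∈ Subgroup.zpowers k) : c = 1 ∨ c = k := by
  obtain ⟨i, rfl⟩ := Subgroup.mem_zpowers_iff.mp hc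
  rcases Int.even_or_odd i with ⟨j, hj⟩ | ⟨j, hj⟩
  · left
    rw [hj, ← two_mul, zpow_mul, zpow_ofNat, pow_two, hk, one_zpow]
  · right
    rw [hj, zpow_add, zpow_mul, zpow_ofNat, pow_two, hk, one_zpow, one_mul, zpow_one]

/-- Blackburn's lemma, key step: if `G/K` is metacyclic for a central subgroup `K` of order `2`
contained in `G'`, then `G` is metacyclic or `G' = K`. -/
theorem isMetacyclic_or_commutator_eq {G : Type*} [Group G] [Finite G] (hG : IsPGroup 2 G)
    (k : G) (hk2 : orderOf k = 2) (hkc : k ∈ Subgroup.center G) (hkG : k ∈ commutator G)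
    [hn : (Subgroup.zpowers k).Normal] (hm : IsMetacyclic (G ⧸ Subgroup.zpowers k)) :
    IsMetacyclic G ∨ commutator G = Subgroup.zpowers k := by
  classical
  have hkk : k * k = 1 := by rw [← pow_two, ← hk2]; exact pow_orderOf_eq_one k
  have hKc : Subgroup.zpowers k ≤ Subgroup.center G := (Subgroup.zpowers_le).mpr hkc
  obtain ⟨Ab, hAbn, hAbc, hQc⟩ := hm
  obtain ⟨⟨ab, hab⟩, habgen⟩ := hAbc.exists_generator
  obtain ⟨a, rfl⟩ := QuotientGroup.mk_surjective ab
  obtain ⟨bb', hbb'⟩ := hQc.exists_generator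
  obtain ⟨bb, rfl⟩ := QuotientGroup.mk_surjective bb'
  obtain ⟨b, rfl⟩ := QuotientGroup.mk_surjective bb
  have F0 : ∀ x : G, (x : G ⧸ Subgroup.zpowers k) ∈ Ab →
      ∃ i : ℕ, ∃ c ∈ Subgroup.zpowers k, x = a ^ i * c := by
    intro x hx
    have h1 := habgen ⟨(x : G ⧸ Subgroup.zpowers k), hx⟩
    rw [← mem_powers_iff_mem_zpowers] at h1
    obtain ⟨i, hi⟩ := (Submonoid.mem_powers_iff _ _).mp h1
    have h2 : ((a : G ⧸ Subgroup.zpowers k)) ^ i = (x : G ⧸ Subgroup.zpowers k) := by
      have := congrArg Subtype.val hi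
      simpa using this
    refine ⟨i, (a ^ i)⁻¹ * x, ?_, by group⟩
    rw [← QuotientGroup.eq, QuotientGroup.mk_pow]
    exact h2
  have F1 : ∀ g : G, ∃ j i : ℕ, ∃ c ∈ Subgroup.zpowers k, g = b ^ j * a ^ i * c := by
    intro g
    have h1 := hbb' (((g : G ⧸ Subgroup.zpowers k)) : (G ⧸ Subgroup.zpowers k) ⧸ Ab)
    rw [← mem_powers_iff_mem_zpowers] at h1
    obtain ⟨j, hj⟩ := (Submonoid.mem_powers_iff _ _).mp h1
    have h2 : (((b ^ j)⁻¹ * g : G) : G ⧸ Subgroup.zpowers k) ∈ Ab := by
      rw [← QuotientGroup.mk_pow, QuotientGroup.eq] at hj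
      simpa using hj
    obtain ⟨i, c, hc, hic⟩ := F0 _ h2
    refine ⟨j, i, c, hc, ?_⟩
    rw [mul_assoc, ← hic]
    group
  obtain ⟨s, c0, hc0, hs⟩ := F0 (b * a * b⁻¹) (by
    rw [QuotientGroup.mk_mul, QuotientGroup.mk_mul, QuotientGroup.mk_inv]
    exact hAbn.conj_mem _ hab _)
  have hc0c : ∀ y : G, y * c0 = c0 * y := fun y => Subgroup.mem_center_iff.mp (hKc hc0) y
  have hc01 := mem_zpowers_invol hkk hc0
  obtain ⟨r, hr⟩ : ∃ r : ℤ, r = (s : ℤ) - 1 := ⟨_, rfl⟩
  obtain ⟨d, hdd⟩ : ∃ d : G, d = ⁅b, a⁆ := ⟨_, rfl⟩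
  have hd : d = a ^ r * c0 := by
    calc d = a ^ s * c0 * a⁻¹ := by rw [hdd, commutatorElement_def, hs]
      _ = a ^ s * a⁻¹ * c0 := by rw [mul_assoc, ← hc0c a⁻¹, ← mul_assoc]
      _ = a ^ r * c0 := by rw [hr, zpow_sub_one, zpow_natCast]
  have hcr : Commute (a ^ r) c0 := hc0c (a ^ r)
  have hcs : Commute (a ^ s) c0 := hc0c (a ^ s)
  have had : a * d * a⁻¹ = d := by
    have : Commute a d := by
      rw [hd]
      exact ((Commute.refl a).zpow_right r).mul_right (hc0c a)
    rw [this.eq, mul_inv_cancel_right]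
  have hbd : b * d * b⁻¹ = d ^ s := by
    have e1 : b * d * b⁻¹ = (b * a * b⁻¹) ^ r * c0 := by
      rw [hd, conj_zpow]
      simp only [mul_assoc]
      rw [hc0c b⁻¹]
    rw [e1, hs, hcs.mul_zpow, hd, hcr.mul_pow, ← zpow_natCast (a ^ r) s, ← zpow_mul,
      ← zpow_natCast a s, ← zpow_mul, mul_comm r, mul_assoc]
    congr 1
    rw [← zpow_add_one, ← zpow_natCast]
    congr 1
    omega
  -- `⟨d⟩` is normal
  let T : Submonoid G :=
    { carrier := {g | ∀ n ∈ Subgroup.zpowers d, g * n * g⁻¹ ∈ Subgroup.zpowers d}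
      one_mem' := by
        intro n hn
        simpa using hn
      mul_mem' := by
        intro g h hg hh n hn
        have := hg _ (hh n hn)
        have e : g * h * n * (g * h)⁻¹ = g * (h * n * h⁻¹) * g⁻¹ := by group
        rw [e]
        exact this }
  have haT : a ∈ T := by
    intro n hn
    obtain ⟨e, rfl⟩ := Subgroup.mem_zpowers_iff.mp hn
    rw [← conj_zpow, had]
    exact Subgroup.zpow_mem _ (Subgroup.mem_zpowers d) e
  have hbT : b ∈ T := by
    intro n hn
    obtain ⟨e, rfl⟩ := Subgroup.mem_zpowers_iff.mp hn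
    rw [← conj_zpow, hbd]
    exact Subgroup.zpow_mem _ (Subgroup.pow_mem _ (Subgroup.mem_zpowers d) s) e
  have hKT : ∀ c ∈ Subgroup.zpowers k, c ∈ T := by
    intro c hc n hn
    have : n * c = c * n := Subgroup.mem_center_iff.mp (hKc hc) n
    rw [← this, mul_inv_cancel_right]
    exact hn
  have hall : ∀ g : G, g ∈ T := by
    intro g
    obtain ⟨j, i, c, hc, rfl⟩ := F1 g
    exact T.mul_mem (T.mul_mem (T.pow_mem hbT j) (T.pow_mem haT i)) (hKT c hc)
  have hDn : (Subgroup.zpowers d).Normal := ⟨fun n hn g => hall g n hn⟩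
  have F6 : commutator G ≤ Subgroup.zpowers d := by
    refine commutator_le_of_gens a b (Subgroup.zpowers k) hKc ?_ (Subgroup.zpowers d) ?_
    · intro g
      obtain ⟨j, i, c, hc, h⟩ := F1 g
      exact ⟨j, i, c, hc, by rw [zpow_natCast, zpow_natCast]; exact h⟩
    · rw [← hdd]; exact Subgroup.mem_zpowers d
  obtain ⟨e, he⟩ := Subgroup.mem_zpowers_iff.mp (F6 hkG)
  by_cases hka : k ∈ Subgroup.zpowers a
  · left
    have hKa : Subgroup.zpowers k ≤ Subgroup.zpowers a := (Subgroup.zpowers_le).mpr hka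
    have hNn : (Subgroup.zpowers a).Normal := by
      refine ⟨fun n hn g => ?_⟩
      obtain ⟨t, rfl⟩ := Subgroup.mem_zpowers_iff.mp hn
      rw [← conj_zpow]
      apply Subgroup.zpow_mem
      obtain ⟨i, c, hc, h⟩ := F0 (g * a * g⁻¹) (by
        rw [QuotientGroup.mk_mul, QuotientGroup.mk_mul, QuotientGroup.mk_inv]
        exact hAbn.conj_mem _ hab _)
      rw [h]
      exact Subgroup.mul_mem _ (Subgroup.pow_mem _ (Subgroup.mem_zpowers a) i) (hKa hc)
    refine isMetacyclic_of_normal_cyclic (Subgroup.zpowers a) inferInstance b (fun g => ?_)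
    obtain ⟨j, i, c, hc, h⟩ := F1 g
    refine ⟨j, ?_⟩
    rw [h, QuotientGroup.mk_mul, QuotientGroup.mk_mul,
      (QuotientGroup.eq_one_iff (a ^ i)).mpr (Subgroup.pow_mem _ (Subgroup.mem_zpowers a) i),
      (QuotientGroup.eq_one_iff c).mpr (hKa hc), mul_one, mul_one, zpow_natCast,
      QuotientGroup.mk_pow]
  · right
    have h1 : (a ^ r) ^ e * c0 ^ e = k := by
      rw [← hcr.mul_zpow, ← hd]
      exact he
    have hmem : ∀ x : G, x = (a ^ r) ^ e → x ∈ Subgroup.zpowers a := by
      intro x hx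
      rw [hx]
      exact Subgroup.zpow_mem _ (Subgroup.zpow_mem _ (Subgroup.mem_zpowers a) r) e
    rcases hc01 with rfl | rfl
    · exfalso
      apply hka
      rw [one_zpow, mul_one] at h1
      exact hmem k h1.symm
    · rcases Int.even_or_odd e with ⟨j, hj⟩ | ⟨j, hj⟩
      · exfalso
        apply hka
        have : c0 ^ e = 1 := by
          rw [hj, ← two_mul, zpow_mul, zpow_ofNat, pow_two, hkk, one_zpow]
        rw [this, mul_one] at h1
        exact hmem c0 h1.symm
      · have hke : c0 ^ e = c0 := by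
          rw [hj, zpow_add, zpow_mul, zpow_ofNat, pow_two, hkk, one_zpow, one_mul, zpow_one]
        rw [hke] at h1
        have h2 : (a ^ r) ^ e = 1 := by
          have := congrArg (fun x => x * c0⁻¹) h1
          simpa using this
        have h3 : a ^ r = 1 := by
          obtain ⟨t, ht⟩ := IsPGroup.iff_orderOf.mp hG (a ^ r)
          have h4 : (orderOf (a ^ r) : ℤ) ∣ e := orderOf_dvd_iff_zpow_eq_one.mpr h2
          rcases t with _ | t
          · rw [pow_zero] at ht
            exact orderOf_eq_one_iff.mp ht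
          · exfalso
            rw [ht] at h4
            have h5 : (2 : ℤ) ∣ e := by
              refine dvd_trans ?_ h4
              push_cast
              exact Dvd.intro_left _ (pow_succ 2 t).symm
            omega
        have hdk : d = c0 := by rw [hd, h3, one_mul]
        apply le_antisymm
        · rw [← hdk]
          exact F6
        · exact (Subgroup.zpowers_le).mpr hkG

end Cfsg.Agent.Helper53
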