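import Mathlib
import Cfsg.Agent.Lib.Helper53.Metacyclic1
import Cfsg.Agent.Lib.Helper53.AbRankTwo

set_option autoImplicit false

universe u

namespace Cfsg.Agent.Helper53

open Cfsg
open scoped commutatorElement

theorem form_of_sup_eq_top {G : Type*} [Group G] (a b : G)
    (h : Subgroup.zpowers (Abelianization.of a) ⊔ Subgroup.zpowers (Abelianization.of b) = ⊤) :
    ∀ g : G, ∃ i j : ℤ, ∃ c ∈ commutator G, g = a ^ i * b ^ j * c := by
  intro g
  have hg : Abelianization.of g ∈
      Subgroup.zpowers (Abelianization.of a) ⊔ Subgroup.zpowers (Abelianization.of b) := by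
    rw [h]; exact Subgroup.mem_top _
  obtain ⟨y, hy, w, hw, hyw⟩ := Subgroup.mem_sup.mp hg
  obtain ⟨i, rfl⟩ := Subgroup.mem_zpowers_iff.mp hy
  obtain ⟨j, rfl⟩ := Subgroup.mem_zpowers_iff.mp hw
  refine ⟨i, j, (a ^ i * b ^ j)⁻¹ * g, ?_, by group⟩
  rw [← Abelianization.ker_of, MonoidHom.mem_ker, map_mul, map_inv, map_mul, map_zpow, map_zpow,
    hyw, inv_mul_cancel]

theorem isMetacyclic_of_commutator_le_zpowers {G : Type*} [Group G] (a b : G)
    (hK : commutator G ≤ Subgroup.zpowers a)
    (hform : ∀ g : G, ∃ j i : ℤ, ∃ c ∈ commutator G, g = b ^ j * a ^ i * c) :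
    IsMetacyclic G := by
  have hNn : (Subgroup.zpowers a).Normal := normal_of_commutator_le _ hK
  refine isMetacyclic_of_normal_cyclic (Subgroup.zpowers a) inferInstance b (fun g => ?_)
  obtain ⟨j, i, c, hc, h⟩ := hform g
  refine ⟨j, ?_⟩
  rw [h, QuotientGroup.mk_mul, QuotientGroup.mk_mul,
    (QuotientGroup.eq_one_iff (a ^ i)).mpr (Subgroup.zpow_mem _ (Subgroup.mem_zpowers a) i),
    (QuotientGroup.eq_one_iff c).mpr (hK hc), mul_one, mul_one, QuotientGroup.mk_zpow]

/-- A `2`-group of sectional rank at most `2` whose commutator subgroup has order `2` is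
metacyclic. -/
theorem isMetacyclic_of_commutator_invol {G : Type*} [Group G] [Finite G] (hG : IsPGroup 2 G)
    (hr : SectionalPRankLE 2 2 G) (z : G) (hz2 : orderOf z = 2)
    (hcz : commutator G = Subgroup.zpowers z) : IsMetacyclic G := by
  classical
  have hzz : z * z = 1 := by rw [← pow_two, ← hz2]; exact pow_orderOf_eq_one z
  have hz1 : z ≠ 1 := by
    intro h
    rw [h, orderOf_one] at hz2
    omega
  have hzG : z ∈ commutator G := hcz ▸ Subgroup.mem_zpowers z
  have hzc : ∀ y : G, y * z = z * y := by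
    intro y
    have h1 : y * z * y⁻¹ ∈ commutator G :=
      (inferInstance : (commutator G).Normal).conj_mem z hzG y
    rw [hcz] at h1
    rcases mem_zpowers_invol hzz h1 with h | h
    · exfalso
      apply hz1
      have := congrArg (fun x => y⁻¹ * x * y) h
      simpa [mul_assoc] using this
    · have := congrArg (fun x => x * y) h
      simpa [mul_assoc] using this
  have hKc : commutator G ≤ Subgroup.center G := by
    rw [hcz, Subgroup.zpowers_le, Subgroup.mem_center_iff]
    exact hzc
  have hcomm : ∀ g y : G, g * y = y * g ∨ g * y = z * (y * g) := by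
    intro g y
    have h1 : ⁅g, y⁆ ∈ commutator G :=
      Subgroup.commutator_mem_commutator (Subgroup.mem_top _) (Subgroup.mem_top _)
    rw [hcz] at h1
    have h2 : g * y = ⁅g, y⁆ * (y * g) := by simp [commutatorElement_def, mul_assoc]
    rcases mem_zpowers_invol hzz h1 with h | h
    · left; rw [h2, h, one_mul]
    · right; rw [h2, h]
  have hsqc : ∀ x y : G, y * x ^ 2 = x ^ 2 * y := by
    intro x y
    rcases hcomm x y with h | h
    · exact (show Commute y x from h.symm).pow_right 2
    · symm
      calc x ^ 2 * y = x * (x * y) := by rw [pow_two, mul_assoc]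
        _ = x * (z * (y * x)) := by rw [h]
        _ = z * ((x * y) * x) := by rw [← mul_assoc x z, hzc x]; simp only [mul_assoc]
        _ = z * (z * (y * x) * x) := by rw [h]
        _ = (z * z) * (y * x ^ 2) := by rw [pow_two]; simp only [mul_assoc]
        _ = y * x ^ 2 := by rw [hzz, one_mul]
  have hrQ : PRankLE 2 2 (Abelianization G) := pRankLE_quotient_of_sectional (commutator G) hr
  have hQ : IsPGroup 2 (Abelianization G) := hG.to_quotient (commutator G)
  obtain ⟨qa, qb, hinf, hsup⟩ := exists_indep_gens_of_comm hQ (fun x y => mul_comm x y) hrQ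
  obtain ⟨a, rfl⟩ := QuotientGroup.mk'_surjective (commutator G) qa
  obtain ⟨b, rfl⟩ := QuotientGroup.mk'_surjective (commutator G) qb
  change Subgroup.zpowers (Abelianization.of a) ⊓ Subgroup.zpowers (Abelianization.of b) = ⊥
    at hinf
  change Subgroup.zpowers (Abelianization.of a) ⊔ Subgroup.zpowers (Abelianization.of b) = ⊤
    at hsup
  have hform1 := form_of_sup_eq_top a b hsup
  have hform2 := form_of_sup_eq_top b a (by rw [sup_comm]; exact hsup)
  obtain ⟨m, hm⟩ := IsPGroup.iff_orderOf.mp hQ (Abelianization.of a)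
  obtain ⟨n, hn⟩ := IsPGroup.iff_orderOf.mp hQ (Abelianization.of b)
  have hofmem : ∀ x : G, Abelianization.of x = 1 ↔ x ∈ commutator G := by
    intro x
    rw [← Abelianization.ker_of, MonoidHom.mem_ker]
  have ham : a ^ 2 ^ m ∈ Subgroup.zpowers z := by
    rw [← hcz, ← hofmem, map_pow, ← hm]
    exact pow_orderOf_eq_one _
  have hbn : b ^ 2 ^ n ∈ Subgroup.zpowers z := by
    rw [← hcz, ← hofmem, map_pow, ← hn]
    exact pow_orderOf_eq_one _
  rcases mem_zpowers_invol hzz ham with ha1 | haz
  swap
  · -- `z` is a power of `a`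
    refine isMetacyclic_of_commutator_le_zpowers a b ?_ hform2
    rw [hcz, Subgroup.zpowers_le, ← haz]
    exact Subgroup.pow_mem _ (Subgroup.mem_zpowers a) _
  rcases mem_zpowers_invol hzz hbn with hb1 | hbz
  swap
  · refine isMetacyclic_of_commutator_le_zpowers b a ?_ hform1
    rw [hcz, Subgroup.zpowers_le, ← hbz]
    exact Subgroup.pow_mem _ (Subgroup.mem_zpowers b) _
  -- now `a ^ 2 ^ m = 1 = b ^ 2 ^ n`
  have hab : a * b ≠ b * a := by
    intro h
    have hbot : commutator G ≤ ⊥ := by
      refine commutator_le_of_gens b a (commutator G) hKc hform1 ⊥ ?_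
      rw [Subgroup.mem_bot, commutatorElement_eq_one_iff_mul_comm]
      exact h
    exact hz1 ((Subgroup.mem_bot).mp (hbot hzG))
  have hab' : a * b = z * (b * a) := by
    rcases hcomm a b with h | h
    · exact absurd h hab
    · exact h
  have hm0 : m ≠ 0 := by
    intro h
    rw [h, pow_zero, orderOf_eq_one_iff, hofmem] at hm
    apply hab
    exact (Subgroup.mem_center_iff.mp (hKc hm) b).symm
  have hn0 : n ≠ 0 := by
    intro h
    rw [h, pow_zero, orderOf_eq_one_iff, hofmem] at hn
    apply hab
    exact Subgroup.mem_center_iff.mp (hKc hn) a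
  by_cases hmn : m = 1 ∧ n = 1
  · obtain ⟨rfl, rfl⟩ := hmn
    rw [pow_one] at ha1 hb1
    have hx : (a * b) * (a * b) = z := by
      calc (a * b) * (a * b) = (z * (b * a)) * (a * b) := by rw [← hab']
        _ = z * (b * (a * a) * b) := by simp only [mul_assoc]
        _ = z := by rw [← pow_two, ha1, mul_one, ← pow_two, hb1, mul_one]
    have hKN : commutator G ≤ Subgroup.zpowers (a * b) := by
      rw [hcz, Subgroup.zpowers_le, ← hx, ← pow_two]
      exact Subgroup.pow_mem _ (Subgroup.mem_zpowers _) _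
    have hNn : (Subgroup.zpowers (a * b)).Normal := normal_of_commutator_le _ hKN
    refine isMetacyclic_of_normal_cyclic (Subgroup.zpowers (a * b)) inferInstance a (fun g => ?_)
    obtain ⟨i, j, c, hc, h⟩ := hform1 g
    have hb' : (b : G ⧸ Subgroup.zpowers (a * b)) = (a : G ⧸ Subgroup.zpowers (a * b))⁻¹ := by
      apply eq_inv_of_mul_eq_one_right
      rw [← QuotientGroup.mk_mul, QuotientGroup.eq_one_iff]
      exact Subgroup.mem_zpowers _
    refine ⟨i + -j, ?_⟩
    rw [h, QuotientGroup.mk_mul, QuotientGroup.mk_mul, QuotientGroup.mk_zpow,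
      QuotientGroup.mk_zpow, hb', (QuotientGroup.eq_one_iff c).mpr (hKN hc), mul_one, inv_zpow',
      zpow_add]
  · exfalso
    have hm1 : 1 ≤ m := Nat.one_le_iff_ne_zero.mpr hm0
    have hn1 : 1 ≤ n := Nat.one_le_iff_ne_zero.mpr hn0
    have hu2 : (a ^ 2 ^ (m - 1)) ^ 2 = 1 := by
      rw [← pow_mul, ← pow_succ, Nat.sub_add_cancel hm1]
      exact ha1
    have hv2 : (b ^ 2 ^ (n - 1)) ^ 2 = 1 := by
      rw [← pow_mul, ← pow_succ, Nat.sub_add_cancel hn1]
      exact hb1
    have hpow_lt : ∀ t : ℕ, 1 ≤ t → ¬ (2 ^ t ∣ 2 ^ (t - 1)) := by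
      intro t ht h
      have := (Nat.pow_dvd_pow_iff_le_right (by norm_num : 1 < 2)).mp h
      omega
    have hofu : Abelianization.of (a ^ 2 ^ (m - 1)) ≠ 1 := by
      intro h
      rw [map_pow] at h
      have := orderOf_dvd_of_pow_eq_one h
      rw [hm] at this
      exact hpow_lt m hm1 this
    have hofv : Abelianization.of (b ^ 2 ^ (n - 1)) ≠ 1 := by
      intro h
      rw [map_pow] at h
      have := orderOf_dvd_of_pow_eq_one h
      rw [hn] at this
      exact hpow_lt n hn1 this
    refine false_of_three_invol (pRankLE_of_sectional hr) z (a ^ 2 ^ (m - 1)) (b ^ 2 ^ (n - 1))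
      (by rw [pow_two, hzz]) hu2 hv2 (hzc _) (hzc _) ?_ hz1 ?_ ?_
    · rcases (show 2 ≤ m ∨ 2 ≤ n by omega) with h | h
      · have e : a ^ 2 ^ (m - 1) = (a ^ 2 ^ (m - 2)) ^ 2 := by
          rw [← pow_mul, ← pow_succ]; congr 2; omega
        rw [e]
        exact hsqc _ _
      · have e : b ^ 2 ^ (n - 1) = (b ^ 2 ^ (n - 2)) ^ 2 := by
          rw [← pow_mul, ← pow_succ]; congr 2; omega
        rw [e]
        exact (hsqc _ _).symm
    · intro h
      apply hofu
      rw [hofmem, hcz]
      exact h
    · intro h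
      have hle : Subgroup.zpowers z ⊔ Subgroup.zpowers (a ^ 2 ^ (m - 1)) ≤
          (Subgroup.zpowers (Abelianization.of a)).comap Abelianization.of := by
        refine sup_le ?_ ?_
        · rw [Subgroup.zpowers_le, Subgroup.mem_comap, (hofmem z).mpr hzG]
          exact Subgroup.one_mem _
        · rw [Subgroup.zpowers_le, Subgroup.mem_comap, map_pow]
          exact Subgroup.pow_mem _ (Subgroup.mem_zpowers _) _
      have h1 : Abelianization.of (b ^ 2 ^ (n - 1)) ∈
          Subgroup.zpowers (Abelianization.of a) ⊓ Subgroup.zpowers (Abelianization.of b) := by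
        refine Subgroup.mem_inf.mpr ⟨hle h, ?_⟩
        rw [map_pow]
        exact Subgroup.pow_mem _ (Subgroup.mem_zpowers _) _
      rw [hinf, Subgroup.mem_bot] at h1
      exact hofv h1

/-- Blackburn: a finite `2`-group of sectional rank at most `2` is metacyclic. -/
theorem isMetacyclic_of_sectional_aux : ∀ (n : ℕ) (G : Type u) [Group G] [Finite G],
    Nat.card G = n → IsPGroup 2 G → SectionalPRankLE 2 2 G → IsMetacyclic G := by
  intro n
  induction n using Nat.strong_induction_on with
  | _ n ih =>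
  intro G _ _ hn hG hr
  by_cases hc : commutator G = ⊥
  · have hcomm : ∀ x y : G, x * y = y * x := by
      intro x y
      have h1 : ⁅x, y⁆ ∈ commutator G :=
        Subgroup.commutator_mem_commutator (Subgroup.mem_top _) (Subgroup.mem_top _)
      rw [hc, Subgroup.mem_bot, commutatorElement_eq_one_iff_mul_comm] at h1
      exact h1
    obtain ⟨a, b, -, hsup⟩ := exists_indep_gens_of_comm hG hcomm (pRankLE_of_sectional hr)
    have hNn : (Subgroup.zpowers a).Normal :=
      normal_of_commutator_le _ (by rw [hc]; exact bot_le)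
    refine isMetacyclic_of_normal_cyclic (Subgroup.zpowers a) inferInstance b (fun g => ?_)
    have hg : g ∈ Subgroup.zpowers a ⊔ Subgroup.zpowers b := by
      rw [hsup]; exact Subgroup.mem_top _
    let _ : CommGroup G := { ‹Group G› with mul_comm := hcomm }
    obtain ⟨y, hy, w, hw, hyw⟩ := Subgroup.mem_sup.mp hg
    obtain ⟨j, rfl⟩ := Subgroup.mem_zpowers_iff.mp hw
    refine ⟨j, ?_⟩
    rw [← hyw, QuotientGroup.mk_mul, (QuotientGroup.eq_one_iff y).mpr hy, one_mul,
      QuotientGroup.mk_zpow]
  · obtain ⟨z, hzG, hz2, hzc⟩ := exists_central_invol_of_normal hG (commutator G) hc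
    have hKn : (Subgroup.zpowers z).Normal :=
      normal_of_le_center _ ((Subgroup.zpowers_le).mpr hzc)
    have hcard : Nat.card (G ⧸ Subgroup.zpowers z) * 2 = n := by
      have := Subgroup.card_eq_card_quotient_mul_card_subgroup (Subgroup.zpowers z)
      rw [Nat.card_zpowers, hz2, hn] at this
      exact this.symm
    have hpos : 0 < Nat.card (G ⧸ Subgroup.zpowers z) := Nat.card_pos
    have hmeta : IsMetacyclic (G ⧸ Subgroup.zpowers z) :=
      ih _ (by omega) (G ⧸ Subgroup.zpowers z) rfl (hG.to_quotient _)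
        (sectionalPRankLE_quotient _ hr)
    rcases isMetacyclic_or_commutator_eq hG z hz2 hzc hzG hmeta with h | h
    · exact h
    · exact isMetacyclic_of_commutator_invol hG hr z hz2 h

theorem isMetacyclic_of_sectional {G : Type u} [Group G] [Finite G] (hG : IsPGroup 2 G)
    (hr : SectionalPRankLE 2 2 G) : IsMetacyclic G :=
  isMetacyclic_of_sectional_aux _ G rfl hG hr

end Cfsg.Agent.Helper53
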