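import Mathlib
import Cfsg.Prelude.Def_Blocks
import Cfsg.Agent.Lib.Helper55.O2520Defs
import Cfsg.Agent.Lib.Helper17.Simple
import Cfsg.Agent.Lib.Helper82.UniqInv
import Cfsg.Agent.S0111

/-!
# O2520 lemma server (row S0984), wave 2, piece (SYL2) (helper53)

`sylow2`: in a simple group of order `2520` with an element `u` of order `4`, a Sylow
2-subgroup containing `u` is dihedral `⟨u, w⟩` and every involution is conjugate to `u ^ 2`.
-/

set_option autoImplicit false

namespace Cfsg.Agent.Helper53.O2520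

open Cfsg Cfsg.Agent.Helper55.O2520
open scoped Classical

universe u

section generic
variable {G : Type u} [Group G]

theorem h53_pow_four (u : G) (hu : orderOf u = 4) : u ^ 4 = 1 := by
  rw [← hu]; exact pow_orderOf_eq_one u

/-- squares of elements of `⟨u⟩` (`u` of order 4) are `1` or `u ^ 2` -/
theorem h53_sq_in_zpowers (u : G) (hu : orderOf u = 4) (h : G) (hh : h ∈ Subgroup.zpowers u) :
    h ^ 2 = 1 ∨ h ^ 2 = u ^ 2 := by
  obtain ⟨k, rfl⟩ := Subgroup.mem_zpowers_iff.1 hh
  have hu4 := h53_pow_four u hu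
  have e : (u ^ k) ^ 2 = u ^ (2 * k) := by
    rw [← zpow_natCast (u ^ k) 2, ← zpow_mul, mul_comm]; rfl
  rw [e]
  have h5 : k % 2 = 0 ∨ k % 2 = 1 := by omega
  rcases h5 with h5 | h5
  · left
    have : 2 * k = 4 * (k / 2) := by omega
    rw [this, zpow_mul, zpow_ofNat, hu4, one_zpow]
  · right
    have : 2 * k = 4 * (k / 2) + 2 := by omega
    rw [this, zpow_add, zpow_mul, zpow_ofNat, hu4, one_zpow, one_mul, zpow_ofNat]

/-- the only involution of `⟨u⟩` (`u` of order 4) is `u ^ 2` -/
theorem h53_invol_in_zpowers (u : G) (hu : orderOf u = 4) (h : G) (hh : h ∈ Subgroup.zpowers u)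
    (h2 : orderOf h = 2) : h = u ^ 2 := by
  obtain ⟨k, rfl⟩ := Subgroup.mem_zpowers_iff.1 hh
  have hu4 := h53_pow_four u hu
  have h1 : (u ^ k) ^ 2 = 1 := by rw [← h2]; exact pow_orderOf_eq_one _
  have h3 : u ^ (k * 2) = 1 := by rw [zpow_mul, zpow_ofNat]; exact h1
  have h4 : ((orderOf u : ℕ) : ℤ) ∣ k * 2 := orderOf_dvd_iff_zpow_eq_one.2 h3
  rw [hu] at h4
  have h5 : k % 4 = 0 ∨ k % 4 = 2 := by omega
  have hne : u ^ k ≠ 1 := by
    intro h; rw [h, orderOf_one] at h2; omega
  rcases h5 with h5 | h5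
  · exfalso; apply hne
    have : k = 4 * (k / 4) := by omega
    rw [this, zpow_mul, zpow_ofNat, hu4, one_zpow]
  · have : k = 4 * (k / 4) + 2 := by omega
    rw [this, zpow_add, zpow_mul, zpow_ofNat, hu4, one_zpow, one_mul, zpow_ofNat]

/-- the elements of order 4 of `⟨u⟩` are `u` and `u⁻¹` -/
theorem h53_order4_in_zpowers (u : G) (hu : orderOf u = 4) (h : G)
    (hh : h ∈ Subgroup.zpowers u) (h4 : orderOf h = 4) : h = u ∨ h = u⁻¹ := by
  obtain ⟨k, rfl⟩ := Subgroup.mem_zpowers_iff.1 hh
  have hu4 := h53_pow_four u hu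
  have h5 : k % 4 = 0 ∨ k % 4 = 1 ∨ k % 4 = 2 ∨ k % 4 = 3 := by omega
  rcases h5 with h5 | h5 | h5 | h5
  · exfalso
    have : k = 4 * (k / 4) := by omega
    have e : u ^ k = 1 := by rw [this, zpow_mul, zpow_ofNat, hu4, one_zpow]
    rw [e, orderOf_one] at h4; omega
  · left
    have : k = 4 * (k / 4) + 1 := by omega
    rw [this, zpow_add, zpow_mul, zpow_ofNat, hu4, one_zpow, one_mul, zpow_one]
  · exfalso
    have : k = 4 * (k / 4) + 2 := by omega
    have e : u ^ k = u ^ 2 := by
      rw [this, zpow_add, zpow_mul, zpow_ofNat, hu4, one_zpow, one_mul, zpow_ofNat]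
    have e2 : (u ^ k) ^ 2 = 1 := by rw [e, ← pow_mul]; exact hu4
    have := orderOf_dvd_of_pow_eq_one e2
    rw [h4] at this; omega
  · right
    have : k = 4 * (k / 4 + 1) + (-1) := by omega
    rw [this, zpow_add, zpow_mul, zpow_ofNat, hu4, one_zpow, one_mul, zpow_neg_one]

theorem h53_orderOf_conj (g x : G) : orderOf (g * x * g⁻¹) = orderOf x :=
  orderOf_injective (MulAut.conj g).toMonoidHom (MulAut.conj g).injective x

theorem h53_mem_smul_sylow_iff {p : ℕ} (h g : G) (U : Sylow p G) :
    g ∈ ((h • U : Sylow p G) : Subgroup G) ↔ h⁻¹ * g * h ∈ (U : Subgroup G) := by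
  rw [Sylow.coe_subgroup_smul, Subgroup.mem_pointwise_smul_iff_inv_smul_mem]
  simp

end generic

section grp
variable {G : Type u} [Group G] [Finite G] [IsSimpleGroup G] (hG : Nat.card G = 2520)
include hG

theorem sylow2 (u : G) (hu : orderOf u = 4) :
    ∃ w : G, orderOf w = 2 ∧ w * u * w⁻¹ = u⁻¹ ∧ (∀ k : ℕ, IsConj (w * u ^ k) (u ^ 2)) ∧
      ∀ t : G, orderOf t = 2 → IsConj t (u ^ 2) := by
  have : Fact (Nat.Prime 2) := ⟨Nat.prime_two⟩
  have hu4 := h53_pow_four u hu
  have hna : ¬ IsMulCommutative G :=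
    Cfsg.Agent.Helper17.not_comm_of_not_prime (by rw [hG]; norm_num)
  have heven : Even (Nat.card G) := by rw [hG]; decide
  have hno2 : ∀ M : Subgroup G, M.Normal → M.index = 2 → False := by
    intro M hM hi
    rcases hM.eq_bot_or_eq_top with h | h
    · rw [h, Subgroup.index_bot, hG] at hi; omega
    · rw [h, Subgroup.index_top] at hi; omega
  -- the Sylow 2-subgroup
  have hpg : IsPGroup 2 (Subgroup.zpowers u) := by
    apply IsPGroup.of_card (n := 2)
    rw [Nat.card_zpowers, hu]; norm_num
  obtain ⟨S, hS⟩ := hpg.exists_le_sylow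
  have huS : u ∈ (S : Subgroup G) := hS (Subgroup.mem_zpowers u)
  have hScard : Nat.card (S : Subgroup G) = 8 := by
    have := Cfsg.Agent.Helper17.sylow_card_eq S (k := 3) (m := 315) (by rw [hG]; norm_num) (by decide)
    simpa using this
  have hHcard : Nat.card (Subgroup.zpowers u) = 4 := by rw [Nat.card_zpowers, hu]
  have hrel : (Subgroup.zpowers u).relIndex (S : Subgroup G) = 2 := by
    have h1 := Subgroup.relIndex_mul_relIndex (⊥ : Subgroup G) (Subgroup.zpowers u)
      (S : Subgroup G) bot_le hS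
    rw [Subgroup.relIndex_bot_left, Subgroup.relIndex_bot_left, hHcard, hScard] at h1
    omega
  -- index two
  have hidx : ∀ b c : G, b ∈ (S : Subgroup G) → c ∈ (S : Subgroup G) →
      b ∉ Subgroup.zpowers u → c ∉ Subgroup.zpowers u → b * c⁻¹ ∈ Subgroup.zpowers u := by
    obtain ⟨a, haS, hax⟩ := Subgroup.relIndex_eq_two_iff.1 hrel
    intro b c hb hc hbH hcH
    have h1 : b * a ∈ Subgroup.zpowers u := by
      rcases hax b hb with ⟨h, _⟩ | ⟨h, _⟩
      · exact h
      · exact absurd h hbH
    have h2 : c * a ∈ Subgroup.zpowers u := by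
      rcases hax c hc with ⟨h, _⟩ | ⟨h, _⟩
      · exact h
      · exact absurd h hcH
    have := (Subgroup.zpowers u).mul_mem h1 ((Subgroup.zpowers u).inv_mem h2)
    have e : b * a * (c * a)⁻¹ = b * c⁻¹ := by group
    rwa [e] at this
  -- Thompson transfer
  have hT : ∀ t : G, t ∈ (S : Subgroup G) → orderOf t = 2 → t ∉ Subgroup.zpowers u →
      ∃ g : G, g * t * g⁻¹ = u ^ 2 := by
    intro t htS ht2 htH
    rcases Cfsg.Agent.S0111.result S (Subgroup.zpowers u) hS hrel t ht2 htS htH with
      ⟨M, hMn, hMi, _⟩ | ⟨g, hg⟩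
    · exact (hno2 M hMn hMi).elim
    · exact ⟨g, h53_invol_in_zpowers u hu _ hg (by rw [h53_orderOf_conj, ht2])⟩
  by_cases hall : ∀ t ∈ (S : Subgroup G), orderOf t = 2 → t ∈ Subgroup.zpowers u
  · exfalso
    refine Cfsg.Agent.Helper82.SV.h82_not_unique_involution hna heven S ?_
    intro x hx y hy hx2 hy2
    rw [h53_invol_in_zpowers u hu x (hall x hx hx2) hx2,
      h53_invol_in_zpowers u hu y (hall y hy hy2) hy2]
  · push_neg at hall
    obtain ⟨w, hwS, hw2, hwH⟩ := hall
    have hww : w * w = 1 := by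
      have := pow_orderOf_eq_one w
      rwa [hw2, pow_two] at this
    have hwinv : w⁻¹ = w := inv_eq_of_mul_eq_one_left hww
    -- w u w⁻¹ ∈ ⟨u⟩
    have hwuH : w * u ∉ Subgroup.zpowers u := by
      intro h
      apply hwH
      have := (Subgroup.zpowers u).mul_mem h ((Subgroup.zpowers u).inv_mem (Subgroup.mem_zpowers u))
      simpa using this
    have hc : w * u * w⁻¹ ∈ Subgroup.zpowers u :=
      hidx (w * u) w ((S : Subgroup G).mul_mem hwS huS) hwS hwuH hwH
    rcases h53_order4_in_zpowers u hu _ hc (by rw [h53_orderOf_conj, hu]) with hcu | hcu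
    · -- abelian case: contradiction by Burnside fusion
      exfalso
      have hwu : Commute w u := by
        have : w * u = u * w := by
          calc w * u = w * u * w⁻¹ * w := by group
            _ = u * w := by rw [hcu]
        exact this
      -- every element of S commutes with u and w
      have hform : ∀ b ∈ (S : Subgroup G), b ∈ Subgroup.zpowers u ∨
          ∃ h ∈ Subgroup.zpowers u, b = w * h := by
        intro b hb
        by_cases hbH : b ∈ Subgroup.zpowers u
        · exact Or.inl hbH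
        · right
          have h1 : b⁻¹ ∉ Subgroup.zpowers u := fun h => hbH (by simpa using (Subgroup.zpowers u).inv_mem h)
          have h2 : w⁻¹ ∉ Subgroup.zpowers u := fun h => hwH (by simpa using (Subgroup.zpowers u).inv_mem h)
          have h3 := hidx w⁻¹ b⁻¹ ((S : Subgroup G).inv_mem hwS) ((S : Subgroup G).inv_mem hb) h2 h1
          rw [inv_inv] at h3
          exact ⟨w⁻¹ * b, h3, by group⟩
      have hcomH : ∀ h ∈ Subgroup.zpowers u, Commute h u ∧ Commute h w := by
        intro h hh
        obtain ⟨k, rfl⟩ := Subgroup.mem_zpowers_iff.1 hh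
        exact ⟨(Commute.refl u).zpow_left k, (hwu.symm).zpow_left k⟩
      have hcom : ∀ b ∈ (S : Subgroup G), Commute b u ∧ Commute b w := by
        intro b hb
        rcases hform b hb with hbH | ⟨h, hh, rfl⟩
        · exact hcomH b hbH
        · exact ⟨hwu.mul_left (hcomH h hh).1, (Commute.refl w).mul_left (hcomH h hh).2⟩
      have hwC : w ∈ Subgroup.centralizer ((S : Subgroup G) : Set G) := by
        rw [Subgroup.mem_centralizer_iff]
        intro b hb
        exact ((hcom b hb).2).eq
      have hzC : u ^ 2 ∈ Subgroup.centralizer ((S : Subgroup G) : Set G) := by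
        rw [Subgroup.mem_centralizer_iff]
        intro b hb
        exact (((hcom b hb).1).pow_right 2).eq
      obtain ⟨g, hg⟩ := hT w hwS hw2 hwH
      have hy : (g⁻¹)⁻¹ * w * g⁻¹ ∈ Subgroup.centralizer ((S : Subgroup G) : Set G) := by
        rw [inv_inv, hg]; exact hzC
      obtain ⟨n, hn, hne⟩ := S.conj_eq_normalizer_conj_of_mem_centralizer w g⁻¹ hwC hy
      rw [inv_inv, hg] at hne
      -- w = (n u n⁻¹)^2
      have hw_eq : w = (n * u * n⁻¹) ^ 2 := by
        rw [conj_pow, hne]; group
      have hyS : n * u * n⁻¹ ∈ (S : Subgroup G) := (Subgroup.mem_normalizer_iff.1 hn u).1 huS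
      have hsq : (n * u * n⁻¹) ^ 2 ∈ Subgroup.zpowers u := by
        rcases hform _ hyS with hyH | ⟨h, hh, hyh⟩
        · rcases h53_sq_in_zpowers u hu _ hyH with e | e
          · rw [e]; exact (Subgroup.zpowers u).one_mem
          · rw [e]; exact (Subgroup.zpowers u).pow_mem (Subgroup.mem_zpowers u) 2
        · have e0 : (n * u * n⁻¹) ^ 2 = h ^ 2 := by
            rw [hyh, ((hcomH h hh).2.symm).mul_pow, pow_two w, hww, one_mul]
          rw [e0]
          exact (Subgroup.zpowers u).pow_mem hh 2
      exact hwH (hw_eq ▸ hsq)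
    · -- dihedral case
      have hconjk : ∀ k : ℕ, w * u ^ k * w = (u⁻¹) ^ k := by
        intro k
        have := conj_pow (a := w) (b := u) (i := k)
        rw [hcu, hwinv] at this
        exact this.symm
      have hinvol : ∀ k : ℕ, orderOf (w * u ^ k) = 2 ∧ w * u ^ k ∈ (S : Subgroup G) ∧
          w * u ^ k ∉ Subgroup.zpowers u := by
        intro k
        have hnotH : w * u ^ k ∉ Subgroup.zpowers u := by
          intro h
          apply hwH
          have := (Subgroup.zpowers u).mul_mem h
            ((Subgroup.zpowers u).inv_mem ((Subgroup.zpowers u).pow_mem (Subgroup.mem_zpowers u) k))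
          simpa using this
        refine ⟨?_, (S : Subgroup G).mul_mem hwS ((S : Subgroup G).pow_mem huS k), hnotH⟩
        apply orderOf_eq_prime
        · rw [pow_two]
          calc w * u ^ k * (w * u ^ k) = (w * u ^ k * w) * u ^ k := by group
            _ = 1 := by rw [hconjk k, inv_pow, inv_mul_cancel]
        · intro h1
          apply hnotH
          rw [h1]; exact (Subgroup.zpowers u).one_mem
      refine ⟨w, hw2, hcu, ?_, ?_⟩
      · intro k
        obtain ⟨h1, h2, h3⟩ := hinvol k
        obtain ⟨g, hg⟩ := hT _ h2 h1 h3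
        exact isConj_iff.2 ⟨g, hg⟩
      · intro t ht2
        have hpt : IsPGroup 2 (Subgroup.zpowers t) := by
          apply IsPGroup.of_card (n := 1)
          rw [Nat.card_zpowers, ht2]; norm_num
        obtain ⟨S', hS'⟩ := hpt.exists_le_sylow
        obtain ⟨g, hg⟩ := MulAction.exists_smul_eq G S S'
        have htS' : t ∈ ((g • S : Sylow 2 G) : Subgroup G) := by
          rw [hg]; exact hS' (Subgroup.mem_zpowers t)
        rw [h53_mem_smul_sylow_iff] at htS'
        have hs2 : orderOf (g⁻¹ * t * g) = 2 := by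
          have := h53_orderOf_conj g⁻¹ t
          rw [inv_inv] at this
          rw [this, ht2]
        by_cases hsH : g⁻¹ * t * g ∈ Subgroup.zpowers u
        · have := h53_invol_in_zpowers u hu _ hsH hs2
          exact isConj_iff.2 ⟨g⁻¹, by rw [inv_inv]; exact this⟩
        · obtain ⟨c, hc⟩ := hT _ htS' hs2 hsH
          refine isConj_iff.2 ⟨c * g⁻¹, ?_⟩
          rw [← hc]; group

end grp

end Cfsg.Agent.Helper53.O2520
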