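import Mathlib
import Cfsg.Agent.Lib.Helper17.Simple
import Cfsg.Agent.Lib.Helper17.EmbedNormalizer
import Cfsg.Agent.Lib.Helper87.SVKit
import Cfsg.Agent.Lib.Helper45.O459648A

/-!
# Server O459648 (helper53, S1022): pieces (D) data, (A) no96, (NC) cardNC
-/

set_option autoImplicit false

namespace Cfsg.Agent.Helper53.O459648

theorem h53_div_enum (d : ℕ) (hd : d ∣ 24192) (hm : d % 19 = 1) (h1 : 1 < d) :
    d = 96 ∨ d = 1008 := by
  have hmem : d ∈ Nat.divisors 24192 := Nat.mem_divisors.2 ⟨hd, by norm_num⟩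
  simp only [Nat.divisors_ofNat, Finset.mem_insert, Finset.mem_singleton] at hmem
  omega

/-- (D) `h87_data` with `p = 19`, `m = 24192`; the divisors of 24192 that are 1 mod 19 are 1, 96, 1008 -/
theorem data {G : Type*} [Group G] [Finite G] [IsSimpleGroup G] (hG : Nat.card G = 459648) :
    (∀ P : Sylow 19 G, Nat.card (P : Subgroup G) = 19) ∧
    (Nat.card (Sylow 19 G) = 96 ∨ Nat.card (Sylow 19 G) = 1008) ∧
    ∀ P : Sylow 19 G, ∃ e : ℕ, e ∣ 18 ∧ e ≠ 1 ∧
      Nat.card (Subgroup.centralizer ((P : Subgroup G) : Set G)) * e * Nat.card (Sylow 19 G) =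
        459648 := by
  haveI p19 : Fact (Nat.Prime 19) := ⟨by norm_num⟩
  have hna : ¬ IsMulCommutative G :=
    Cfsg.Agent.Helper17.not_comm_of_not_prime (by rw [hG]; norm_num)
  obtain ⟨hP, -, hd, hm, -, h1, he⟩ := Cfsg.Agent.Helper87.SV.h87_data hna 19 24192
    (by norm_num) (by rw [hG]; norm_num) (by norm_num)
  refine ⟨hP, h53_div_enum _ hd hm h1, ?_⟩
  intro P
  obtain ⟨e, he1, he2, he3⟩ := he P
  exact ⟨e, he1, he2, he3⟩

/-- (A) -/
theorem no96 {G : Type*} [Group G] [Finite G] [IsSimpleGroup G] (hG : Nat.card G = 459648) :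
    Nat.card (Sylow 19 G) ≠ 96 :=
  fun h => Cfsg.Agent.Helper45.O459648.false_of_ninetysix hG h

/-- (NC) from (D): `|N| = 459648 / 1008 = 456` and `|C| * e = 456`, `e ∈ {2,3,6,9,18}`, `e ∣ 456` -/
theorem cardNC {G : Type*} [Group G] [Finite G] [IsSimpleGroup G] (hG : Nat.card G = 459648)
    (h1008 : Nat.card (Sylow 19 G) = 1008) (P : Sylow 19 G) :
    Nat.card (Subgroup.normalizer ((P : Subgroup G) : Set G)) = 456 ∧
    (Nat.card (Subgroup.centralizer ((P : Subgroup G) : Set G)) = 76 ∨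
     Nat.card (Subgroup.centralizer ((P : Subgroup G) : Set G)) = 152 ∨
     Nat.card (Subgroup.centralizer ((P : Subgroup G) : Set G)) = 228) := by
  haveI p19 : Fact (Nat.Prime 19) := ⟨by norm_num⟩
  obtain ⟨-, -, he⟩ := data hG
  constructor
  · have h := Cfsg.Agent.Helper17.card_normalizer_mul_sylow_count P
    rw [h1008, hG] at h
    omega
  · obtain ⟨e, he1, he2, he3⟩ := he P
    rw [h1008] at he3
    have hle : e ≤ 18 := Nat.le_of_dvd (by norm_num) he1
    have hce : Nat.card (Subgroup.centralizer ((P : Subgroup G) : Set G)) * e = 456 := by omega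
    interval_cases e <;> omega

end Cfsg.Agent.Helper53.O459648
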