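import Mathlib
import Cfsg.Agent.Lib.Helper29.O459648_B4b
import Cfsg.Agent.Lib.Helper30.O459648_B4c
import Cfsg.Agent.Lib.Helper4.O459648_B3p
import Cfsg.Agent.Lib.Helper53.O459648_D
import Cfsg.Agent.Lib.Helper57.O459648_B3q
import Cfsg.Agent.Lib.Helper63.O459648_B1
import Cfsg.Agent.Lib.Helper67.O459648_B4a
import Cfsg.Agent.Lib.Helper86.O459648_B3u

/-!
# S1022: no simple group of order 459648 = 2^7 * 3^3 * 7 * 19 (server O459648, helper53)

`p = 19`: `n_19 ∈ {96, 1008}`.  `96` dies by a fixed-point count of an element of order 7 of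
`C(P)`.  For `1008`: `N = N(P)` has order 456, every nontrivial proper subgroup normalised by `N`
has normaliser exactly `N`; the Sylow 2-subgroup `V` of `C(P)` is such a subgroup, of order 4
(order 8 and a normal Sylow 3 die by normaliser growth); then `S0 > V` of order 8 in `N`,
`g ∈ N_G(S0) \ N` with `g² ∈ S0`, `V ∩ gVg⁻¹ = ⟨z⟩` with `z` centralised by `P`, `S0`, `g`, and the
Sylow count in `C_G(z)` is contradictory.
-/

set_option autoImplicit false

namespace Cfsg.Agent.Helper53.O459648Main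

theorem h53_card_ne_bot {G : Type*} [Group G] {X : Subgroup G} {j : ℕ} (hj : 1 < j)
    (hX : Nat.card X = j) : X ≠ ⊥ := by
  intro h
  rw [h, Subgroup.card_bot] at hX
  omega

theorem h53_card_ne_top {G : Type*} [Group G] {X : Subgroup G} {j n : ℕ} (hn : Nat.card G = n)
    (hj : j ≠ n) (hX : Nat.card X = j) : X ≠ ⊤ := by
  intro h
  rw [h, Subgroup.card_top, hn] at hX
  exact hj hX.symm

/-- transport of (B3p)/(B3q) to `C_G(P)` -/
theorem h53_center {G : Type*} [Group G] (P : Subgroup G)
    (hPab : ∀ a ∈ P, ∀ b ∈ P, a * b = b * a) :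
    P.subgroupOf (Subgroup.centralizer (P : Set G)) ≤
      Subgroup.center ↥(Subgroup.centralizer (P : Set G)) := by
  intro x hx
  rw [Subgroup.mem_center_iff]
  intro y
  have hy := y.2
  rw [Subgroup.mem_centralizer_iff] at hy
  have hx' : (x : G) ∈ P := hx
  apply Subtype.ext
  show (y : G) * (x : G) = (x : G) * (y : G)
  exact (hy _ hx').symm

theorem main {G : Type*} [Group G] [Finite G] [IsSimpleGroup G] : Nat.card G ≠ 459648 := by
  intro hG
  obtain ⟨hPall, h19, -⟩ := Cfsg.Agent.Helper53.O459648.data hG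
  rcases h19 with h96 | h1008
  · exact Cfsg.Agent.Helper53.O459648.no96 hG h96
  obtain ⟨P⟩ : Nonempty (Sylow 19 G) := inferInstance
  have hP := hPall P
  obtain ⟨hN, hC⟩ := Cfsg.Agent.Helper53.O459648.cardNC hG h1008 P
  have hPle : (P : Subgroup G) ≤ Subgroup.centralizer ((P : Subgroup G) : Set G) := by
    have hcyc : IsCyclic (P : Subgroup G) := by
      haveI : Fact (Nat.Prime 19) := ⟨by norm_num⟩
      exact isCyclic_of_prime_card hP
    intro a ha
    rw [Subgroup.mem_centralizer_iff]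
    intro b hb
    have := IsCyclic.commGroup.mul_comm (⟨b, hb⟩ : (P : Subgroup G)) ⟨a, ha⟩
    exact congrArg Subtype.val this
  have hPab : ∀ a ∈ (P : Subgroup G), ∀ b ∈ (P : Subgroup G), a * b = b * a := by
    intro a ha b hb
    have := hPle hb
    rw [Subgroup.mem_centralizer_iff] at this
    exact this a ha
  have hZc := h53_center (P : Subgroup G) hPab
  have hZcard : Nat.card ((P : Subgroup G).subgroupOf
      (Subgroup.centralizer ((P : Subgroup G) : Set G))) = 19 := by
    exact (Nat.card_congr (Subgroup.subgroupOfEquivOfLe hPle).toEquiv).trans hP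
  -- a subgroup `V` of order 4 in `C`, normalised by `N`
  have hV : ∃ V : Subgroup G, Nat.card V = 4 ∧
      V ≤ Subgroup.centralizer ((P : Subgroup G) : Set G) ∧
      Subgroup.normalizer ((P : Subgroup G) : Set G) ≤ Subgroup.normalizer (V : Set G) := by
    rcases hC with h76 | h152 | h228
    · obtain ⟨W, hW, hWu⟩ := Cfsg.Agent.Helper4.O459648.order_pow 2 (by rw [h76]; norm_num) _ hZcard hZc
      exact Cfsg.Agent.Helper86.O459648.unique_to_normal (P : Subgroup G) 4 W hW hWu
    · exfalso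
      obtain ⟨W, hW, hWu⟩ := Cfsg.Agent.Helper4.O459648.order_pow 3 (by rw [h152]; norm_num) _ hZcard hZc
      obtain ⟨V, hV8, -, hVN⟩ := Cfsg.Agent.Helper86.O459648.unique_to_normal (P : Subgroup G) 8 W hW hWu
      have hNV := Cfsg.Agent.Helper63.O459648.norm_eq hG h1008 P V (h53_card_ne_bot (by norm_num) hV8)
        (h53_card_ne_top hG (by norm_num) hV8) hVN
      haveI : Fact (Nat.Prime 2) := ⟨by norm_num⟩
      obtain ⟨K, hK, -, hKN⟩ := Cfsg.Agent.Helper67.O459648.grow (p := 2) (k := 3) V hV8 (by rw [hG]; norm_num)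
      rw [hNV] at hKN
      have := Subgroup.card_dvd_of_le hKN
      rw [hK, hN] at this
      norm_num at this
    · rcases Cfsg.Agent.Helper57.O459648.order228 h228 _ hZcard hZc with ⟨W, hW, hWu⟩ | ⟨W, hW, hWu⟩
      · exfalso
        obtain ⟨R, hR3, -, hRN⟩ := Cfsg.Agent.Helper86.O459648.unique_to_normal (P : Subgroup G) 3 W hW hWu
        have hNR := Cfsg.Agent.Helper63.O459648.norm_eq hG h1008 P R (h53_card_ne_bot (by norm_num) hR3)
          (h53_card_ne_top hG (by norm_num) hR3) hRN
        haveI : Fact (Nat.Prime 3) := ⟨by norm_num⟩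
        obtain ⟨K, hK, -, hKN⟩ := Cfsg.Agent.Helper67.O459648.grow (p := 3) (k := 1) R hR3 (by rw [hG]; norm_num)
        rw [hNR] at hKN
        have := Subgroup.card_dvd_of_le hKN
        rw [hK, hN] at this
        norm_num at this
      · exact Cfsg.Agent.Helper86.O459648.unique_to_normal (P : Subgroup G) 4 W hW hWu
  obtain ⟨V, hV4, hVC, hVN⟩ := hV
  have hNV := Cfsg.Agent.Helper63.O459648.norm_eq hG h1008 P V (h53_card_ne_bot (by norm_num) hV4)
    (h53_card_ne_top hG (by norm_num) hV4) hVN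
  obtain ⟨S0, g, hS0, hVS, hSN, hgN, hgS, hgg⟩ := Cfsg.Agent.Helper67.O459648.endgame_setup hG _ V hN hV4 hNV
  obtain ⟨z, hz1, hzV, hzS, hgz⟩ := Cfsg.Agent.Helper29.O459648.endgame_z _ V S0 g hV4 hNV hS0 hVS hSN hgN hgS hgg
  exact Cfsg.Agent.Helper30.O459648.endgame_final hG P hP hN S0 hS0 hSN z g hz1 (hVC hzV) hzS hgz hgN


end Cfsg.Agent.Helper53.O459648Main
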