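import Mathlib
import Cfsg.Agent.Lib.Helper93.RU0
import Cfsg.Agent.Lib.Helper82.RUA
import Cfsg.Agent.Lib.Helper35.RJ0
import Cfsg.Agent.Lib.Helper87.RJP

/-!
# RJ server (helper35, S2279): pieces (TA) `Tjk_add`, (TI) `Tjk_inv`, (TS) `Tjk_shift`
-/

set_option autoImplicit false

namespace Cfsg.Agent.Helper53.RJ

open Matrix Cfsg.Agent.Helper93.RU Cfsg.Agent.Helper35.RJ

variable {F : Type*} [Field F] {m : ℕ}

theorem h53_T_dot (j k : ℤ) (hjk : piZ m F (j - k) = 0) (x : F) :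
    (x • phV m F k) ⬝ᵥ aV m F j = 0 := by
  rw [smul_dotProduct, Cfsg.Agent.Helper87.RJ.pair, hjk, smul_zero]

/-- (TA) `tvS_mul` (Helper82.RUA) + (PA). -/
theorem Tjk_add (j k : ℤ) (hjk : piZ m F (j - k) = 0) (x y : F) :
    Tjk (m := m) j k x * Tjk j k y = Tjk j k (x + y) := by
  unfold Tjk
  rw [Cfsg.Agent.Helper82.RU.tvS_mul _ _ _ (h53_T_dot j k hjk x) (h53_T_dot j k hjk y), add_smul]

/-- (TI) `tvS_inv` + (PA). -/
theorem Tjk_inv (j k : ℤ) (hjk : piZ m F (j - k) = 0) (x : F) :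
    (Tjk (m := m) j k x)⁻¹ = Tjk j k (-x) := by
  unfold Tjk
  rw [Cfsg.Agent.Helper82.RU.tvS_inv _ _ (h53_T_dot j k hjk x), neg_smul]

/-- (TS) `tvS_conj` with `g = J^i`: `J^i a_j = a_{j+i}`, `φ_k J^{-i} = φ_{k+i}`. -/
theorem Tjk_shift (i j k : ℤ) (hjk : piZ m F (j - k) = 0) (x : F) :
    (uEl m F) ^ i * Tjk j k x * ((uEl m F) ^ i)⁻¹ = Tjk (j + i) (k + i) x := by
  unfold Tjk
  rw [(Cfsg.Agent.Helper82.RU.tvS_conj ((uEl m F) ^ i) _ _ (h53_T_dot j k hjk x)).2]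
  have ha : ((uEl m F) ^ i).1 *ᵥ aV m F j = aV m F (j + i) := by
    unfold aV
    rw [Matrix.mulVec_mulVec, ← Matrix.SpecialLinearGroup.coe_mul, ← _root_.zpow_add, add_comm i j]
  have hp : (x • phV m F k) ᵥ* (((uEl m F) ^ i)⁻¹).1 = x • phV m F (k + i) := by
    rw [Matrix.smul_vecMul]
    congr 1
    unfold phV
    rw [Matrix.vecMul_vecMul, ← _root_.zpow_neg, ← Matrix.SpecialLinearGroup.coe_mul, ← _root_.zpow_add, neg_add]
  rw [ha, hp]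

end Cfsg.Agent.Helper53.RJ
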