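import Mathlib
import Cfsg.Agent.Lib.Helper93.RU0
import Cfsg.Agent.Lib.Helper82.RUA
import Cfsg.Agent.Lib.Helper35.RJ0
import Cfsg.Agent.Lib.Helper87.RJP
import Cfsg.Agent.Lib.Helper53.RJT
import Cfsg.Agent.Lib.Helper90.RJR2

/-!
# RJ server (helper35, S2279): pieces (LA) `Lam_addSubgroup`, (LS) `Lam_step`
-/

set_option autoImplicit false

namespace Cfsg.Agent.Helper53.RJ

open Matrix Cfsg.Agent.Helper93.RU Cfsg.Agent.Helper35.RJ

variable {F : Type*} [Field F] {m : ℕ}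

theorem h53_pi_window (i : ℕ) (hi : i ≤ m + 1) : piZ m F ((i : ℤ) - 0) = 0 := by
  rw [sub_zero, Cfsg.Agent.Helper87.RJ.pi_nat, Nat.choose_eq_zero_of_lt (by omega), Nat.cast_zero]

/-- (LA) `Λ_d` is an additive subgroup for `d ≤ m+1` ((TA), (TI), `π(d) = 0` by (PZ); `T(d,0;0) = 1` by `tvS_zero`). -/
theorem Lam_addSubgroup (H : Subgroup (SLm m F)) (d : ℕ) (hd : d ≤ m + 1) :
    ∃ L : AddSubgroup F, (L : Set F) = Lam H d := by
  have hpz := h53_pi_window (F := F) (m := m) d hd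
  refine ⟨{ carrier := Lam H d
            add_mem' := ?_
            zero_mem' := ?_
            neg_mem' := ?_ }, rfl⟩
  · intro x y hx hy
    show Tjk (m := m) (d : ℤ) 0 (x + y) ∈ H
    rw [← Tjk_add _ _ hpz]
    exact H.mul_mem hx hy
  · show Tjk (m := m) (d : ℤ) 0 0 ∈ H
    unfold Tjk
    rw [zero_smul, Cfsg.Agent.Helper82.RU.tvS_zero]
    exact H.one_mem
  · intro x hx
    show Tjk (m := m) (d : ℤ) 0 (-x) ∈ H
    rw [← Tjk_inv _ _ hpz]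
    exact H.inv_mem hx

/-- (LS) (TS) with `i = 1`, then (R2) with `j = 1`. -/
theorem Lam_step (H : Subgroup (SLm m F)) (lam : F) (hu : uEl m F ∈ H) (hs : ∀ k : ℤ, sK lam k ∈ H)
    (d : ℕ) (hd : d ≤ m) (x : F) (hx : x ∈ Lam H d) : lam * x ∈ Lam H (d + 1) := by
  have hT : Tjk (m := m) (d : ℤ) 0 x ∈ H := hx
  have hpz := h53_pi_window (F := F) (m := m) d (by omega)
  have hJ : (uEl m F) ^ (1 : ℤ) ∈ H := H.zpow_mem hu 1
  have h1 : Tjk (m := m) ((d : ℤ) + 1) (0 + 1) x ∈ H := by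
    rw [← Tjk_shift 1 (d : ℤ) 0 hpz x]
    exact H.mul_mem (H.mul_mem hJ hT) (H.inv_mem hJ)
  have h1' : Tjk (m := m) ((1 : ℤ) + (d : ℤ)) 1 x ∈ H := by
    have e1 : (1 : ℤ) + (d : ℤ) = (d : ℤ) + 1 := by ring
    rw [e1]
    simpa using h1
  have h2 := Cfsg.Agent.Helper90.RJ.step_up H lam x 1 d hd (hs 1) h1'
  show Tjk (m := m) ((d + 1 : ℕ) : ℤ) 0 (lam * x) ∈ H
  have e2 : ((d + 1 : ℕ) : ℤ) = (1 : ℤ) + (d : ℤ) := by push_cast; ring
  rw [e2]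
  simpa using h2

end Cfsg.Agent.Helper53.RJ
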