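import Mathlib
import Cfsg.Agent.Lib.Helper93.RU0
import Cfsg.Agent.Lib.Helper82.RUA
import Cfsg.Agent.Lib.Helper35.RJ0
import Cfsg.Agent.Lib.Helper87.RJP
import Cfsg.Agent.Lib.Helper53.RJT
import Cfsg.Agent.Lib.Helper40.RJR1
import Cfsg.Agent.Lib.Helper79.RUB1
import Cfsg.Agent.Lib.Helper12.RUD1
import Cfsg.Agent.Lib.Helper44.RUD2

/-!
# RJ server (helper35, S2279): pieces (L1) `Lam_seed`, (W3) `all_mem_W`, (CR) `conj_regular`
-/

set_option autoImplicit false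

namespace Cfsg.Agent.Helper53.RJ

open Matrix Cfsg.Agent.Helper93.RU Cfsg.Agent.Helper35.RJ

variable {F : Type*} [Field F] {m : ℕ}

/-- (L1) (R1) + (S0) give `T(1,-1;λ³) ∈ H`; (TS) with `i = 1` (`π(2) = 0`). -/
theorem Lam_seed (hm : 1 ≤ m) (H : Subgroup (SLm m F)) (lam : F) (hu : uEl m F ∈ H)
    (hs : ∀ k : ℤ, sK lam k ∈ H) : lam ^ 3 ∈ Lam H 2 := by
  have h0 := hs 0
  have h1 := hs 1
  have hseed := Cfsg.Agent.Helper40.RJ.seed (F := F) hm lam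
  simp only at hseed
  have hT : Tjk (m := m) 1 (-1) (lam ^ 3) ∈ H := by
    rw [← hseed]
    have hc : sK (m := m) lam 1 * sK lam 0 * (sK lam 1)⁻¹ * (sK lam 0)⁻¹ ∈ H :=
      H.mul_mem (H.mul_mem (H.mul_mem h1 h0) (H.inv_mem h1)) (H.inv_mem h0)
    exact H.mul_mem (H.mul_mem (H.mul_mem hc h0) (H.inv_mem hc)) (H.inv_mem h0)
  have hpz : piZ m F ((1 : ℤ) - (-1)) = 0 := by
    have : ((1 : ℤ) - (-1)) = ((2 : ℕ) : ℤ) := by norm_num
    rw [this, Cfsg.Agent.Helper87.RJ.pi_nat, Nat.choose_eq_zero_of_lt (by omega), Nat.cast_zero]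
  have hJ : (uEl m F) ^ (1 : ℤ) ∈ H := H.zpow_mem hu 1
  have h2 : Tjk (m := m) ((1 : ℤ) + 1) (-1 + 1) (lam ^ 3) ∈ H := by
    rw [← Tjk_shift 1 1 (-1) hpz (lam ^ 3)]
    exact H.mul_mem (H.mul_mem hJ hT) (H.inv_mem hJ)
  show Tjk (m := m) ((2 : ℕ) : ℤ) 0 (lam ^ 3) ∈ H
  have e1 : ((2 : ℕ) : ℤ) = (1 : ℤ) + 1 := by norm_num
  have e2 : (0 : ℤ) = -1 + 1 := by norm_num
  rw [e1]
  convert h2 using 2

/-- `J e_k = e_k + e_{k-1}` -/
theorem h53_uEl_mulVec_eV (k : ℕ) (hk : k + 1 < m + 3) :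
    (uEl m F).1 *ᵥ eV (⟨k + 1, hk⟩ : Fin (m + 3)) =
      eV (⟨k + 1, hk⟩ : Fin (m + 3)) + eV (⟨k, by omega⟩ : Fin (m + 3)) := by
  rw [Cfsg.Agent.Helper79.RU.uEl_val, Matrix.add_mulVec, Matrix.one_mulVec]
  congr 1
  funext i
  unfold eV
  rw [Matrix.mulVec_single_one]
  simp only [Nmat, Matrix.of_apply, Matrix.col_apply, Pi.single_apply]
  by_cases hi : i.val + 1 = k + 1
  · have : i = ⟨k, by omega⟩ := Fin.ext (by simpa using hi)
    simp [this]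
  · have h1 : ¬ i.val = k := fun h => hi (by rw [h])
    have : i ≠ ⟨k, by omega⟩ := fun h => hi (by rw [h])
    simp [this, h1]

/-- (W3) downward induction: `J e_k = e_k + e_{k-1}` (`uEl_val`), so `e_{k-1} = J e_k - e_k ∈ Wset H`
(`W_conj`, `W_add`, `W_smul (-1)`: Helper12.RUD1, Helper44.RUD2). -/
theorem all_mem_W (H : Subgroup (SLm m F)) (hu : uEl m F ∈ H) (h : eV (lastI m) ∈ Wset H)
    (k : Fin (m + 3)) : eV k ∈ Wset H := by
  have key : ∀ j : ℕ, ∀ hj : j ≤ m + 2,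
      (eV (⟨m + 2 - j, by omega⟩ : Fin (m + 3)) : Fin (m + 3) → F) ∈ Wset H := by
    intro j
    induction j with
    | zero =>
      intro _
      exact h
    | succ j ih =>
      intro hj
      have hprev := ih (by omega)
      have hidx : m + 2 - j = (m + 2 - (j + 1)) + 1 := by omega
      have hlt : (m + 2 - (j + 1)) + 1 < m + 3 := by omega
      have hprev' : (eV (⟨(m + 2 - (j + 1)) + 1, hlt⟩ : Fin (m + 3)) : Fin (m + 3) → F) ∈ Wset H := by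
        have : (⟨(m + 2 - (j + 1)) + 1, hlt⟩ : Fin (m + 3)) = ⟨m + 2 - j, by omega⟩ :=
          Fin.ext hidx.symm
        rw [this]
        exact hprev
      have hc := Cfsg.Agent.Helper44.RU.W_conj H (uEl m F) hu _ hprev'
      rw [h53_uEl_mulVec_eV (m + 2 - (j + 1)) hlt] at hc
      have hneg := Cfsg.Agent.Helper44.RU.W_smul H (-1 : F) _ hprev'
      have hsum := Cfsg.Agent.Helper12.RU.W_add H _ _ hc hneg
      have e : (eV (⟨(m + 2 - (j + 1)) + 1, hlt⟩ : Fin (m + 3)) : Fin (m + 3) → F) +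
          eV (⟨m + 2 - (j + 1), by omega⟩ : Fin (m + 3)) +
          (-1 : F) • (eV (⟨(m + 2 - (j + 1)) + 1, hlt⟩ : Fin (m + 3)) : Fin (m + 3) → F) =
          eV (⟨m + 2 - (j + 1), by omega⟩ : Fin (m + 3)) := by
        rw [neg_one_smul]; abel
      rw [e] at hsum
      exact hsum
  have hk := k.2
  have := key (m + 2 - k.val) (by omega)
  have hidx : (⟨m + 2 - (m + 2 - k.val), by omega⟩ : Fin (m + 3)) = k := Fin.ext (by simp; omega)
  rw [hidx] at this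
  exact this

/-- (CR) `(g u g⁻¹).1 - 1 = g.1 (u.1 - 1) g⁻¹.1`, powers conjugate; `g.1 * g⁻¹.1 = 1`. -/
theorem conj_regular (u g : SLm m F) (h : IsNilpotent (u.1 - 1) ∧ (u.1 - 1) ^ (m + 2) ≠ 0) :
    IsNilpotent ((g * u * g⁻¹).1 - 1) ∧ ((g * u * g⁻¹).1 - 1) ^ (m + 2) ≠ 0 := by
  have hgi : (g⁻¹).1 * g.1 = 1 := by
    rw [← Matrix.SpecialLinearGroup.coe_mul, inv_mul_cancel, Matrix.SpecialLinearGroup.coe_one]
  have hgi' : g.1 * (g⁻¹).1 = 1 := by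
    rw [← Matrix.SpecialLinearGroup.coe_mul, mul_inv_cancel, Matrix.SpecialLinearGroup.coe_one]
  have hconj : (g * u * g⁻¹).1 - 1 = g.1 * (u.1 - 1) * (g⁻¹).1 := by
    rw [Matrix.SpecialLinearGroup.coe_mul, Matrix.SpecialLinearGroup.coe_mul, mul_sub, sub_mul,
      mul_one, hgi']
  have hpow : ∀ t : ℕ, (g.1 * (u.1 - 1) * (g⁻¹).1) ^ t = g.1 * (u.1 - 1) ^ t * (g⁻¹).1 := by
    intro t
    induction t with
    | zero => rw [pow_zero, pow_zero, mul_one, hgi']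
    | succ t ih =>
      rw [pow_succ, ih, pow_succ]
      calc g.1 * (u.1 - 1) ^ t * (g⁻¹).1 * (g.1 * (u.1 - 1) * (g⁻¹).1)
          = g.1 * (u.1 - 1) ^ t * ((g⁻¹).1 * g.1) * (u.1 - 1) * (g⁻¹).1 := by
            simp only [mul_assoc]
        _ = g.1 * ((u.1 - 1) ^ t * (u.1 - 1)) * (g⁻¹).1 := by
            rw [hgi, mul_one]; simp only [mul_assoc]
  rw [hconj]
  constructor
  · obtain ⟨t, ht⟩ := h.1
    exact ⟨t, by rw [hpow, ht, mul_zero, zero_mul]⟩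
  · intro h0
    apply h.2
    rw [hpow] at h0
    have : (g⁻¹).1 * (g.1 * (u.1 - 1) ^ (m + 2) * (g⁻¹).1) * g.1 = (u.1 - 1) ^ (m + 2) := by
      calc (g⁻¹).1 * (g.1 * (u.1 - 1) ^ (m + 2) * (g⁻¹).1) * g.1
          = ((g⁻¹).1 * g.1) * (u.1 - 1) ^ (m + 2) * ((g⁻¹).1 * g.1) := by
            simp only [mul_assoc]
        _ = (u.1 - 1) ^ (m + 2) := by rw [hgi, one_mul, mul_one]
    rw [← this, h0, mul_zero, zero_mul]

end Cfsg.Agent.Helper53.RJ
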