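import Mathlib
import Cfsg.Agent.Lib.Helper93.RU0
import Cfsg.Agent.Lib.Helper35.RJ0
import Cfsg.Agent.Lib.Helper87.RJP
import Cfsg.Agent.Lib.Helper16.RJCM
import Cfsg.Agent.Lib.Helper53.RJT

/-!
# RJ server (helper35, S2279): piece (R3) `prod_rule`
-/

set_option autoImplicit false

namespace Cfsg.Agent.Helper53.RJ

open Matrix Cfsg.Agent.Helper93.RU Cfsg.Agent.Helper35.RJ
open Cfsg.Agent.Helper87.RJ Cfsg.Agent.Helper16.RJ

variable {F : Type*} [Field F] {m : ℕ}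

theorem h53_pi_small (i : ℕ) (hi : i ≤ m + 1) : piZ m F (i : ℤ) = 0 := by
  rw [pi_nat, Nat.choose_eq_zero_of_lt (by omega)]
  simp

/-- (R3) `A = T(d,0;x)`, `B = T(k+d',k;y)` with `k = d - r` ((TS) of `T(d',0;y)` by `i = k`); (CM) with
`a = a_d, φ = x φ_0, a' = a_{k+d'}, φ' = y φ_k`: `φ ⬝ a' = x π(d+d'-r) = 0` (window), `φ' ⬝ a = y π(r) = y C(r,m+2)`;
`[A,B] = T(d+d'-r,0; -C(r,m+2) x y)`; sign by (TI)/(LA). -/
theorem prod_rule (H : Subgroup (SLm m F)) (hu : uEl m F ∈ H) (d d' r : ℕ) (hd : d ≤ m + 1)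
    (hd' : d' ≤ m + 1) (hr : m + 2 ≤ r) (hr' : r ≤ d + d') (x y : F) (hx : x ∈ Lam H d)
    (hy : y ∈ Lam H d') : (Nat.choose r (m + 2) : F) * x * y ∈ Lam H (d + d' - r) := by
  have hA : Tjk (m := m) (d : ℤ) 0 x ∈ H := hx
  have hB0 : Tjk (m := m) (d' : ℤ) 0 y ∈ H := hy
  set k : ℤ := (d : ℤ) - (r : ℤ) with hk
  have hJk : (uEl m F) ^ k ∈ H := H.zpow_mem hu k
  have hpd' : piZ m F ((d' : ℤ) - 0) = 0 := by
    rw [sub_zero]; exact h53_pi_small d' hd'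
  have hB : Tjk (m := m) ((d' : ℤ) + k) (0 + k) y ∈ H := by
    rw [← Tjk_shift k (d' : ℤ) 0 hpd' y]
    exact H.mul_mem (H.mul_mem hJk hB0) (H.inv_mem hJk)
  have hidx : (d' : ℤ) + k = ((d + d' - r : ℕ) : ℤ) := by
    rw [hk]; omega
  have h1 : (x • phV m F 0) ⬝ᵥ aV m F (d : ℤ) = 0 := by
    rw [smul_dotProduct, pair, sub_zero, h53_pi_small d hd, smul_zero]
  have h2 : (y • phV m F (0 + k)) ⬝ᵥ aV m F ((d' : ℤ) + k) = 0 := by
    rw [smul_dotProduct, pair]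
    have : (d' : ℤ) + k - (0 + k) = (d' : ℤ) := by ring
    rw [this, h53_pi_small d' hd', smul_zero]
  have h3 : (x • phV m F 0) ⬝ᵥ aV m F ((d' : ℤ) + k) = 0 := by
    rw [smul_dotProduct, pair, sub_zero, hidx, h53_pi_small (d + d' - r) (by omega), smul_zero]
  have h4 : (y • phV m F (0 + k)) ⬝ᵥ aV m F (d : ℤ) = y * (Nat.choose r (m + 2) : F) := by
    rw [smul_dotProduct, pair]
    have : (d : ℤ) - (0 + k) = (r : ℤ) := by rw [hk]; ring
    rw [this, pi_nat, smul_eq_mul]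
  have hcomm := comm_tvS (aV m F (d : ℤ)) (aV m F ((d' : ℤ) + k)) (x • phV m F 0)
    (y • phV m F (0 + k)) h1 h2 h3
  rw [h4] at hcomm
  have hmem : tvS (aV m F ((d' : ℤ) + k))
      (-(y * (Nat.choose r (m + 2) : F)) • x • phV m F 0) ∈ H := by
    rw [← hcomm]
    exact H.mul_mem (H.mul_mem (H.mul_mem hA hB) (H.inv_mem hA)) (H.inv_mem hB)
  rw [smul_smul, hidx] at hmem
  have hT : Tjk (m := m) ((d + d' - r : ℕ) : ℤ) 0
      (-(y * (Nat.choose r (m + 2) : F)) * x) ∈ H := hmem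
  have hpz : piZ m F (((d + d' - r : ℕ) : ℤ) - 0) = 0 := by
    rw [sub_zero]; exact h53_pi_small _ (by omega)
  have hinv := H.inv_mem hT
  rw [Tjk_inv _ _ hpz] at hinv
  have hval : -(-(y * (Nat.choose r (m + 2) : F)) * x) = (Nat.choose r (m + 2) : F) * x * y := by
    ring
  rw [hval] at hinv
  exact hinv

end Cfsg.Agent.Helper53.RJ
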