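import Mathlib
import Cfsg.Agent.Lib.Helper93.RU0
import Cfsg.Agent.Lib.Helper35.RJ0
import Cfsg.Agent.Lib.Helper87.RUPow

/-!
# RJ server (helper35, S2279): piece (W1) `phV_span`
-/

set_option autoImplicit false

namespace Cfsg.Agent.Helper53.RJ

open Matrix Cfsg.Agent.Helper93.RU Cfsg.Agent.Helper35.RJ

variable {F : Type*} [Field F] {m : ℕ}

/-- `φ_{-i}` is row 0 of `J^i`: entries `C(i,k)` -/
theorem h53_phV_neg_apply (i : ℕ) (k : Fin (m + 3)) :
    phV m F (-(i : ℤ)) k = (Nat.choose i k.val : F) := by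
  unfold phV
  rw [neg_neg, zpow_natCast, eV, Matrix.single_one_vecMul]
  show ((uEl m F) ^ i).1 0 k = _
  rw [Cfsg.Agent.Helper87.RUPow.uEl_pow_apply]
  simp

theorem h53_vec_eq_sum (w : Fin (m + 3) → F) : w = ∑ j : Fin (m + 3), w j • (eV j : Fin (m + 3) → F) := by
  funext k
  simp [eV, Finset.sum_apply, Pi.single_apply]

theorem h53_eV_mem (k : ℕ) (hk : k ≤ m + 1) :
    (eV (⟨k, by omega⟩ : Fin (m + 3)) : Fin (m + 3) → F) ∈
      Submodule.span F (Set.range fun i : Fin (m + 2) => phV m F (-(i.val : ℤ))) := by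
  induction k using Nat.strong_induction_on with
  | _ k ih =>
    set S := Submodule.span F (Set.range fun i : Fin (m + 2) => phV m F (-(i.val : ℤ))) with hS
    have hv : phV m F (-(k : ℤ)) ∈ S :=
      Submodule.subset_span ⟨⟨k, by omega⟩, rfl⟩
    have hsum := h53_vec_eq_sum (phV m F (-(k : ℤ)))
    rw [← Finset.add_sum_erase _ _ (Finset.mem_univ (⟨k, by omega⟩ : Fin (m + 3)))] at hsum
    rw [h53_phV_neg_apply, Nat.choose_self, Nat.cast_one, one_smul] at hsum
    have hrest : ∑ j ∈ Finset.univ.erase (⟨k, by omega⟩ : Fin (m + 3)),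
        phV m F (-(k : ℤ)) j • (eV j : Fin (m + 3) → F) ∈ S := by
      apply Submodule.sum_mem
      intro j hj
      rw [h53_phV_neg_apply]
      rcases lt_trichotomy j.val k with hlt | heq | hgt
      · have := ih j.val hlt (by omega)
        exact S.smul_mem _ this
      · exfalso
        exact (Finset.ne_of_mem_erase hj) (Fin.ext heq)
      · rw [Nat.choose_eq_zero_of_lt hgt, Nat.cast_zero, zero_smul]
        exact S.zero_mem
    have : (eV (⟨k, by omega⟩ : Fin (m + 3)) : Fin (m + 3) → F) =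
        phV m F (-(k : ℤ)) - ∑ j ∈ Finset.univ.erase (⟨k, by omega⟩ : Fin (m + 3)),
          phV m F (-(k : ℤ)) j • (eV j : Fin (m + 3) → F) := by
      rw [eq_sub_iff_add_eq]
      exact hsum.symm
    rw [this]
    exact S.sub_mem hv hrest

/-- (W1) `φ_{-i} = e_0ᵀ J^i = Σ_{k ≤ i} C(i,k) e_k` (row 0 of `J^i`): triangular with diagonal `1`, `i = 0..m+1`. -/
theorem phV_span (ψ : Fin (m + 3) → F) (hψ : ψ (lastI m) = 0) :
    ∃ c : Fin (m + 2) → F, ψ = ∑ i : Fin (m + 2), c i • phV m F (-(i.val : ℤ)) := by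
  have hmem : ψ ∈ Submodule.span F (Set.range fun i : Fin (m + 2) => phV m F (-(i.val : ℤ))) := by
    rw [h53_vec_eq_sum ψ]
    apply Submodule.sum_mem
    intro j _
    by_cases hj : j.val ≤ m + 1
    · have := h53_eV_mem (F := F) (m := m) j.val hj
      exact Submodule.smul_mem _ _ this
    · have hjl : j = lastI m := by
        apply Fin.ext
        have := j.2
        show j.val = m + 2
        omega
      rw [hjl, hψ, zero_smul]
      exact Submodule.zero_mem _
  obtain ⟨c, hc⟩ := (Submodule.mem_span_range_iff_exists_fun F).1 hmem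
  exact ⟨c, hc.symm⟩

end Cfsg.Agent.Helper53.RJ
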