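import Mathlib
import Cfsg.Agent.Lib.Helper93.RU0
import Cfsg.Agent.Lib.Helper82.RUA
import Cfsg.Agent.Lib.Helper35.RJ0
import Cfsg.Agent.Lib.Helper53.RJW1
import Cfsg.Agent.Lib.Helper87.RJP
import Cfsg.Agent.Lib.Helper53.RJT

/-!
# RJ server (helper35, S2279): piece (W2) `last_mem_W`
-/

set_option autoImplicit false

namespace Cfsg.Agent.Helper53.RJ

open Matrix Cfsg.Agent.Helper93.RU Cfsg.Agent.Helper35.RJ
open Cfsg.Agent.Helper87.RJ

variable {F : Type*} [Field F] {m : ℕ}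

theorem h53_aV_zero : aV m F 0 = eV (lastI m) := by
  unfold aV
  rw [zpow_zero, Matrix.SpecialLinearGroup.coe_one, Matrix.one_mulVec]

theorem h53_phV_neg_last (i : ℕ) (hi : i ≤ m + 1) : phV m F (-(i : ℤ)) (lastI m) = 0 := by
  rw [h53_phV_neg_apply]
  have : (lastI m).val = m + 2 := rfl
  rw [this, Nat.choose_eq_zero_of_lt (by omega), Nat.cast_zero]

theorem h53_dot_eV (φ : Fin (m + 3) → F) (k : Fin (m + 3)) : φ ⬝ᵥ eV k = φ k := by
  unfold eV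
  rw [dotProduct_single_one]

/-- one factor: `tvS e_last (c • φ_{-i}) = T(0,-i;c) ∈ H` -/
theorem h53_factor_mem (H : Subgroup (SLm m F)) (hu : uEl m F ∈ H)
    (hL : ∀ d, d ≤ m + 1 → ∀ x : F, x ∈ Lam H d) (i : ℕ) (hi : i ≤ m + 1) (c : F) :
    tvS (eV (lastI m)) (c • phV m F (-(i : ℤ))) ∈ H := by
  have hT : Tjk (m := m) (i : ℤ) 0 c ∈ H := hL i hi c
  have hJ : (uEl m F) ^ (-(i : ℤ)) ∈ H := H.zpow_mem hu _
  have hpz : piZ m F ((i : ℤ) - 0) = 0 := by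
    rw [sub_zero, pi_nat, Nat.choose_eq_zero_of_lt (by omega), Nat.cast_zero]
  have hs := Tjk_shift (-(i : ℤ)) (i : ℤ) 0 hpz c
  have h0 : (i : ℤ) + -(i : ℤ) = 0 := by ring
  rw [h0, zero_add] at hs
  have hmem : Tjk (m := m) 0 (-(i : ℤ)) c ∈ H := by
    rw [← hs]
    exact H.mul_mem (H.mul_mem hJ hT) (H.inv_mem hJ)
  unfold Tjk at hmem
  rw [h53_aV_zero] at hmem
  exact hmem

theorem h53_sum_mem (H : Subgroup (SLm m F)) (hu : uEl m F ∈ H)
    (hL : ∀ d, d ≤ m + 1 → ∀ x : F, x ∈ Lam H d) (c : Fin (m + 2) → F) (s : Finset (Fin (m + 2))) :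
    (∑ i ∈ s, c i • phV m F (-(i.val : ℤ))) ⬝ᵥ eV (lastI m) = 0 ∧
      tvS (eV (lastI m)) (∑ i ∈ s, c i • phV m F (-(i.val : ℤ))) ∈ H := by
  classical
  induction s using Finset.induction_on with
  | empty =>
    rw [Finset.sum_empty]
    exact ⟨zero_dotProduct _, by rw [Cfsg.Agent.Helper82.RU.tvS_zero]; exact H.one_mem⟩
  | insert a s ha ih =>
    rw [Finset.sum_insert ha]
    have h1 : (c a • phV m F (-(a.val : ℤ))) ⬝ᵥ eV (lastI m) = 0 := by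
      rw [h53_dot_eV, Pi.smul_apply, h53_phV_neg_last a.val (by have := a.2; omega), smul_zero]
    refine ⟨by rw [add_dotProduct, h1, ih.1, add_zero], ?_⟩
    rw [← Cfsg.Agent.Helper82.RU.tvS_mul _ _ _ h1 ih.1]
    exact H.mul_mem (h53_factor_mem H hu hL a.val (by have := a.2; omega) (c a)) ih.2

/-- (W2) `ψ ⬝ e_last = ψ last = 0`; (W1); `tvS e_last (c • φ_{-i}) = T(0,-i;c)` = (TS) of `T(i,0;c) ∈ H` by `-i`;
products by `tvS_mul` (finite sum: induction). -/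
theorem last_mem_W (H : Subgroup (SLm m F)) (hu : uEl m F ∈ H)
    (hL : ∀ d, d ≤ m + 1 → ∀ x : F, x ∈ Lam H d) : eV (lastI m) ∈ Wset H := by
  intro φ hφ
  rw [h53_dot_eV] at hφ
  obtain ⟨c, hc⟩ := phV_span φ hφ
  rw [hc]
  exact (h53_sum_mem H hu hL c Finset.univ).2

end Cfsg.Agent.Helper53.RJ
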