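import Mathlib
import Cfsg.Agent.Lib.Helper53.SL2Inv

set_option autoImplicit false

namespace Cfsg.Agent.Helper53

open Matrix

section SL2

variable {F : Type*} [Field F]

theorem negOneSL2_comm (A : Matrix.SpecialLinearGroup (Fin 2) F) :
    negOneSL2 F * A = A * negOneSL2 F := by
  apply sl2_ext <;> rw [sl2_mul_apply, sl2_mul_apply] <;> simp [negOneSL2]

theorem exists_sq_add_sq_eq_neg_one [Finite F] : ∃ a b : F, a ^ 2 + b ^ 2 = -1 := by
  have : NeZero (ringChar F) := ⟨CharP.char_ne_zero_of_finite F (ringChar F)⟩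
  obtain ⟨a, b, h⟩ := CharP.sq_add_sq F (ringChar F) (-1)
  exact ⟨a, b, by rw [h]; simp⟩

/-- shape of the elements commuting with `w`. -/
theorem sl2_comm_w_shape (V : Matrix.SpecialLinearGroup (Fin 2) F)
    (h : V * wSL2 F = wSL2 F * V) : V.1 1 1 = V.1 0 0 ∧ V.1 0 1 = - V.1 1 0 := by
  have e00 := congrArg (fun M : Matrix.SpecialLinearGroup (Fin 2) F => M.1 0 0) h
  have e01 := congrArg (fun M : Matrix.SpecialLinearGroup (Fin 2) F => M.1 0 1) h
  simp only [sl2_mul_apply] at e00 e01
  simp [wSL2] at e00 e01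
  exact ⟨e01.symm, e00⟩

/-- elements of square `-1` commuting with `w` are `w` and `-w`. -/
theorem sl2_comm_w_sq (h2 : (2 : F) ≠ 0) (V : Matrix.SpecialLinearGroup (Fin 2) F)
    (hV : V * V = negOneSL2 F) (h : V * wSL2 F = wSL2 F * V) :
    V = wSL2 F ∨ V = negOneSL2 F * wSL2 F := by
  obtain ⟨h11, h01⟩ := sl2_comm_w_shape V h
  have htr := sl2_trace_zero V hV
  have hdet := sl2_det V
  set a := V.1 0 0
  set b := V.1 0 1
  set c := V.1 1 0
  set d := V.1 1 1
  have ha : a = 0 := by
    have : 2 * a = 0 := by linear_combination htr - h11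
    rcases mul_eq_zero.mp this with h | h
    · exact absurd h h2
    · exact h
  have hd : d = 0 := by rw [h11, ha]
  have hc2 : (c - 1) * (c + 1) = 0 := by
    rw [ha, hd, h01] at hdet
    linear_combination hdet
  rcases mul_eq_zero.mp hc2 with h | h
  · left
    have hc : c = 1 := by linear_combination h
    apply sl2_ext <;> simp [wSL2]
    · exact ha
    · change b = -1; rw [h01, hc]
    · exact hc
    · exact hd
  · right
    have hc : c = -1 := by linear_combination h
    apply sl2_ext <;> rw [sl2_mul_apply] <;> simp [wSL2, negOneSL2]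
    · exact ha
    · change b = 1; rw [h01, hc]; ring
    · exact hc
    · exact hd

theorem wSL2_inv : (wSL2 F)⁻¹ = negOneSL2 F * wSL2 F := by
  rw [inv_eq_iff_mul_eq_one, ← mul_assoc, ← negOneSL2_comm, mul_assoc, wSL2_mul_self,
    negOneSL2_mul_self]

/-- conjugation fixes `-1`. -/
theorem negOneSL2_conj (g : Matrix.SpecialLinearGroup (Fin 2) F) :
    g * negOneSL2 F * g⁻¹ = negOneSL2 F := by
  rw [← negOneSL2_comm, mul_assoc, mul_inv_cancel, mul_one]

/-- (P4) commuting elements of square `-1` are equal or inverse. -/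
theorem sl2_comm4 [Fintype F] (hodd : Fintype.card F % 2 = 1) (h2 : (2 : F) ≠ 0)
    (U V : Matrix.SpecialLinearGroup (Fin 2) F) (hU : U * U = negOneSL2 F)
    (hV : V * V = negOneSL2 F) (hUV : U * V = V * U) : V = U ∨ V = U⁻¹ := by
  obtain ⟨g, rfl⟩ := sl2_conj_w hodd h2 U hU
  have hV' : (g⁻¹ * V * g) * (g⁻¹ * V * g) = negOneSL2 F := by
    have : (g⁻¹ * V * g) * (g⁻¹ * V * g) = g⁻¹ * (V * V) * g⁻¹⁻¹ := by group
    rw [this, hV, negOneSL2_conj]
  have hc : (g⁻¹ * V * g) * wSL2 F = wSL2 F * (g⁻¹ * V * g) := by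
    have h1 : (g⁻¹ * V * g) * wSL2 F = g⁻¹ * (V * (g * wSL2 F * g⁻¹)) * g := by group
    have h2 : wSL2 F * (g⁻¹ * V * g) = g⁻¹ * ((g * wSL2 F * g⁻¹) * V) * g := by group
    rw [h1, h2, hUV]
  rcases sl2_comm_w_sq h2 _ hV' hc with h | h
  · left
    rw [← h]; group
  · right
    rw [← wSL2_inv] at h
    have h3 : V = g * (g⁻¹ * V * g) * g⁻¹ := by group
    rw [h3, h]; group

/-- the element `[[a,b],[b,-a]]` with `a² + b² = -1`. -/
theorem sl2_noncomm_w [Fintype F] (h2 : (2 : F) ≠ 0) :
    ∃ T : Matrix.SpecialLinearGroup (Fin 2) F, T * T = negOneSL2 F ∧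
      wSL2 F * T ≠ T * wSL2 F ∧
      ∀ Y : Matrix.SpecialLinearGroup (Fin 2) F, Y * wSL2 F = wSL2 F * Y → Y * T = T * Y →
        Y = 1 ∨ Y = negOneSL2 F := by
  obtain ⟨a, b, hab⟩ := exists_sq_add_sq_eq_neg_one (F := F)
  let T : Matrix.SpecialLinearGroup (Fin 2) F :=
    ⟨!![a, b; b, -a], by
      rw [Matrix.det_fin_two]
      simp
      linear_combination -hab⟩
  refine ⟨T, ?_, ?_, ?_⟩
  · apply sl2_ext <;> rw [sl2_mul_apply] <;> simp [T, negOneSL2]
    · linear_combination hab
    · ring
    · ring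
    · linear_combination hab
  · intro h
    obtain ⟨h11, h01⟩ := sl2_comm_w_shape T h.symm
    simp [T] at h11 h01
    have ha : a = 0 := by
      have : 2 * a = 0 := by linear_combination -h11
      rcases mul_eq_zero.mp this with h | h
      · exact absurd h h2
      · exact h
    have hb : b = 0 := by
      have : 2 * b = 0 := by linear_combination h01
      rcases mul_eq_zero.mp this with h | h
      · exact absurd h h2
      · exact h
    rw [ha, hb] at hab
    simp at hab
  · intro Y hYw hYT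
    obtain ⟨h11, h01⟩ := sl2_comm_w_shape Y hYw
    have hdet := sl2_det Y
    have e00 := congrArg (fun M : Matrix.SpecialLinearGroup (Fin 2) F => M.1 0 0) hYT
    have e01 := congrArg (fun M : Matrix.SpecialLinearGroup (Fin 2) F => M.1 0 1) hYT
    simp only [sl2_mul_apply] at e00 e01
    simp [T] at e00 e01
    set p := Y.1 0 0
    set q := Y.1 0 1
    set r := Y.1 1 0
    set s := Y.1 1 1
    have hrb : r * b = 0 := by
      have : 2 * (r * b) = 0 := by rw [h01] at e00; linear_combination -e00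
      rcases mul_eq_zero.mp this with h | h
      · exact absurd h h2
      · exact h
    have hra : r * a = 0 := by
      have : 2 * (r * a) = 0 := by rw [h01, h11] at e01; linear_combination e01
      rcases mul_eq_zero.mp this with h | h
      · exact absurd h h2
      · exact h
    have hr : r = 0 := by
      by_contra hr
      have ha : a = 0 := by
        rcases mul_eq_zero.mp hra with h | h
        · exact absurd h hr
        · exact h
      have hb : b = 0 := by
        rcases mul_eq_zero.mp hrb with h | h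
        · exact absurd h hr
        · exact h
      rw [ha, hb] at hab
      simp at hab
    have hq : q = 0 := by rw [h01, hr, neg_zero]
    have hp2 : (p - 1) * (p + 1) = 0 := by
      rw [h11, hq] at hdet
      linear_combination hdet
    rcases mul_eq_zero.mp hp2 with h | h
    · left
      have hp : p = 1 := by linear_combination h
      apply sl2_ext <;> simp
      · exact hp
      · exact hq
      · exact hr
      · change s = 1; rw [h11, hp]
    · right
      have hp : p = -1 := by linear_combination h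
      apply sl2_ext <;> simp [negOneSL2]
      · exact hp
      · exact hq
      · exact hr
      · change s = -1; rw [h11, hp]

/-- (P5) every element of square `-1` fails to commute with another one. -/
theorem sl2_noncomm4 [Fintype F] (hodd : Fintype.card F % 2 = 1) (h2 : (2 : F) ≠ 0)
    (U : Matrix.SpecialLinearGroup (Fin 2) F) (hU : U * U = negOneSL2 F) :
    ∃ V : Matrix.SpecialLinearGroup (Fin 2) F, V * V = negOneSL2 F ∧ U * V ≠ V * U := by
  obtain ⟨g, rfl⟩ := sl2_conj_w hodd h2 U hU
  obtain ⟨T, hT, hTw, -⟩ := sl2_noncomm_w (F := F) h2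
  refine ⟨g * T * g⁻¹, ?_, ?_⟩
  · have : (g * T * g⁻¹) * (g * T * g⁻¹) = g * (T * T) * g⁻¹ := by group
    rw [this, hT, negOneSL2_conj]
  · intro h
    apply hTw
    have h1 : wSL2 F * T = g⁻¹ * ((g * wSL2 F * g⁻¹) * (g * T * g⁻¹)) * g := by group
    have h2 : T * wSL2 F = g⁻¹ * ((g * T * g⁻¹) * (g * wSL2 F * g⁻¹)) * g := by group
    rw [h1, h2, h]

/-- (P6) an element commuting with all elements of square `-1` is `±1`. -/
theorem sl2_cent4 [Fintype F] (h2 : (2 : F) ≠ 0)
    (Y : Matrix.SpecialLinearGroup (Fin 2) F)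
    (hY : ∀ U : Matrix.SpecialLinearGroup (Fin 2) F, U * U = negOneSL2 F → Y * U = U * Y) :
    Y = 1 ∨ Y = negOneSL2 F := by
  obtain ⟨T, hT, -, hcent⟩ := sl2_noncomm_w (F := F) h2
  exact hcent Y (hY _ wSL2_mul_self) (hY _ hT)

end SL2

/-- Further abstract properties of `SL₂(q)`, `q` odd, about the elements of square `c`. -/
structure SL2Comm (L : Type*) [Group L] (c : L) : Prop where
  comm4 : ∀ u v : L, u * u = c → v * v = c → u * v = v * u → v = u ∨ v = u⁻¹
  noncomm4 : ∀ u : L, u * u = c → ∃ v : L, v * v = c ∧ u * v ≠ v * u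
  cent4 : ∀ y : L, (∀ u : L, u * u = c → y * u = u * y) → y = 1 ∨ y = c

theorem sl2Comm_SL2 {F : Type*} [Field F] [Fintype F] (hF : Odd (Fintype.card F)) :
    SL2Comm (Matrix.SpecialLinearGroup (Fin 2) F) (negOneSL2 F) where
  comm4 := sl2_comm4 (Nat.odd_iff.mp hF) (two_ne_zero_of_odd_card hF)
  noncomm4 := sl2_noncomm4 (Nat.odd_iff.mp hF) (two_ne_zero_of_odd_card hF)
  cent4 := sl2_cent4 (two_ne_zero_of_odd_card hF)

theorem SL2Comm.map {L L' : Type*} [Group L] [Group L'] {c : L} (h : SL2Comm L c) (e : L ≃* L') :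
    SL2Comm L' (e c) where
  comm4 := by
    intro u v hu hv huv
    have hu' : e.symm u * e.symm u = c := by
      rw [← map_mul, hu, e.symm_apply_apply]
    have hv' : e.symm v * e.symm v = c := by
      rw [← map_mul, hv, e.symm_apply_apply]
    have huv' : e.symm u * e.symm v = e.symm v * e.symm u := by
      rw [← map_mul, ← map_mul, huv]
    rcases h.comm4 _ _ hu' hv' huv' with h1 | h1
    · left
      exact e.symm.injective h1
    · right
      apply e.symm.injective
      rw [h1, map_inv]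
  noncomm4 := by
    intro u hu
    have hu' : e.symm u * e.symm u = c := by
      rw [← map_mul, hu, e.symm_apply_apply]
    obtain ⟨v, hv, huv⟩ := h.noncomm4 _ hu'
    refine ⟨e v, by rw [← map_mul, hv], ?_⟩
    intro h1
    apply huv
    apply e.injective
    rw [map_mul, map_mul, e.apply_symm_apply, h1]
  cent4 := by
    intro y hy
    have hy' : ∀ u : L, u * u = c → e.symm y * u = u * e.symm y := by
      intro u hu
      have := hy (e u) (by rw [← map_mul, hu])
      apply e.injective
      rw [map_mul, map_mul, e.apply_symm_apply, this]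
    rcases h.cent4 _ hy' with h1 | h1
    · left
      apply e.symm.injective
      rw [h1, map_one]
    · right
      apply e.symm.injective
      rw [h1, e.symm_apply_apply]

/-- `SL₂`-like properties of a subgroup `L` of `G`, phrased with elements of `G`. -/
structure SubSL2C {G : Type*} [Group G] (L : Subgroup G) (j : G) : Prop where
  invol : ∀ g ∈ L, g * g = 1 → g = 1 ∨ g = j
  ex4 : ∃ u ∈ L, u * u = j
  comm4 : ∀ u ∈ L, ∀ v ∈ L, u * u = j → v * v = j → u * v = v * u → v = u ∨ v = u⁻¹
  noncomm4 : ∀ u ∈ L, u * u = j → ∃ v ∈ L, v * v = j ∧ u * v ≠ v * u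
  cent4 : ∀ y ∈ L, (∀ u ∈ L, u * u = j → y * u = u * y) → y = 1 ∨ y = j

theorem subSL2C_of {G : Type*} [Group G] (L : Subgroup G) (c : ↥L) (h : SL2Like ↥L c)
    (h' : SL2Comm ↥L c) (j : G) (hj : j ∈ L) (hj2 : j * j = 1) (hj1 : j ≠ 1) : SubSL2C L j := by
  have hcj : (c : G) = j := by
    have h1 : (⟨j, hj⟩ : ↥L) * ⟨j, hj⟩ = 1 := Subtype.ext hj2
    rcases h.invol _ h1 with h2 | h2
    · exfalso
      apply hj1
      exact congrArg Subtype.val h2
    · exact (congrArg Subtype.val h2).symm
  have hsq : ∀ u (hu : u ∈ L), u * u = j → (⟨u, hu⟩ : ↥L) * ⟨u, hu⟩ = c := by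
    intro u hu hu2
    exact Subtype.ext (by rw [hcj]; exact hu2)
  have hsq' : ∀ u : ↥L, u * u = c → (u : G) * (u : G) = j := by
    intro u hu
    rw [← hcj, ← hu]; rfl
  refine ⟨?_, ?_, ?_, ?_, ?_⟩
  · intro g hg hg2
    have h1 : (⟨g, hg⟩ : ↥L) * ⟨g, hg⟩ = 1 := Subtype.ext hg2
    rcases h.invol _ h1 with h2 | h2
    · left; exact congrArg Subtype.val h2
    · right; rw [← hcj]; exact congrArg Subtype.val h2
  · obtain ⟨u, hu⟩ := h.ex4
    exact ⟨u, u.2, hsq' u hu⟩
  · intro u hu v hv hu2 hv2 huv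
    have huv' : (⟨u, hu⟩ : ↥L) * ⟨v, hv⟩ = ⟨v, hv⟩ * ⟨u, hu⟩ := Subtype.ext huv
    rcases h'.comm4 _ _ (hsq u hu hu2) (hsq v hv hv2) huv' with h1 | h1
    · left; exact congrArg Subtype.val h1
    · right; exact congrArg Subtype.val h1
  · intro u hu hu2
    obtain ⟨v, hv, huv⟩ := h'.noncomm4 _ (hsq u hu hu2)
    refine ⟨v, v.2, hsq' v hv, ?_⟩
    intro h1
    apply huv
    exact Subtype.ext h1
  · intro y hy hycomm
    have : ∀ u : ↥L, u * u = c → (⟨y, hy⟩ : ↥L) * u = u * ⟨y, hy⟩ := by
      intro u hu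
      exact Subtype.ext (hycomm u u.2 (hsq' u hu))
    rcases h'.cent4 _ this with h1 | h1
    · left; exact congrArg Subtype.val h1
    · right; rw [← hcj]; exact congrArg Subtype.val h1

/-- The `SL₂`-like properties of a subgroup isomorphic to `SL₂(q)`, `q` odd, whose involution
is `j`. -/
theorem subSL2C_of_equiv {G : Type*} [Group G] (L : Subgroup G) {F : Type*} [Field F] [Fintype F]
    (hF : Odd (Fintype.card F)) (e : ↥L ≃* Matrix.SpecialLinearGroup (Fin 2) F) (j : G)
    (hj : j ∈ L) (hj2 : j * j = 1) (hj1 : j ≠ 1) : SubSL2C L j :=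
  subSL2C_of L _ ((sl2Like_SL2 hF).map e.symm) ((sl2Comm_SL2 hF).map e.symm) j hj hj2 hj1

end Cfsg.Agent.Helper53
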