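import Mathlib
import Cfsg.Agent.Lib.Helper53.DirProd
import Cfsg.Agent.Lib.Helper53.Soft1
import Cfsg.Agent.Lib.Helper53.SectRank

/-!
Tools for `2`-groups of sectional rank at most `4`: products `P × Q` of nonabelian subgroups with
centres of order `2`.
-/

set_option autoImplicit false

namespace Cfsg.Agent.Helper53.SR4

open Cfsg.Agent.Helper53.DirProd Cfsg.Agent.Helper53.Soft

variable {S : Type*} [Group S]

/-- the centre of a subgroup, as a subgroup of the ambient group. -/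
def zc (P : Subgroup S) : Subgroup S := (Subgroup.center P).map P.subtype

theorem mem_zc {P : Subgroup S} {x : S} : x ∈ zc P ↔ x ∈ P ∧ ∀ y ∈ P, y * x = x * y :=
  mem_map_center

theorem zc_le (P : Subgroup S) : zc P ≤ P := fun _ hx => (mem_zc.mp hx).1

theorem card_zc (P : Subgroup S) : Nat.card (zc P) = Nat.card (Subgroup.center P) :=
  Subgroup.card_map_of_injective P.subtype_injective

theorem zc_cj (g : S) (P : Subgroup S) : zc (cj g P) = cj g (zc P) := by
  ext x
  rw [mem_zc, mem_cj (E := zc P), mem_zc, mem_cj]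
  constructor
  · rintro ⟨hx, hc⟩
    refine ⟨hx, fun y hy => ?_⟩
    have h1 := hc (g * y * g⁻¹) (conj_mem_cj hy)
    calc y * (g⁻¹ * x * g) = g⁻¹ * ((g * y * g⁻¹) * x) * g := by group
      _ = g⁻¹ * (x * (g * y * g⁻¹)) * g := by rw [h1]
      _ = g⁻¹ * x * g * y := by group
  · rintro ⟨hx, hc⟩
    refine ⟨hx, fun y hy => ?_⟩
    have h1 := hc (g⁻¹ * y * g) (mem_cj.mp hy)
    calc y * x = g * ((g⁻¹ * y * g) * (g⁻¹ * x * g)) * g⁻¹ := by group
      _ = g * ((g⁻¹ * x * g) * (g⁻¹ * y * g)) * g⁻¹ := by rw [h1]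
      _ = x * y := by group

/-- two non-identity elements of a subgroup of order two coincide. -/
theorem eq_of_card_two {H : Subgroup S} (h : Nat.card H = 2) {a b : S} (ha : a ∈ H) (hb : b ∈ H)
    (ha1 : a ≠ 1) (hb1 : b ≠ 1) : a = b := by
  obtain ⟨y, _, hy⟩ := (Nat.card_eq_two_iff' (1 : H)).mp h
  have e1 : (⟨a, ha⟩ : H) = y := hy _ (fun h => ha1 (congrArg Subtype.val h))
  have e2 : (⟨b, hb⟩ : H) = y := hy _ (fun h => hb1 (congrArg Subtype.val h))
  exact congrArg Subtype.val (e1.trans e2.symm)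

theorem exists_ne_one_of_card_two {H : Subgroup S} (h : Nat.card H = 2) : ∃ z ∈ H, z ≠ 1 := by
  obtain ⟨y, hy1, _⟩ := (Nat.card_eq_two_iff' (1 : H)).mp h
  exact ⟨y, y.2, fun h => hy1 (Subtype.ext h)⟩

/-- `P` is noncommutative with centre of order two. -/
def Good (P : Subgroup S) : Prop := ¬ IsMulCommutative P ∧ Nat.card (Subgroup.center P) = 2

theorem Good.cj {P : Subgroup S} (h : Good P) (g : S) : Good (cj g P) := by
  constructor
  · intro hc
    apply h.1
    refine ⟨⟨fun a b => ?_⟩⟩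
    have h1 := hc.is_comm.comm (⟨g * a * g⁻¹, conj_mem_cj a.2⟩ : Soft.cj g P)
      ⟨g * b * g⁻¹, conj_mem_cj b.2⟩
    have h2 := congrArg Subtype.val h1
    simp only [Subgroup.coe_mul] at h2
    apply Subtype.ext
    simp only [Subgroup.coe_mul]
    calc (a : S) * b = g⁻¹ * ((g * a * g⁻¹) * (g * b * g⁻¹)) * g := by group
      _ = g⁻¹ * ((g * b * g⁻¹) * (g * a * g⁻¹)) * g := by rw [h2]
      _ = b * a := by group
  · rw [← card_zc, zc_cj, card_cj, card_zc]; exact h.2

theorem Good.card_zc {P : Subgroup S} (h : Good P) : Nat.card (zc P) = 2 := by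
  rw [SR4.card_zc]; exact h.2

/-- **Lemma B**: two subgroups of `T` normalised by `T`, with distinct centres of order two, intersect
trivially and commute. -/
theorem disjoint_of_zc_ne [Finite S] (h2 : IsPGroup 2 S) (T P Q : Subgroup S)
    (hPT : P ≤ T) (hQT : Q ≤ T)
    (hTP : ∀ t ∈ T, ∀ x ∈ P, t * x * t⁻¹ ∈ P) (hTQ : ∀ t ∈ T, ∀ x ∈ Q, t * x * t⁻¹ ∈ Q)
    (hZP : Nat.card (zc P) = 2) (hZQ : Nat.card (zc Q) = 2) (hne : zc P ≠ zc Q) :
    P ⊓ Q = ⊥ ∧ ∀ a ∈ P, ∀ b ∈ Q, a * b = b * a := by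
  have : Fact (Nat.Prime 2) := ⟨Nat.prime_two⟩
  have hP2 : IsPGroup 2 P := h2.to_subgroup P
  -- `T` centralises `zc P`
  have hTz : ∀ t ∈ T, ∀ z ∈ zc P, t * z = z * t := by
    intro t ht z hz
    by_cases hz1 : z = 1
    · rw [hz1]; simp
    · have h1 : t * z * t⁻¹ ∈ zc P := by
        rw [mem_zc] at hz ⊢
        refine ⟨hTP t ht z hz.1, fun y hy => ?_⟩
        have hy' : t⁻¹ * y * t ∈ P := by
          have := hTP t⁻¹ (T.inv_mem ht) y hy
          simpa using this
        have h3 := hz.2 _ hy'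
        calc y * (t * z * t⁻¹) = t * ((t⁻¹ * y * t) * z) * t⁻¹ := by group
          _ = t * (z * (t⁻¹ * y * t)) * t⁻¹ := by rw [h3]
          _ = t * z * t⁻¹ * y := by group
      have h2' : t * z * t⁻¹ ≠ 1 := by
        intro h; apply hz1
        have : z = t⁻¹ * (t * z * t⁻¹) * t := by group
        rw [this, h]; group
      have h4 := eq_of_card_two hZP h1 hz h2' hz1
      calc t * z = t * z * t⁻¹ * t := by group
        _ = z * t := by rw [h4]
  have hPQ : P ⊓ Q = ⊥ := by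
    by_contra hcon
    have hN : (P ⊓ Q).subgroupOf P ≠ ⊥ := by
      intro h
      apply hcon
      rw [Subgroup.subgroupOf_eq_bot] at h
      rw [eq_bot_iff]
      intro x hx
      exact (Subgroup.disjoint_def.mp h) hx hx.1
    have : ((P ⊓ Q).subgroupOf P).Normal := by
      constructor
      intro n hn p
      rw [Subgroup.mem_subgroupOf] at hn ⊢
      refine ⟨(p * n * p⁻¹).2, ?_⟩
      have := hTQ p (hPT p.2) n hn.2
      simpa using this
    obtain ⟨z, hzN, hz2, hzc⟩ := Cfsg.Agent.Helper53.exists_central_invol_of_normal hP2 _ hN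
    have hz1 : (z : S) ≠ 1 := by
      intro h
      have : z = 1 := Subtype.ext h
      rw [this, orderOf_one] at hz2
      norm_num at hz2
    have hzZP : (z : S) ∈ zc P := ⟨z, hzc, rfl⟩
    have hzQ : (z : S) ∈ Q := (Subgroup.mem_subgroupOf.mp hzN).2
    have hzZQ : (z : S) ∈ zc Q := by
      rw [mem_zc]
      exact ⟨hzQ, fun y hy => hTz y (hQT hy) _ hzZP⟩
    apply hne
    apply Subgroup.eq_of_le_of_card_ge
    · intro a ha
      by_cases ha1 : a = 1
      · rw [ha1]; exact Subgroup.one_mem _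
      · rw [eq_of_card_two hZP ha hzZP ha1 hz1]; exact hzZQ
    · rw [hZP, hZQ]
  refine ⟨hPQ, fun a ha b hb => ?_⟩
  have h1 : a * b * a⁻¹ * b⁻¹ ∈ P ⊓ Q := by
    constructor
    · have := hTP b (hQT hb) a⁻¹ (P.inv_mem ha)
      have e : a * b * a⁻¹ * b⁻¹ = a * (b * a⁻¹ * b⁻¹) := by group
      rw [e]; exact P.mul_mem ha this
    · have := hTQ a (hPT ha) b hb
      exact Q.mul_mem this (Q.inv_mem hb)
  rw [hPQ, Subgroup.mem_bot] at h1
  calc a * b = a * b * a⁻¹ * b⁻¹ * b * a := by group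
    _ = b * a := by rw [h1]; group

end Cfsg.Agent.Helper53.SR4
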