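import Mathlib
import Cfsg.Agent.Lib.Helper53.SR4a

set_option autoImplicit false

namespace Cfsg.Agent.Helper53.SR4

open Cfsg.Agent.Helper53.DirProd Cfsg.Agent.Helper53.Soft

variable {S : Type*} [Group S]

/-- **Lemma A**: a direct product `P × Q` of good subgroups is self-centralising in a `2`-group of
sectional rank at most `4`. -/
theorem centralizer_sup_le [Finite S] (h2 : IsPGroup 2 S) (hr : Cfsg.SectionalPRankLE 2 4 S)
    (P Q : Subgroup S) (hP : Good P) (hQ : Good Q) (hPQ : P ⊓ Q = ⊥)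
    (hc : ∀ a ∈ P, ∀ b ∈ Q, a * b = b * a) :
    Subgroup.centralizer ((P ⊔ Q : Subgroup S) : Set S) ≤ P ⊔ Q := by
  have hP2 : IsPGroup 2 P := h2.to_subgroup P
  have hQ2 : IsPGroup 2 Q := h2.to_subgroup Q
  by_contra hcon
  obtain ⟨c₀, hc₀C, hc₀E⟩ := SetLike.not_le_iff_exists.mp hcon
  obtain ⟨c, hcC, hcE, hc2E⟩ : ∃ c ∈ Subgroup.centralizer ((P ⊔ Q : Subgroup S) : Set S),
      c ∉ P ⊔ Q ∧ c ^ 2 ∈ P ⊔ Q := by
    have hex : ∃ n : ℕ, c₀ ^ 2 ^ n ∈ P ⊔ Q := by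
      obtain ⟨k, hk⟩ := h2 c₀
      exact ⟨k, by rw [hk]; exact Subgroup.one_mem _⟩
    classical
    have hn0 : Nat.find hex ≠ 0 := by
      intro h0
      have := Nat.find_spec hex
      rw [h0, pow_zero, pow_one] at this
      exact hc₀E this
    obtain ⟨m, hm⟩ := Nat.exists_eq_succ_of_ne_zero hn0
    refine ⟨c₀ ^ 2 ^ m, Subgroup.pow_mem _ hc₀C _, ?_, ?_⟩
    · exact Nat.find_min hex (by rw [hm]; exact Nat.lt_succ_self m)
    · have := Nat.find_spec hex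
      rw [hm, pow_succ, pow_mul] at this
      exact this
  obtain ⟨A₀, A₂, hA02, hA2P, hZA, hsqA⟩ := exists_chain P hP2 hP.1 hP.2
  obtain ⟨B₀, B₂, hB02, hB2Q, hZB, hsqB⟩ := exists_chain Q hQ2 hQ.1 hQ.2
  have hA0P : A₀ ≤ P := hA02.le.trans hA2P.le
  have hB0Q : B₀ ≤ Q := hB02.le.trans hB2Q.le
  have hcc : ∀ e ∈ P ⊔ Q, e * c = c * e := fun e he => Subgroup.mem_centralizer_iff.mp hcC e he
  have hc2N : c ^ 2 ∈ A₀ ⊔ B₀ := by
    obtain ⟨x, hx, y, hy, hxy⟩ := mem_sup_of_comm hc hc2E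
    have hc2c : ∀ e ∈ P ⊔ Q, e * c ^ 2 = c ^ 2 * e := by
      intro e he
      have := hcc e he
      rw [sq, ← mul_assoc, this, mul_assoc, this, ← mul_assoc]
    have hxZ : x ∈ (Subgroup.center P).map P.subtype := by
      rw [mem_map_center]
      refine ⟨hx, fun p hp => ?_⟩
      have h1 := hc2c p (Subgroup.mem_sup_left hp)
      have h3 := hc p hp y hy
      have ex : x = c ^ 2 * y⁻¹ := by rw [hxy]; group
      have h4 : p * y⁻¹ = y⁻¹ * p := by
        calc p * y⁻¹ = y⁻¹ * (y * p) * y⁻¹ := by group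
          _ = y⁻¹ * (p * y) * y⁻¹ := by rw [h3]
          _ = y⁻¹ * p := by group
      rw [ex, ← mul_assoc, h1, mul_assoc, h4, ← mul_assoc]
    have hyZ : y ∈ (Subgroup.center Q).map Q.subtype := by
      rw [mem_map_center]
      refine ⟨hy, fun q hq => ?_⟩
      have h1 := hc2c q (Subgroup.mem_sup_right hq)
      have h3 := hc x hx q hq
      have ey : y = x⁻¹ * c ^ 2 := by rw [hxy]; group
      have h4 : q * x⁻¹ = x⁻¹ * q := by
        calc q * x⁻¹ = x⁻¹ * (x * q) * x⁻¹ := by group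
          _ = x⁻¹ * (q * x) * x⁻¹ := by rw [h3]
          _ = x⁻¹ * q := by group
      rw [ey, ← mul_assoc, h4, mul_assoc, h1, ← mul_assoc]
    rw [hxy]
    exact Subgroup.mul_mem_sup (hZA hxZ) (hZB hyZ)
  have hsq : ∀ h ∈ (P ⊔ Q) ⊔ Subgroup.zpowers c, h ^ 2 ∈ A₀ ⊔ B₀ := by
    intro h hh
    have hcz : ∀ e ∈ P ⊔ Q, ∀ w ∈ Subgroup.zpowers c, e * w = w * e := by
      intro e he w hw
      obtain ⟨i, rfl⟩ := Subgroup.mem_zpowers_iff.mp hw
      exact (Commute.zpow_right (hcc e he) i)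
    obtain ⟨e, he, w, hw, rfl⟩ := mem_sup_of_comm hcz hh
    obtain ⟨x, hx, y, hy, rfl⟩ := mem_sup_of_comm hc he
    obtain ⟨i, rfl⟩ := Subgroup.mem_zpowers_iff.mp hw
    have h1 : (x * y * c ^ i) ^ 2 = x ^ 2 * y ^ 2 * (c ^ 2) ^ i := by
      have e1 : Commute (x * y) (c ^ i) := hcz _ he _ hw
      have e2 : Commute x y := hc x hx y hy
      have e3 : (c ^ i) ^ 2 = (c ^ 2) ^ i := by
        rw [← zpow_natCast (c ^ i) 2, ← zpow_mul, ← zpow_natCast c 2, ← zpow_mul, mul_comm]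
      rw [e1.mul_pow, e2.mul_pow, e3]
    rw [h1]
    exact Subgroup.mul_mem _ (Subgroup.mul_mem_sup (hsqA x hx) (hsqB y hy))
      (Subgroup.zpow_mem _ hc2N i)
  have hN01 : A₀ ⊔ B₀ < A₂ ⊔ B₀ := by
    refine lt_of_le_of_ne (sup_le_sup_right hA02.le _) (fun h => hA02.ne ?_)
    calc A₀ = (A₀ ⊔ B₀) ⊓ P := (sup_inf_left hPQ hc hA0P hB0Q).symm
      _ = (A₂ ⊔ B₀) ⊓ P := by rw [h]
      _ = A₂ := sup_inf_left hPQ hc hA2P.le hB0Q
  have hN12 : A₂ ⊔ B₀ < P ⊔ B₀ := by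
    refine lt_of_le_of_ne (sup_le_sup_right hA2P.le _) (fun h => hA2P.ne ?_)
    calc A₂ = (A₂ ⊔ B₀) ⊓ P := (sup_inf_left hPQ hc hA2P.le hB0Q).symm
      _ = (P ⊔ B₀) ⊓ P := by rw [h]
      _ = P := sup_inf_left hPQ hc le_rfl hB0Q
  have hN23 : P ⊔ B₀ < P ⊔ B₂ := by
    refine lt_of_le_of_ne (sup_le_sup_left hB02.le _) (fun h => hB02.ne ?_)
    calc B₀ = (P ⊔ B₀) ⊓ Q := (sup_inf_right hPQ hc le_rfl hB0Q).symm
      _ = (P ⊔ B₂) ⊓ Q := by rw [h]
      _ = B₂ := sup_inf_right hPQ hc le_rfl hB2Q.le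
  have hN34 : P ⊔ B₂ < P ⊔ Q := by
    refine lt_of_le_of_ne (sup_le_sup_left hB2Q.le _) (fun h => hB2Q.ne ?_)
    calc B₂ = (P ⊔ B₂) ⊓ Q := (sup_inf_right hPQ hc le_rfl hB2Q.le).symm
      _ = (P ⊔ Q) ⊓ Q := by rw [h]
      _ = Q := sup_inf_right hPQ hc le_rfl le_rfl
  have hN45 : P ⊔ Q < (P ⊔ Q) ⊔ Subgroup.zpowers c := by
    refine lt_of_le_of_ne le_sup_left (fun h => hcE ?_)
    rw [h]
    exact Subgroup.mem_sup_right (Subgroup.mem_zpowers c)
  have k1 := two_mul_card_le_of_lt hN01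
  have k2 := two_mul_card_le_of_lt hN12
  have k3 := two_mul_card_le_of_lt hN23
  have k4 := two_mul_card_le_of_lt hN34
  have k5 := two_mul_card_le_of_lt hN45
  have hle : A₀ ⊔ B₀ ≤ (P ⊔ Q) ⊔ Subgroup.zpowers c :=
    (sup_le_sup hA0P hB0Q).trans le_sup_left
  have k6 := card_le_of_sq_mem hr _ _ hle hsq
  have hpos : 0 < Nat.card (A₀ ⊔ B₀ : Subgroup S) := Nat.card_pos
  omega

/-- **Lemma C**: the order of an internal direct product. -/
theorem card_sup_of_disjoint {P Q A B : Subgroup S} (hPQ : P ⊓ Q = ⊥)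
    (hc : ∀ a ∈ P, ∀ b ∈ Q, a * b = b * a) (hA : A ≤ P) (hB : B ≤ Q) :
    Nat.card (A ⊔ B : Subgroup S) = Nat.card A * Nat.card B := by
  have hc' : ∀ a ∈ A, ∀ b ∈ B, a * b = b * a := fun a ha b hb => hc a (hA ha) b (hB hb)
  let f : A × B → (A ⊔ B : Subgroup S) := fun p =>
    ⟨p.1 * p.2, Subgroup.mul_mem_sup p.1.2 p.2.2⟩
  have hinj : Function.Injective f := by
    rintro ⟨a, b⟩ ⟨a', b'⟩ h
    have h1 : (a : S) * b = a' * b' := congrArg Subtype.val h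
    have h2 : (a' : S)⁻¹ * a = b' * (b : S)⁻¹ := by
      calc (a' : S)⁻¹ * a = (a' : S)⁻¹ * (a * b) * (b : S)⁻¹ := by group
        _ = (a' : S)⁻¹ * (a' * b') * (b : S)⁻¹ := by rw [h1]
        _ = b' * (b : S)⁻¹ := by group
    have h3 : (a' : S)⁻¹ * a ∈ P ⊓ Q :=
      ⟨P.mul_mem (P.inv_mem (hA a'.2)) (hA a.2), by rw [h2]; exact Q.mul_mem (hB b'.2) (Q.inv_mem (hB b.2))⟩
    rw [hPQ, Subgroup.mem_bot] at h3
    have h4 : (a : S) = a' := by
      calc (a : S) = a' * ((a' : S)⁻¹ * a) := by group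
        _ = a' := by rw [h3, mul_one]
    have h5 : (b : S) = b' := by
      have : (b' : S) * (b : S)⁻¹ = 1 := by rw [← h2, h3]
      calc (b : S) = ((b' : S) * (b : S)⁻¹)⁻¹ * b' := by group
        _ = b' := by rw [this]; group
    exact Prod.ext (Subtype.ext h4) (Subtype.ext h5)
  have hsurj : Function.Surjective f := by
    rintro ⟨x, hx⟩
    obtain ⟨a, ha, b, hb, rfl⟩ := mem_sup_of_comm hc' hx
    exact ⟨(⟨a, ha⟩, ⟨b, hb⟩), rfl⟩
  rw [← Nat.card_prod]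
  exact (Nat.card_congr (Equiv.ofBijective f ⟨hinj, hsurj⟩)).symm

/-- **Lemma D**: a criterion for bounded sectional `2`-rank. -/
theorem sectionalPRankLE_of_sq_bound {k : ℕ} {G : Type*} [Group G] [Finite G]
    (h : ∀ H N : Subgroup G, N ≤ H → (∀ x ∈ H, x ^ 2 ∈ N) → Nat.card H ≤ 2 ^ k * Nat.card N) :
    Cfsg.SectionalPRankLE 2 k G := by
  intro H N _ A _ hAexp
  let A' : Subgroup H := A.comap (QuotientGroup.mk' N)
  have hNA' : N ≤ A' := by
    intro n hn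
    show (QuotientGroup.mk' N) n ∈ A
    have : (QuotientGroup.mk' N) n = 1 := by
      rw [QuotientGroup.mk'_apply, QuotientGroup.eq_one_iff]; exact hn
    rw [this]; exact A.one_mem
  have h1 := h (A'.map H.subtype) (N.map H.subtype) (Subgroup.map_mono hNA') (by
    rintro _ ⟨x, hx, rfl⟩
    refine ⟨x ^ 2, ?_, by simp⟩
    have h2 := hAexp _ hx
    rw [← map_pow] at h2
    rw [QuotientGroup.mk'_apply, QuotientGroup.eq_one_iff] at h2
    exact h2)
  rw [Subgroup.card_map_of_injective H.subtype_injective,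
    Subgroup.card_map_of_injective H.subtype_injective] at h1
  -- `card A' = card A * card N`
  have e1 : Nat.card A' * A'.index = Nat.card H := A'.card_mul_index
  have e2 : A'.index = A.index :=
    Subgroup.index_comap_of_surjective A (QuotientGroup.mk'_surjective N)
  have e3 : Nat.card A * A.index = Nat.card (H ⧸ N) := A.card_mul_index
  have e4 : Nat.card H = Nat.card (H ⧸ N) * Nat.card N :=
    Subgroup.card_eq_card_quotient_mul_card_subgroup N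
  have hidx : 0 < A.index := Nat.pos_of_ne_zero A.index_ne_zero_of_finite
  have e5 : Nat.card A' = Nat.card A * Nat.card N := by
    apply Nat.eq_of_mul_eq_mul_right hidx
    rw [← e2, e1, e4, ← e3, e2]; ring
  rw [e5] at h1
  have hN : 0 < Nat.card N := Nat.card_pos
  exact Nat.le_of_mul_le_mul_right h1 hN

/-- **Lemma E**: if `P × P^s` lies in a group of sectional `2`-rank at most `4`, then `P` has
sectional `2`-rank at most `2`. -/
theorem sectional_two_of_prod [Finite S] (hr : Cfsg.SectionalPRankLE 2 4 S) (P : Subgroup S) (s : S)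
    (hPQ : P ⊓ cj s P = ⊥) (hc : ∀ a ∈ P, ∀ b ∈ cj s P, a * b = b * a) :
    Cfsg.SectionalPRankLE 2 2 P := by
  apply sectionalPRankLE_of_sq_bound
  intro H N hNH hsq
  set H₁ : Subgroup S := H.map P.subtype with hH₁
  set N₁ : Subgroup S := N.map P.subtype with hN₁
  have hH₁P : H₁ ≤ P := by rintro _ ⟨y, _, rfl⟩; exact y.2
  have hN₁H₁ : N₁ ≤ H₁ := Subgroup.map_mono hNH
  have hN₁P : N₁ ≤ P := hN₁H₁.trans hH₁P
  have hsq₁ : ∀ x ∈ H₁, x ^ 2 ∈ N₁ := by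
    rintro _ ⟨y, hy, rfl⟩
    exact ⟨y ^ 2, hsq y hy, by simp⟩
  have hc' : ∀ a ∈ H₁, ∀ b ∈ cj s H₁, a * b = b * a :=
    fun a ha b hb => hc a (hH₁P ha) b (cj_mono hH₁P hb)
  have k1 := card_le_of_sq_mem hr (H₁ ⊔ cj s H₁) (N₁ ⊔ cj s N₁)
    (sup_le_sup hN₁H₁ (cj_mono hN₁H₁)) (by
      intro x hx
      obtain ⟨a, ha, b, hb, rfl⟩ := mem_sup_of_comm hc' hx
      have e2 : Commute a b := hc' a ha b hb
      rw [e2.mul_pow]
      refine Subgroup.mul_mem_sup (hsq₁ a ha) ?_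
      rw [mem_cj] at hb ⊢
      have e : s⁻¹ * b ^ 2 * s = (s⁻¹ * b * s) ^ 2 := by rw [sq, sq]; group
      rw [e]; exact hsq₁ _ hb)
  rw [card_sup_of_disjoint hPQ hc hH₁P (cj_mono hH₁P),
    card_sup_of_disjoint hPQ hc hN₁P (cj_mono hN₁P), card_cj, card_cj,
    Subgroup.card_map_of_injective P.subtype_injective,
    Subgroup.card_map_of_injective P.subtype_injective] at k1
  -- `(card H)^2 ≤ 16 * (card N)^2`
  by_contra hcon
  push Not at hcon
  have : (2 ^ 2 * Nat.card N) * (2 ^ 2 * Nat.card N) < Nat.card H * Nat.card H :=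
    Nat.mul_self_lt_mul_self hcon
  nlinarith

end Cfsg.Agent.Helper53.SR4
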