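import Mathlib
import Cfsg.Agent.Lib.Helper53.SR4b

set_option autoImplicit false

namespace Cfsg.Agent.Helper53.SR4

open Cfsg.Agent.Helper53.DirProd Cfsg.Agent.Helper53.Soft

variable {S : Type*} [Group S]

/-- The configuration of S4401: a good subgroup `P`, normalised by `S₀ = C_S(z)` where
`Z(P) = ⟨z⟩`. -/
structure Cfg (S : Type*) [Group S] where
  P : Subgroup S
  S₀ : Subgroup S
  z : S
  good : Good P
  hz : z ∈ zc P
  hz1 : z ≠ 1
  mem_S₀ : ∀ g, g ∈ S₀ ↔ g * z = z * g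
  norm : ∀ s ∈ S₀, ∀ x ∈ P, s * x * s⁻¹ ∈ P

namespace Cfg

variable (c : Cfg S)

theorem zc_eq {a : S} (ha : a ∈ zc c.P) : a = 1 ∨ a = c.z := by
  by_cases h : a = 1
  · exact Or.inl h
  · exact Or.inr (eq_of_card_two c.good.card_zc ha c.hz h c.hz1)

theorem P_le : c.P ≤ c.S₀ := by
  intro x hx
  rw [c.mem_S₀]
  exact (mem_zc.mp c.hz).2 x hx

theorem z_mem_P : c.z ∈ c.P := (mem_zc.mp c.hz).1

theorem z_mem : c.z ∈ c.S₀ := c.P_le c.z_mem_P

theorem z_sq : c.z * c.z = 1 := by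
  have h : c.z * c.z ∈ zc c.P := Subgroup.mul_mem _ c.hz c.hz
  rcases c.zc_eq h with h1 | h1
  · exact h1
  · exfalso
    apply c.hz1
    calc c.z = c.z⁻¹ * (c.z * c.z) := by group
      _ = 1 := by rw [h1]; group

theorem z_inv : c.z⁻¹ = c.z := by
  rw [inv_eq_iff_mul_eq_one]; exact c.z_sq

/-- the normaliser of `S₀`. -/
def N : Subgroup S := Subgroup.normalizer (c.S₀ : Set S)

theorem S₀_le_N : c.S₀ ≤ c.N := Subgroup.le_normalizer

theorem cj_S₀ {g : S} (hg : g ∈ c.N) : cj g c.S₀ = c.S₀ := cj_eq_self_iff.mpr hg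

theorem conj_mem_S₀ {g x : S} (hg : g ∈ c.N) (hx : x ∈ c.S₀) : g * x * g⁻¹ ∈ c.S₀ := by
  have := conj_mem_cj (g := g) hx
  rwa [c.cj_S₀ hg] at this

theorem conj_mem_S₀' {g x : S} (hg : g ∈ c.N) (hx : x ∈ c.S₀) : g⁻¹ * x * g ∈ c.S₀ := by
  have := c.conj_mem_S₀ (c.N.inv_mem hg) hx
  simpa using this

/-- distinct cosets give distinct centres. -/
theorem mem_of_cj_zc_eq {g g' : S} (h : cj g (zc c.P) = cj g' (zc c.P)) : g⁻¹ * g' ∈ c.S₀ := by
  have h1 : g' * c.z * g'⁻¹ ∈ cj g (zc c.P) := by rw [h]; exact conj_mem_cj c.hz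
  rw [mem_cj] at h1
  have h2 : g⁻¹ * (g' * c.z * g'⁻¹) * g ≠ 1 := by
    intro h3
    apply c.hz1
    have : c.z = (g⁻¹ * g')⁻¹ * (g⁻¹ * (g' * c.z * g'⁻¹) * g) * (g⁻¹ * g') := by group
    rw [this, h3]; group
  rcases c.zc_eq h1 with h3 | h3
  · exact absurd h3 h2
  · rw [c.mem_S₀]
    calc g⁻¹ * g' * c.z = (g⁻¹ * (g' * c.z * g'⁻¹) * g) * (g⁻¹ * g') := by group
      _ = c.z * (g⁻¹ * g') := by rw [h3]

theorem cjP_le {g : S} (hg : g ∈ c.N) : cj g c.P ≤ c.S₀ := by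
  have := cj_mono (g := g) c.P_le
  rwa [c.cj_S₀ hg] at this

theorem norm_cjP {g : S} (hg : g ∈ c.N) : ∀ t ∈ c.S₀, ∀ x ∈ cj g c.P, t * x * t⁻¹ ∈ cj g c.P := by
  intro t ht x hx
  rw [mem_cj] at hx ⊢
  have h1 := c.norm _ (c.conj_mem_S₀' hg ht) _ hx
  have e : g⁻¹ * (t * x * t⁻¹) * g = g⁻¹ * t * g * (g⁻¹ * x * g) * (g⁻¹ * t * g)⁻¹ := by group
  rw [e]; exact h1

/-- the conjugate of `P` by an element of `S₀` is `P`. -/
theorem cj_P_of_mem {g : S} (hg : g ∈ c.S₀) : cj g c.P = c.P := by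
  ext x
  rw [mem_cj]
  constructor
  · intro h
    have := c.norm g hg _ h
    have e : g * (g⁻¹ * x * g) * g⁻¹ = x := by group
    rwa [e] at this
  · intro h
    have := c.norm g⁻¹ (c.S₀.inv_mem hg) _ h
    simpa using this

variable [Finite S]

/-- `S₀` has index at most two in its normaliser. -/
theorem index_two (h2 : IsPGroup 2 S) (hr : Cfsg.SectionalPRankLE 2 4 S) {m m' : S}
    (hm : m ∈ c.N) (hm' : m' ∈ c.N) (hm0 : m ∉ c.S₀) (hm0' : m' ∉ c.S₀) : m⁻¹ * m' ∈ c.S₀ := by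
  by_contra hcon
  have g2 := c.good.cj m
  have g3 := c.good.cj m'
  have hne12 : zc c.P ≠ zc (cj m c.P) := by
    intro h
    rw [zc_cj] at h
    have h' : cj 1 (zc c.P) = cj m (zc c.P) := by rw [cj_one]; exact h
    have := c.mem_of_cj_zc_eq h'
    simp at this
    exact hm0 this
  have hne13 : zc c.P ≠ zc (cj m' c.P) := by
    intro h
    rw [zc_cj] at h
    have h' : cj 1 (zc c.P) = cj m' (zc c.P) := by rw [cj_one]; exact h
    have := c.mem_of_cj_zc_eq h'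
    simp at this
    exact hm0' this
  have hne23 : zc (cj m c.P) ≠ zc (cj m' c.P) := by
    intro h
    rw [zc_cj, zc_cj] at h
    exact hcon (c.mem_of_cj_zc_eq h)
  obtain ⟨d12, c12⟩ := disjoint_of_zc_ne h2 c.S₀ c.P (cj m c.P) c.P_le (c.cjP_le hm) c.norm
    (c.norm_cjP hm) c.good.card_zc g2.card_zc hne12
  obtain ⟨d13, c13⟩ := disjoint_of_zc_ne h2 c.S₀ c.P (cj m' c.P) c.P_le (c.cjP_le hm') c.norm
    (c.norm_cjP hm') c.good.card_zc g3.card_zc hne13
  obtain ⟨d23, c23⟩ := disjoint_of_zc_ne h2 c.S₀ (cj m c.P) (cj m' c.P) (c.cjP_le hm)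
    (c.cjP_le hm') (c.norm_cjP hm) (c.norm_cjP hm') g2.card_zc g3.card_zc hne23
  have hA := centralizer_sup_le h2 hr c.P (cj m c.P) c.good g2 d12 c12
  -- `P₃` centralises `P ⊔ P₂`
  have h3c : cj m' c.P ≤ Subgroup.centralizer ((c.P ⊔ cj m c.P : Subgroup S) : Set S) := by
    intro x hx
    have hle : c.P ⊔ cj m c.P ≤ Subgroup.centralizer ({x} : Set S) := by
      apply sup_le
      · intro p hp
        rw [Subgroup.mem_centralizer_singleton_iff]
        exact c13 p hp x hx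
      · intro p hp
        rw [Subgroup.mem_centralizer_singleton_iff]
        exact c23 p hp x hx
    rw [Subgroup.mem_centralizer_iff]
    intro y hy
    have := hle hy
    rw [Subgroup.mem_centralizer_singleton_iff] at this
    exact this
  apply g3.1
  refine ⟨⟨fun a b => ?_⟩⟩
  have ha := h3c a.2
  have hb := hA (h3c b.2)
  rw [Subgroup.mem_centralizer_iff] at ha
  exact Subtype.ext (ha b hb).symm

end Cfg

end Cfsg.Agent.Helper53.SR4
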