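import Mathlib
import Cfsg.Agent.Lib.Helper53.SR4c

set_option autoImplicit false

namespace Cfsg.Agent.Helper53.SR4

open Cfsg.Agent.Helper53.DirProd Cfsg.Agent.Helper53.Soft

variable {S : Type*} [Group S]

/-- conjugates of commuting elements commute. -/
theorem comm_conj {g a b : S} (h : a * b = b * a) :
    (g * a * g⁻¹) * (g * b * g⁻¹) = (g * b * g⁻¹) * (g * a * g⁻¹) := by
  calc (g * a * g⁻¹) * (g * b * g⁻¹) = g * (a * b) * g⁻¹ := by group
    _ = g * (b * a) * g⁻¹ := by rw [h]
    _ = _ := by group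

theorem comm_of_conj {g a b : S}
    (h : (g * a * g⁻¹) * (g * b * g⁻¹) = (g * b * g⁻¹) * (g * a * g⁻¹)) : a * b = b * a := by
  have := comm_conj (g := g⁻¹) h
  have e1 : g⁻¹ * (g * a * g⁻¹) * g⁻¹⁻¹ = a := by group
  have e2 : g⁻¹ * (g * b * g⁻¹) * g⁻¹⁻¹ = b := by group
  rwa [e1, e2] at this

/-- if `g` and `p` commute with `w`, so does `g p g⁻¹`. -/
theorem comm_conj_of_comm {g p w : S} (hg : g * w = w * g) (hp : p * w = w * p) :
    (g * p * g⁻¹) * w = w * (g * p * g⁻¹) := by
  have hg' : g⁻¹ * w = w * g⁻¹ := by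
    calc g⁻¹ * w = g⁻¹ * (w * g) * g⁻¹ := by group
      _ = g⁻¹ * (g * w) * g⁻¹ := by rw [hg]
      _ = w * g⁻¹ := by group
  calc g * p * g⁻¹ * w = g * p * (g⁻¹ * w) := by group
    _ = g * p * (w * g⁻¹) := by rw [hg']
    _ = g * (p * w) * g⁻¹ := by group
    _ = g * (w * p) * g⁻¹ := by rw [hp]
    _ = (g * w) * p * g⁻¹ := by group
    _ = (w * g) * p * g⁻¹ := by rw [hg]
    _ = w * (g * p * g⁻¹) := by group

namespace Cfg

variable (c : Cfg S) [Finite S]

theorem N_eq_top (h2 : IsPGroup 2 S) (hr : Cfsg.SectionalPRankLE 2 4 S) (hlt : c.S₀ ≠ ⊤) :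
    c.N = ⊤ := by
  have : Fact (Nat.Prime 2) := ⟨Nat.prime_two⟩
  by_contra hN
  obtain ⟨s, -, hsN', hs0⟩ := exists_mem_normalizer_of_lt h2 (lt_top_iff_ne_top.mpr hlt)
  have hsN : s ∈ c.N := hsN'
  obtain ⟨t, -, htN, htn⟩ := exists_mem_normalizer_of_lt h2 (lt_top_iff_ne_top.mpr hN)
  -- conjugation by `t` preserves `N`
  have hT1 : ∀ n ∈ c.N, t⁻¹ * n * t ∈ c.N := fun n hn =>
    (Subgroup.mem_normalizer_iff''.mp htN n).mp hn
  have hT1' : ∀ n ∈ c.N, t * n * t⁻¹ ∈ c.N := fun n hn =>
    (Subgroup.mem_normalizer_iff.mp htN n).mp hn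
  set z := c.z with hzdef
  set z' := t * z * t⁻¹ with hz'def
  -- `S₁ = C(z')`
  have hS1 : ∀ g, g * z' = z' * g ↔ t⁻¹ * g * t ∈ c.S₀ := by
    intro g
    rw [c.mem_S₀]
    constructor
    · intro h
      calc t⁻¹ * g * t * z = t⁻¹ * (g * (t * z * t⁻¹)) * t := by group
        _ = t⁻¹ * ((t * z * t⁻¹) * g) * t := by rw [h]
        _ = z * (t⁻¹ * g * t) := by group
    · intro h
      calc g * (t * z * t⁻¹) = t * ((t⁻¹ * g * t) * z) * t⁻¹ := by group
        _ = t * (z * (t⁻¹ * g * t)) * t⁻¹ := by rw [h]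
        _ = (t * z * t⁻¹) * g := by group
  -- elements commuting with `z'` lie in `N`
  have hS1N : ∀ g, g * z' = z' * g → g ∈ c.N := by
    intro g hg
    have h1 := hT1' _ (c.S₀_le_N ((hS1 g).mp hg))
    have e : t * (t⁻¹ * g * t) * t⁻¹ = g := by group
    rwa [e] at h1
  -- index two for `S₁`
  have hT3 : ∀ n ∈ c.N, ∀ n' ∈ c.N, n * z' ≠ z' * n → n' * z' ≠ z' * n' →
      (n⁻¹ * n') * z' = z' * (n⁻¹ * n') := by
    intro n hn n' hn' h h'
    rw [hS1]
    have := c.index_two h2 hr (hT1 n hn) (hT1 n' hn') (fun hh => h ((hS1 n).mpr hh))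
      (fun hh => h' ((hS1 n').mpr hh))
    have e : t⁻¹ * (n⁻¹ * n') * t = (t⁻¹ * n * t)⁻¹ * (t⁻¹ * n' * t) := by group
    rw [e]; exact this
  have hC1 : ∀ n ∈ c.N, ∀ n' ∈ c.N, n * z' ≠ z' * n → n' * z' ≠ z' * n' →
      n * z' * n⁻¹ = n' * z' * n'⁻¹ := by
    intro n hn n' hn' h h'
    have := hT3 n hn n' hn' h h'
    calc n * z' * n⁻¹ = n * (z' * (n⁻¹ * n')) * n'⁻¹ := by group
      _ = n * ((n⁻¹ * n') * z') * n'⁻¹ := by rw [this]
      _ = n' * z' * n'⁻¹ := by group
  -- `P₂ = cj s P`, and conjugation by elements outside `S₁`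
  have hT4 : ∀ n ∈ c.N, n * z' ≠ z' * n → cj n (cj t c.P) = cj t (cj s c.P) := by
    intro n hn h
    have hm : t⁻¹ * n * t ∈ c.N := hT1 n hn
    have hm0 : t⁻¹ * n * t ∉ c.S₀ := fun hh => h ((hS1 n).mpr hh)
    have h1 := c.index_two h2 hr hsN hm hs0 hm0
    have e1 : n * t = t * (s * (s⁻¹ * (t⁻¹ * n * t))) := by group
    rw [← cj_mul, e1, cj_mul, cj_mul, c.cj_P_of_mem h1]
  have hzN : z ∈ c.N := c.S₀_le_N c.z_mem
  have g1 := c.good.cj t
  have g2 := c.good.cj s
  have hne12 : zc c.P ≠ zc (cj s c.P) := by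
    intro h
    rw [zc_cj] at h
    have h' : cj 1 (zc c.P) = cj s (zc c.P) := by rw [cj_one]; exact h
    have := c.mem_of_cj_zc_eq h'
    simp at this
    exact hs0 this
  obtain ⟨d12, c12⟩ := disjoint_of_zc_ne h2 c.S₀ c.P (cj s c.P) c.P_le (c.cjP_le hsN) c.norm
    (c.norm_cjP hsN) c.good.card_zc g2.card_zc hne12
  have hP2N : cj s c.P ≤ c.N := (c.cjP_le hsN).trans c.S₀_le_N
  have hPN : c.P ≤ c.N := c.P_le.trans c.S₀_le_N
  by_cases hzz : z * z' = z' * z
  · -- Case II
    have hz'0 : z' ∈ c.S₀ := by rw [c.mem_S₀]; exact hzz.symm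
    have hz'inv : z'⁻¹ ∈ c.S₀ := c.S₀.inv_mem hz'0
    by_cases h1 : ∀ x ∈ c.P, x * z' = z' * x
    · by_cases h2' : ∀ x ∈ cj s c.P, x * z' = z' * x
      · -- (ii)
        have hcen : z' ∈ Subgroup.centralizer ((c.P ⊔ cj s c.P : Subgroup S) : Set S) := by
          have hle : c.P ⊔ cj s c.P ≤ Subgroup.centralizer ({z'} : Set S) := by
            apply sup_le
            · intro p hp
              rw [Subgroup.mem_centralizer_singleton_iff]
              exact h1 p hp
            · intro p hp
              rw [Subgroup.mem_centralizer_singleton_iff]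
              exact h2' p hp
          rw [Subgroup.mem_centralizer_iff]
          intro y hy
          have := hle hy
          rw [Subgroup.mem_centralizer_singleton_iff] at this
          exact this
        have hmem := centralizer_sup_le h2 hr c.P (cj s c.P) c.good g2 d12 c12 hcen
        obtain ⟨a, ha, b, hb, hab⟩ := mem_sup_of_comm c12 hmem
        have haZ : a ∈ zc c.P := by
          rw [mem_zc]
          refine ⟨ha, fun p hp => ?_⟩
          have e1 := h1 p hp
          have e2 := c12 p hp b hb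
          have e3 : p * b⁻¹ = b⁻¹ * p := by
            calc p * b⁻¹ = b⁻¹ * (b * p) * b⁻¹ := by group
              _ = b⁻¹ * (p * b) * b⁻¹ := by rw [e2]
              _ = b⁻¹ * p := by group
          have ea : a = z' * b⁻¹ := by rw [hab]; group
          rw [ea, ← mul_assoc, e1, mul_assoc, e3, ← mul_assoc]
        have hbZ : b ∈ zc (cj s c.P) := by
          rw [mem_zc]
          refine ⟨hb, fun q hq => ?_⟩
          have e1 := h2' q hq
          have e2 := c12 a ha q hq
          have e3 : q * a⁻¹ = a⁻¹ * q := by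
            calc q * a⁻¹ = a⁻¹ * (a * q) * a⁻¹ := by group
              _ = a⁻¹ * (q * a) * a⁻¹ := by rw [e2]
              _ = a⁻¹ * q := by group
          have eb : b = a⁻¹ * z' := by rw [hab]; group
          rw [eb, ← mul_assoc, e3, mul_assoc, e1, ← mul_assoc]
        rw [zc_cj, mem_cj] at hbZ
        rcases c.zc_eq haZ with ha1 | ha1
        · rcases c.zc_eq hbZ with hb1 | hb1
          · -- z' = 1
            have hb' : b = 1 := by
              calc b = s * (s⁻¹ * b * s) * s⁻¹ := by group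
                _ = 1 := by rw [hb1]; group
            have : z' = 1 := by rw [hab, ha1, hb', mul_one]
            apply c.hz1
            have e0 : z = t⁻¹ * z' * t := by rw [hz'def]; group
            show z = 1
            rw [e0, this]; group
          · -- z' = s z s⁻¹
            have hb' : b = s * z * s⁻¹ := by
              calc b = s * (s⁻¹ * b * s) * s⁻¹ := by group
                _ = s * z * s⁻¹ := by rw [hb1]
            have e : t * z * t⁻¹ = s * z * s⁻¹ := by
              rw [← hz'def, hab, ha1, hb', one_mul]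
            have h3 : s⁻¹ * t ∈ c.S₀ := by
              rw [c.mem_S₀]
              calc s⁻¹ * t * z = s⁻¹ * (t * z * t⁻¹) * t := by group
                _ = s⁻¹ * (s * z * s⁻¹) * t := by rw [e]
                _ = z * (s⁻¹ * t) := by group
            apply htn
            have : t = s * (s⁻¹ * t) := by group
            rw [this]
            exact c.N.mul_mem hsN (c.S₀_le_N h3)
        · rcases c.zc_eq hbZ with hb1 | hb1
          · -- z' = z
            have hb' : b = 1 := by
              calc b = s * (s⁻¹ * b * s) * s⁻¹ := by group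
                _ = 1 := by rw [hb1]; group
            have e : t * z * t⁻¹ = z := by
              rw [← hz'def, hab, ha1, hb', mul_one]
            apply htn
            apply c.S₀_le_N
            rw [c.mem_S₀]
            calc t * z = (t * z * t⁻¹) * t := by group
              _ = z * t := by rw [e]
          · -- z' = z * (s z s⁻¹): all of `N` centralises `z'`
            have hb' : b = s * z * s⁻¹ := by
              calc b = s * (s⁻¹ * b * s) * s⁻¹ := by group
                _ = s * z * s⁻¹ := by rw [hb1]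
            have ez' : z' = z * (s * z * s⁻¹) := by rw [hab, ha1, hb']
            -- `S₀` centralises `z'`
            have hS0c : ∀ n ∈ c.S₀, n * z' = z' * n := by
              intro n hn
              have e1 : n * z = z * n := (c.mem_S₀ n).mp hn
              have e2 : (s⁻¹ * n * s) * z = z * (s⁻¹ * n * s) :=
                (c.mem_S₀ _).mp (c.conj_mem_S₀' hsN hn)
              rw [ez']
              calc n * (z * (s * z * s⁻¹)) = (n * z) * (s * z * s⁻¹) := by group
                _ = (z * n) * (s * z * s⁻¹) := by rw [e1]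
                _ = z * s * ((s⁻¹ * n * s) * z) * s⁻¹ := by group
                _ = z * s * (z * (s⁻¹ * n * s)) * s⁻¹ := by rw [e2]
                _ = z * (s * z * s⁻¹) * n := by group
            -- `s` centralises `z'`
            have hss : s * s ∈ c.S₀ := by
              have := c.index_two h2 hr (c.N.inv_mem hsN) hsN
                (fun hh => hs0 (by simpa using c.S₀.inv_mem hh)) hs0
              simpa using this
            have hsc : s * z' = z' * s := by
              have e1 : (s * s) * z = z * (s * s) := (c.mem_S₀ _).mp hss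
              have e2 : (s * z * s⁻¹) * z = z * (s * z * s⁻¹) := by
                have : s * z * s⁻¹ ∈ c.S₀ := c.conj_mem_S₀ hsN c.z_mem
                exact (c.mem_S₀ _).mp this
              rw [ez']
              calc s * (z * (s * z * s⁻¹)) = (s * z * s⁻¹) * ((s * s) * z) * s⁻¹ := by group
                _ = (s * z * s⁻¹) * (z * (s * s)) * s⁻¹ := by rw [e1]
                _ = ((s * z * s⁻¹) * z) * s := by group
                _ = (z * (s * z * s⁻¹)) * s := by rw [e2]
            have hNc : ∀ n ∈ c.N, n * z' = z' * n := by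
              intro n hn
              by_cases hn0 : n ∈ c.S₀
              · exact hS0c n hn0
              · have h3 := c.index_two h2 hr hsN hn hs0 hn0
                have e3 := hS0c _ h3
                calc n * z' = s * ((s⁻¹ * n) * z') := by group
                  _ = s * (z' * (s⁻¹ * n)) := by rw [e3]
                  _ = (s * z') * (s⁻¹ * n) := by group
                  _ = (z' * s) * (s⁻¹ * n) := by rw [hsc]
                  _ = z' * n := by group
            -- hence `N ≤ cj t S₀`, contradiction with orders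
            have hle : c.N ≤ cj t c.S₀ := by
              intro n hn
              rw [mem_cj]
              exact (hS1 n).mp (hNc n hn)
            have hcard : Nat.card c.N ≤ Nat.card c.S₀ := by
              have := Subgroup.card_le_of_le hle
              rwa [card_cj] at this
            have hlt' : c.S₀ < c.N :=
              lt_of_le_of_ne c.S₀_le_N (fun h => hs0 (h ▸ hsN))
            have := two_mul_card_le_of_lt hlt'
            have hpos : 0 < Nat.card c.S₀ := Nat.card_pos
            omega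
      · -- (iii)
        push Not at h2'
        obtain ⟨x₂, hx₂, hx₂z⟩ := h2'
        have hp : (s⁻¹ * x₂ * s) * z' = z' * (s⁻¹ * x₂ * s) := h1 _ (mem_cj.mp hx₂)
        have ex : x₂ = s * (s⁻¹ * x₂ * s) * s⁻¹ := by group
        by_cases hsz : s * z' = z' * s
        · apply hx₂z
          rw [ex]
          exact comm_conj_of_comm hsz hp
        · have e1 := hC1 s hsN x₂ (hP2N hx₂) hsz hx₂z
          -- `x₂` commutes with `s z' s⁻¹`
          have e2 : x₂ * (s * z' * s⁻¹) = (s * z' * s⁻¹) * x₂ := by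
            have := comm_conj (g := s) hp
            rwa [← ex] at this
          apply hx₂z
          have e3 : x₂ * z' * x₂⁻¹ = z' := by
            have h4 : x₂ * (s * z' * s⁻¹) * x₂⁻¹ = s * z' * s⁻¹ := by
              rw [e2]; group
            have h5 : x₂ * (s * z' * s⁻¹) * x₂⁻¹ = x₂ * (x₂ * z' * x₂⁻¹) * x₂⁻¹ := by rw [e1]
            have h6 : x₂ * z' * x₂⁻¹ = x₂ * (x₂ * z' * x₂⁻¹) * x₂⁻¹ := by
              rw [← h5, h4, e1]
            calc x₂ * z' * x₂⁻¹ = x₂⁻¹ * (x₂ * (x₂ * z' * x₂⁻¹) * x₂⁻¹) * x₂ := by group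
              _ = x₂⁻¹ * (x₂ * z' * x₂⁻¹) * x₂ := by rw [← h6]
              _ = z' := by group
          calc x₂ * z' = (x₂ * z' * x₂⁻¹) * x₂ := by group
            _ = z' * x₂ := by rw [e3]
    · push Not at h1
      obtain ⟨x₁, hx₁, hx₁z⟩ := h1
      by_cases h2' : ∀ x ∈ cj s c.P, x * z' = z' * x
      · -- (iii')
        have hq : (s * x₁ * s⁻¹) * z' = z' * (s * x₁ * s⁻¹) := h2' _ (conj_mem_cj hx₁)
        have ex : x₁ = s⁻¹ * (s * x₁ * s⁻¹) * s⁻¹⁻¹ := by group
        by_cases hsz : s⁻¹ * z' = z' * s⁻¹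
        · apply hx₁z
          rw [ex]
          exact comm_conj_of_comm hsz hq
        · have e1 := hC1 s⁻¹ (c.N.inv_mem hsN) x₁ (hPN hx₁) hsz hx₁z
          have e2 : x₁ * (s⁻¹ * z' * s⁻¹⁻¹) = (s⁻¹ * z' * s⁻¹⁻¹) * x₁ := by
            have := comm_conj (g := s⁻¹) hq
            rwa [← ex] at this
          apply hx₁z
          have e3 : x₁ * z' * x₁⁻¹ = z' := by
            have h4 : x₁ * (s⁻¹ * z' * s⁻¹⁻¹) * x₁⁻¹ = s⁻¹ * z' * s⁻¹⁻¹ := by
              rw [e2]; group
            have h5 : x₁ * (s⁻¹ * z' * s⁻¹⁻¹) * x₁⁻¹ = x₁ * (x₁ * z' * x₁⁻¹) * x₁⁻¹ := by rw [e1]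
            have h6 : x₁ * z' * x₁⁻¹ = x₁ * (x₁ * z' * x₁⁻¹) * x₁⁻¹ := by
              rw [← h5, h4, e1]
            calc x₁ * z' * x₁⁻¹ = x₁⁻¹ * (x₁ * (x₁ * z' * x₁⁻¹) * x₁⁻¹) * x₁ := by group
              _ = x₁⁻¹ * (x₁ * z' * x₁⁻¹) * x₁ := by rw [← h6]
              _ = z' := by group
          calc x₁ * z' = (x₁ * z' * x₁⁻¹) * x₁ := by group
            _ = z' * x₁ := by rw [e3]
      · -- (i)
        push Not at h2'
        obtain ⟨x₂, hx₂, hx₂z⟩ := h2'
        have e1 := hC1 x₁ (hPN hx₁) x₂ (hP2N hx₂) hx₁z hx₂z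
        have hw1 : z'⁻¹ * (x₁ * z' * x₁⁻¹) ∈ c.P := by
          have := c.norm _ hz'inv _ hx₁
          have e : z'⁻¹ * (x₁ * z' * x₁⁻¹) = (z'⁻¹ * x₁ * z'⁻¹⁻¹) * x₁⁻¹ := by group
          rw [e]; exact c.P.mul_mem this (c.P.inv_mem hx₁)
        have hw2 : z'⁻¹ * (x₂ * z' * x₂⁻¹) ∈ cj s c.P := by
          have := c.norm_cjP hsN _ hz'inv _ hx₂
          have e : z'⁻¹ * (x₂ * z' * x₂⁻¹) = (z'⁻¹ * x₂ * z'⁻¹⁻¹) * x₂⁻¹ := by group
          rw [e]; exact (cj s c.P).mul_mem this ((cj s c.P).inv_mem hx₂)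
        rw [← e1] at hw2
        have hw : z'⁻¹ * (x₁ * z' * x₁⁻¹) ∈ c.P ⊓ cj s c.P := ⟨hw1, hw2⟩
        rw [d12, Subgroup.mem_bot] at hw
        apply hx₁z
        calc x₁ * z' = z' * (z'⁻¹ * (x₁ * z' * x₁⁻¹)) * x₁ := by group
          _ = z' * x₁ := by rw [hw]; group
  · -- Case I
    have h3 := hT4 z hzN hzz
    have hdisj : cj t c.P ⊓ cj t (cj s c.P) = ⊥ := by
      rw [← cj_inf, d12]
      ext x
      rw [mem_cj, Subgroup.mem_bot, Subgroup.mem_bot]
      constructor
      · intro h
        calc x = t * (t⁻¹ * x * t) * t⁻¹ := by group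
          _ = 1 := by rw [h]; group
      · intro h; rw [h]; group
    have hP1N : cj t c.P ≤ c.N := by
      intro x hx
      have h4 : t⁻¹ * x * t ∈ c.N := hPN (mem_cj.mp hx)
      have := hT1' _ h4
      have e : t * (t⁻¹ * x * t) * t⁻¹ = x := by group
      rwa [e] at this
    have htriv : ∀ x ∈ cj t c.P, x ∈ c.S₀ → x = 1 := by
      intro x hx hx0
      have e1 : x * z = z * x := (c.mem_S₀ x).mp hx0
      have h4 : z * x * z⁻¹ ∈ cj z (cj t c.P) := conj_mem_cj hx
      rw [h3] at h4
      have e2 : z * x * z⁻¹ = x := by rw [← e1]; group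
      rw [e2] at h4
      have : x ∈ cj t c.P ⊓ cj t (cj s c.P) := ⟨hx, h4⟩
      rwa [hdisj, Subgroup.mem_bot] at this
    apply g1.1
    refine ⟨⟨fun a b => ?_⟩⟩
    by_cases ha : (a : S) = 1
    · have : a = 1 := Subtype.ext ha
      rw [this]; simp
    · by_cases hb : (b : S) = 1
      · have : b = 1 := Subtype.ext hb
        rw [this]; simp
      · have h5 := c.index_two h2 hr (hP1N a.2) (hP1N b.2) (fun hh => ha (htriv _ a.2 hh))
          (fun hh => hb (htriv _ b.2 hh))
        have h6 := htriv _ ((cj t c.P).mul_mem ((cj t c.P).inv_mem a.2) b.2) h5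
        have : (a : S) = b := by
          calc (a : S) = a * ((a : S)⁻¹ * b) * (b : S)⁻¹ * b := by rw [h6]; group
            _ = b := by group
        have : a = b := Subtype.ext this
        rw [this]

end Cfg

end Cfsg.Agent.Helper53.SR4
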