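import Mathlib
import Cfsg.Agent.Lib.Helper2.SR0
import Cfsg.Agent.Lib.Helper94.SRA2
import Cfsg.Agent.Lib.Helper69.SRA5
import Cfsg.Agent.Lib.Helper85.SRK3
import Cfsg.Agent.Lib.Helper82.SRK
import Cfsg.Agent.Lib.Helper42.SRK6
import Cfsg.Agent.Lib.Helper94.SRK9a
import Cfsg.Agent.Lib.Helper23.SRKTail

/-!
# SR server (helper2, S2281): the K chain K4 -- K14, VERBATIM, 0 sorry

Glue of the landed pieces: (A2) helper94, (A5)(A6) helper69, (K3) helper85, (K4 core) helper82,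
(K6)(K8)(K9) `_of` helper42, (K9a) helper94, (K10)--(K14) `_of` helper23; (K5) and (K7) are proved here.
-/

set_option autoImplicit false

namespace Cfsg.Agent.Helper53.SR

open Matrix Cfsg Cfsg.Agent.Helper13 Cfsg.Agent.Helper84.SpRoot Cfsg.Agent.Helper5.SpAut
open Cfsg.Agent.Helper2.SR

section K
variable {F : Type*} [Field F] {n : ℕ}
  {H : Subgroup (Matrix.symplecticGroup (Fin n) F)} {u l : Matrix.symplecticGroup (Fin n) F}
  {e0 e1 p : Fin n ⊕ Fin n → F} {κ γ : F}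

/-- (K4) from K3 and A7 with `y = e1` -/
theorem lin_e1 (hyp : Hyp H u l e0 e1 p κ γ) : ∀ a : F, a • e1 ∈ QQ H e0 :=
  Cfsg.Agent.Helper82.SR.h82_lin_e1_core hyp (Cfsg.Agent.Helper85.SR.pingpong hyp)

/-- (K5) `{w | ∀ a, a • w ∈ QQ}` is a `u`-stable subspace containing `p`; `hyp.cyc` -/
theorem QQ_full (hyp : Hyp H u l e0 e1 p κ γ) :
    ∀ w : Fin n ⊕ Fin n → F, Cfsg.sympForm n F w e0 = 0 → w ∈ QQ H e0 := by
  obtain ⟨S, hS⟩ := Cfsg.Agent.Helper69.SR.QQ_addsub (H := H) (e0 := e0)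
  have hmem : ∀ w : Fin n ⊕ Fin n → F, w ∈ S ↔ w ∈ QQ H e0 := fun w => by
    rw [← hS]; rfl
  let T : Submodule F (Fin n ⊕ Fin n → F) :=
    { carrier := {w | ∀ a : F, a • w ∈ S}
      add_mem' := fun {x y} hx hy a => by
        rw [smul_add]; exact S.add_mem (hx a) (hy a)
      zero_mem' := fun a => by
        rw [smul_zero]; exact S.zero_mem
      smul_mem' := fun c x hx a => by
        rw [smul_smul]; exact hx (a * c) }
  have hp : p ∈ T := fun a => (hmem _).2 (Cfsg.Agent.Helper85.SR.pingpong hyp a)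
  have hst : ∀ x ∈ T, u.val *ᵥ x ∈ T := fun x hx a => by
    rw [← Matrix.mulVec_smul]
    exact (hmem _).2 (Cfsg.Agent.Helper69.SR.QQ_stab ((hmem _).1 (hx a)) hyp.hu hyp.ue0)
  intro w hw
  have h1 : (1 : F) • w ∈ S := hyp.cyc T hp hst w hw 1
  rw [one_smul] at h1
  exact (hmem _).1 h1

/-- (K6) `eich e0 w c ∈ H` with `w = (a/γ) • p` maps `e1` to `e1 + a • e0` -/
theorem orb_e1_add (hyp : Hyp H u l e0 e1 p κ γ) : ∀ a : F, e1 + a • e0 ∈ Orb H e0 :=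
  Cfsg.Agent.Helper42.SR.orb_e1_add_of hyp (Cfsg.Agent.Helper85.SR.pingpong hyp)

/-- (K7) `l⁻¹ (e1 + a • e0) = e0 + a • p`, then `eich e0 w c` with `w = (a γ)⁻¹ • e1` removes `e0` -/
theorem orb_smul_p (hyp : Hyp H u l e0 e1 p κ γ) : ∀ a : F, a ≠ 0 → a • p ∈ Orb H e0 := by
  intro a ha
  have h6 := orb_e1_add hyp a
  have hlinv : l⁻¹ ∈ H := H.inv_mem hyp.hl
  have h1 := Cfsg.Agent.Helper94.SR.orb_act h6 hlinv
  have he1 : (l⁻¹).val *ᵥ e1 = e0 := by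
    have := inv_mulVec_mulVec l e0
    rwa [hyp.le0] at this
  have he0 : (l⁻¹).val *ᵥ e0 = p := by
    have := inv_mulVec_mulVec l p
    rwa [hyp.lp] at this
  have hx : (l⁻¹).val *ᵥ (e1 + a • e0) = e0 + a • p := by
    rw [Matrix.mulVec_add, Matrix.mulVec_smul, he1, he0]
  rw [hx] at h1
  obtain ⟨hw0, c, hc⟩ := lin_e1 hyp (a * γ)⁻¹
  have h2 := Cfsg.Agent.Helper94.SR.orb_act h1 hc
  have hγ0 := hyp.γ0
  have hpe1 : Cfsg.sympForm n F p e1 = -γ := by rw [sympForm_swap, hyp.e1p]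
  have he0e1 : Cfsg.sympForm n F e0 e1 = 0 := by rw [sympForm_swap, hyp.e1e0, neg_zero]
  have hxe0 : Cfsg.sympForm n F (e0 + a • p) e0 = 0 := by
    rw [sympForm_add_left, sympForm_smul_left, sympForm_self, hyp.pe0]; ring
  have hxw : Cfsg.sympForm n F (e0 + a • p) ((a * γ)⁻¹ • e1) = -1 := by
    rw [sympForm_smul_right, sympForm_add_left, sympForm_smul_left, he0e1, hpe1]
    field_simp
    ring
  rw [eich_act hw0, hxe0, hxw] at h2
  have : e0 + a • p + (0 : F) • ((a * γ)⁻¹ • e1) + (-1 : F) • e0 + (c * 0) • e0 = a • p := by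
    module
  rwa [this] at h2

/-- (K8) `sympT (a • p) κ = sympT p (κ a²)`, conjugate by `l` -/
theorem MM_sq (hyp : Hyp H u l e0 e1 p κ γ) : ∀ a : F, κ * a ^ 2 ∈ MM H e0 :=
  Cfsg.Agent.Helper42.SR.MM_sq_of hyp (orb_smul_p hyp)

/-- (K9) -/
theorem MM_top [Finite F] (hyp : Hyp H u l e0 e1 p κ γ) : ∀ c : F, c ∈ MM H e0 :=
  Cfsg.Agent.Helper42.SR.MM_top_of hyp (MM_sq hyp)
    (fun S hS => Cfsg.Agent.Helper94.SR.sq_span S hS)

/-- (K10) `eich e0 w c = eich e0 w c' * sympT e0 (c - c')` -/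
theorem Q_le [Finite F] (hyp : Hyp H u l e0 e1 p κ γ) :
    ∀ (w : Fin n ⊕ Fin n → F) (c : F), Cfsg.sympForm n F w e0 = 0 → eich e0 w c ∈ H :=
  Cfsg.Agent.Helper23.SR.Q_le_of (QQ_full hyp) (MM_top hyp)

/-- (K11) `w0 = l e1 ∈ Orb`, `Q_{e0}` is transitive on `{v | ω v e0 = ω w0 e0}` -/
theorem orb_out [Finite F] (hyp : Hyp H u l e0 e1 p κ γ) :
    ∀ v : Fin n ⊕ Fin n → F, Cfsg.sympForm n F v e0 ≠ 0 → ∃ t : F, t ≠ 0 ∧ t • v ∈ Orb H e0 :=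
  Cfsg.Agent.Helper23.SR.orb_out_of hyp (Q_le hyp)

/-- (K12) -/
theorem WW_out [Finite F] (hyp : Hyp H u l e0 e1 p κ γ) :
    ∀ v : Fin n ⊕ Fin n → F, Cfsg.sympForm n F v e0 ≠ 0 → v ∈ WW H :=
  Cfsg.Agent.Helper23.SR.WW_out_of hyp (MM_top hyp) (Q_le hyp)

/-- (K13) `v = y + (v - y)` with `ω y e0 ≠ 0`, `ω y v ≠ 0` -/
theorem WW_all [Finite F] (hyp : Hyp H u l e0 e1 p κ γ) :
    ∀ v : Fin n ⊕ Fin n → F, v ≠ 0 → v ∈ WW H :=
  Cfsg.Agent.Helper23.SR.WW_all_of hyp (MM_top hyp) (Q_le hyp)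

/-- (K14) `Cfsg.Agent.S0765.result` -/
theorem core_top [Finite F] (hyp : Hyp H u l e0 e1 p κ γ) : H = ⊤ :=
  Cfsg.Agent.Helper23.SR.core_top_of hyp (MM_top hyp) (Q_le hyp)

end K

end Cfsg.Agent.Helper53.SR
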