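import Mathlib
import Cfsg.Agent.Lib.Helper2.SS0
import Cfsg.Agent.Lib.Helper41.SSY3

/-!
# SS lemma server (S2411), piece (Y5a) `y_pow_three` (helper53)

In characteristic 2 the element `y = T_w(1) T_{w'}(1)` (`ω w' w = 1`) has `y ^ 3 = 1`.
-/

set_option autoImplicit false

namespace Cfsg.Agent.Helper53.SS

open Matrix Cfsg Cfsg.Agent.Helper13 Cfsg.Agent.Helper84.SpRoot Cfsg.Agent.Helper5.SpAut
open Cfsg.Agent.Helper2.SR Cfsg.Agent.Helper2.SS

section Y
variable {F : Type*} [Field F] {m : ℕ}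

/-- the action of `y = T_w(α) T_{w'}(β)` on an arbitrary vector -/
theorem h53_y_key (α β ξ : F) (x : Fin (m + 2) ⊕ Fin (m + 2) → F) :
    (yEl (m := m) α β ξ).val *ᵥ x =
      x + (β * Cfsg.sympForm (m + 2) F x (wpV (m := m) ξ)) • wpV (m := m) ξ +
        (α * (Cfsg.sympForm (m + 2) F x (wV (m := m)) +
          β * Cfsg.sympForm (m + 2) F x (wpV (m := m) ξ))) • wV (m := m) := by
  rw [yEl, mul_act, sympT_act (wpV ξ) β, sympT_act, sympForm_add_left, sympForm_smul_left,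
    Cfsg.Agent.Helper41.SS.h41_wp_w]
  module

theorem h53_w_wp (ξ : F) :
    Cfsg.sympForm (m + 2) F (wV (m := m) (F := F)) (wpV (m := m) ξ) = -1 := by
  rw [sympForm_swap, Cfsg.Agent.Helper41.SS.h41_wp_w]

/-- (Y5a) characteristic 2 -/
theorem y_pow_three (h2 : (2 : F) = 0) (ξ : F) : yEl (m := m) 1 1 ξ ^ 3 = 1 := by
  apply sp_ext
  intro x
  have e3 : yEl (m := m) 1 1 ξ ^ 3 = yEl (m := m) 1 1 ξ * (yEl (m := m) 1 1 ξ * yEl (m := m) 1 1 ξ) := by
    rw [pow_succ', pow_two]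
  rw [e3, mul_act, mul_act, one_act]
  have hww := sympForm_self (m := m + 2) (R := F) (wV (m := m) (F := F))
  have hpp := sympForm_self (m := m + 2) (R := F) (wpV (m := m) ξ)
  have hpw := Cfsg.Agent.Helper41.SS.h41_wp_w (m := m) (F := F) ξ
  have hwp := h53_w_wp (m := m) (F := F) ξ
  have s1 : (yEl (m := m) 1 1 ξ).val *ᵥ ((yEl (m := m) 1 1 ξ).val *ᵥ x) =
      x + (Cfsg.sympForm (m + 2) F x (wpV (m := m) ξ) - Cfsg.sympForm (m + 2) F x (wV (m := m)))
            • wpV (m := m) ξ +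
        (2 * Cfsg.sympForm (m + 2) F x (wpV (m := m) ξ) + Cfsg.sympForm (m + 2) F x (wV (m := m)))
            • wV (m := m) := by
    rw [h53_y_key 1 1 ξ x, h53_y_key]
    simp only [sympForm_add_left, sympForm_smul_left, hww, hpp, hpw, hwp]
    module
  rw [s1, h53_y_key]
  simp only [sympForm_add_left, sympForm_smul_left, hww, hpp, hpw, hwp]
  have hz : ∀ t : F, 2 * t = 0 := fun t => by rw [h2, zero_mul]
  have e : ∀ a b : F,
      x + (a - b) • wpV (m := m) ξ + (2 * a + b) • wV (m := m) +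
        (1 * (a + (a - b) * 0 + (2 * a + b) * -1)) • wpV (m := m) ξ +
        (1 * (b + (a - b) * 1 + (2 * a + b) * 0 + 1 * (a + (a - b) * 0 + (2 * a + b) * -1)))
          • wV (m := m) =
      x + (2 * (-b)) • wpV (m := m) ξ + (2 * a) • wV (m := m) := by
    intro a b
    module
  rw [e, hz, hz, zero_smul, zero_smul, add_zero, add_zero]

end Y

end Cfsg.Agent.Helper53.SS
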