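import Mathlib
import Cfsg.Agent.Lib.Helper87.PsuA

/-!
# SUO toolkit (S2282, helper62 server): commutator calculus of Eichler elements of `SU_n(q)`
(helper53), in the conventions of `Helper87.PsuA` (`eich hF u w a : x ↦ x + H x u • w - H x w • u
+ (a * H x u) • u`).
-/

set_option autoImplicit false

namespace Cfsg.Agent.Helper53.SUO

open Matrix Cfsg Cfsg.Agent.Helper13 Cfsg.Agent.Helper87.PsuA

variable {F : Type*} [Field F] [Fintype F] {q n : ℕ}

local notation "V" => Fin n → F
local notation "H" => Cfsg.hermForm n F q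

variable (hF : Fintype.card F = q ^ 2)

/-- the quotient of two Eichler elements with the same centre -/
theorem h53_eich_mul_inv {u w w' : V} {a a' : F} (huu : H u u = 0) (huw : H u w = 0)
    (ha : a + a ^ q + H w w = 0) (huw' : H u w' = 0) (ha' : a' + a' ^ q + H w' w' = 0) :
    eich hF u w a * (eich hF u w' a')⁻¹ = eich hF u (w - w') (a + a' ^ q + H w' w) := by
  have h2 : H u (-w') = 0 := by rw [H_neg_right hF, huw', neg_zero]
  have h3 : a' ^ q + (a' ^ q) ^ q + H (-w') (-w') = 0 := by
    rw [frob_frob hF, H_neg_left hF, H_neg_right hF]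
    linear_combination ha'
  rw [eich_inv hF huu huw' ha', eich_mul hF huu huw ha h2 h3, H_neg_left hF, sub_neg_eq_add,
    sub_eq_add_neg w w']

/-- **Commutator of two Eichler elements with the same centre**: a central transvection. -/
theorem h53_eich_comm {u w w' : V} {a a' : F} (huu : H u u = 0) (huw : H u w = 0)
    (ha : a + a ^ q + H w w = 0) (huw' : H u w' = 0) (ha' : a' + a' ^ q + H w' w' = 0) :
    eich hF u w a * eich hF u w' a' * (eich hF u w a)⁻¹ * (eich hF u w' a')⁻¹ =
      eich hF u 0 (H w w' - H w' w) := by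
  have hwu : H w u = 0 := H_symm_zero hF huw
  have hwu' : H w' u = 0 := H_symm_zero hF huw'
  have h3 : H u (w + w') = 0 := by rw [hermForm_add_right hF, huw, huw', add_zero]
  have h4 : (a + a' - H w' w) + (a + a' - H w' w) ^ q + H (w + w') (w + w') = 0 := by
    rw [frob_sub hF, frob_add hF, hermForm_conj hF, hermForm_add_left, hermForm_add_right hF,
      hermForm_add_right hF]
    linear_combination ha + ha'
  have h5 : (a' + a - H w w') + (a' + a - H w w') ^ q + H (w' + w) (w' + w) = 0 := by
    rw [frob_sub hF, frob_add hF, hermForm_conj hF, hermForm_add_left, hermForm_add_right hF,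
      hermForm_add_right hF]
    linear_combination ha + ha'
  have h6 : H u (w' + w) = 0 := by rw [hermForm_add_right hF, huw, huw', add_zero]
  have e1 : eich hF u w a * eich hF u w' a' * (eich hF u w a)⁻¹ * (eich hF u w' a')⁻¹ =
      (eich hF u w a * eich hF u w' a') * (eich hF u w' a' * eich hF u w a)⁻¹ := by group
  rw [e1, eich_mul hF huu huw ha huw' ha', eich_mul hF huu huw' ha' huw ha,
    h53_eich_mul_inv hF huu h3 h4 h6 h5]
  have e2 : w + w' - (w' + w) = 0 := by abel
  rw [e2]
  congr 1
  rw [frob_sub hF, frob_add hF, hermForm_conj hF, hermForm_add_left, hermForm_add_right hF,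
    hermForm_add_right hF]
  linear_combination ha' + ha

/-- **Conjugating by an element fixing the centre**: `[g, E(u,w,a)] = E(u, g w - w, *)`. -/
theorem h53_eich_conj_fix {u w : V} {a : F} (huu : H u u = 0) (huw : H u w = 0)
    (ha : a + a ^ q + H w w = 0) (g : ↥(Cfsg.SU n F q)) (hg : actv g u = u) :
    g * eich hF u w a * g⁻¹ * (eich hF u w a)⁻¹ =
      eich hF u (actv g w - w) (a + a ^ q + H w (actv g w)) := by
  have h1 : H u (actv g w) = 0 := by
    have := H_actv (q := q) g u w
    rw [hg] at this
    rw [this]; exact huw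
  have h2 : a + a ^ q + H (actv g w) (actv g w) = 0 := by rw [H_actv]; exact ha
  rw [eich_conj hF huu huw ha, hg, h53_eich_mul_inv hF huu h1 h2 huw ha]

/-- an Eichler element `E(e', w', c')` fixes every `u ⊥ e', w'` -/
theorem h53_eich_fix {e' w' u : V} {c' : F} (h1 : H e' e' = 0) (h2 : H e' w' = 0)
    (h3 : c' + c' ^ q + H w' w' = 0) (hue : H u e' = 0) (huw : H u w' = 0) :
    actv (eich hF e' w' c') u = u := by
  rw [eich_act hF h1 h2 h3, hue, huw]
  module

/-- **Parameter-multiplying commutator**: for `g = E(e', w', c')` fixing `u`,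
`[g, E(u,w,a)] = E(u, H(w,e') w' - H(w,w') e' + c' H(w,e') e', *)`. -/
theorem h53_eich_comm_cross {e' w' u w : V} {c' a : F} (h1 : H e' e' = 0) (h2 : H e' w' = 0)
    (h3 : c' + c' ^ q + H w' w' = 0) (hue : H u e' = 0) (huw' : H u w' = 0)
    (huu : H u u = 0) (huw : H u w = 0) (ha : a + a ^ q + H w w = 0) :
    eich hF e' w' c' * eich hF u w a * (eich hF e' w' c')⁻¹ * (eich hF u w a)⁻¹ =
      eich hF u (H w e' • w' - H w w' • e' + (c' * H w e') • e')
        (a + a ^ q + H w (actv (eich hF e' w' c') w)) := by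
  rw [h53_eich_conj_fix hF huu huw ha _ (h53_eich_fix hF h1 h2 h3 hue huw'),
    eich_act hF h1 h2 h3 w]
  congr 1
  module

end Cfsg.Agent.Helper53.SUO
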