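import Mathlib
import Cfsg.Agent.Lib.Helper62.SUO0

/-!
# SUO lemma server (S2282, helper62), piece (E3) `exists_opp` (helper53)
-/

set_option autoImplicit false
set_option linter.unusedSectionVars false
set_option linter.unusedVariables false
set_option quotPrecheck false

namespace Cfsg.Agent.Helper53.SUO

open Matrix Cfsg Cfsg.Agent.Helper13 Cfsg.Agent.Helper87.PsuA Cfsg.Agent.Helper62.SUO

section E
variable {F : Type*} [Field F] [Fintype F] {q n : ℕ} (hF : Fintype.card F = q ^ 2)
  {Hs : Subgroup ↥(Cfsg.SU n F q)}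

local notation "V" => Fin n → F
local notation "G" => ↥(Cfsg.SU n F q)
local notation "H" => Cfsg.hermForm n F q

include hF

/-- a nonzero vector is not in the radical -/
theorem h53_exists_not_perp {e : V} (he : e ≠ 0) : ∃ x : V, H x e ≠ 0 := by
  obtain ⟨i, hi⟩ := Function.ne_iff.1 he
  refine ⟨Pi.single i 1, ?_⟩
  have : H (Pi.single i 1) e = (e i) ^ q := by
    unfold Cfsg.hermForm
    rw [Finset.sum_eq_single i]
    · simp
    · intro j _ hji
      simp [Pi.single_apply, hji]
    · intro h; exact absurd (Finset.mem_univ i) h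
  rw [this]
  exact pow_ne_zero _ hi

/-- (E3) `e, v` isotropic nonzero, `v ⊥ e`: some `x` has `H x e ≠ 0`, `H x v ≠ 0` (one of
`x1`, `x2`, `x1 + x2`), then `v' = x + t • e` with `t * H e x + (t * H e x)^q = - H x x`
(`exists_trace`) -/
theorem exists_opp {e v : V} (he : e ≠ 0) (hv : v ≠ 0) (hee : H e e = 0) (hev : H e v = 0) :
    ∃ v' : V, H v' v' = 0 ∧ H v' e ≠ 0 ∧ H v' v ≠ 0 := by
  obtain ⟨x1, hx1⟩ := h53_exists_not_perp hF he
  obtain ⟨x2, hx2⟩ := h53_exists_not_perp hF hv
  -- a vector not orthogonal to both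
  obtain ⟨x, hxe, hxv⟩ : ∃ x : V, H x e ≠ 0 ∧ H x v ≠ 0 := by
    by_cases h1 : H x1 v = 0
    · by_cases h2 : H x2 e = 0
      · refine ⟨x1 + x2, ?_, ?_⟩
        · rw [hermForm_add_left, h2, add_zero]; exact hx1
        · rw [hermForm_add_left, h1, zero_add]; exact hx2
      · exact ⟨x2, h2, hx2⟩
    · exact ⟨x1, hx1, h1⟩
  have hex : H e x ≠ 0 := by
    rw [← hermForm_conj hF x e]
    exact pow_ne_zero _ hxe
  have hfix : (-(H x x)) ^ q = -(H x x) := by
    rw [frob_neg hF, hermForm_conj hF]
  obtain ⟨s, hs⟩ := Cfsg.Agent.Helper87.PsuB0.exists_trace hF (-(H x x)) hfix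
  refine ⟨x + (s / H e x) • e, ?_, ?_, ?_⟩
  · rw [hermForm_add_left, hermForm_add_right hF, hermForm_add_right hF, hermForm_smul_left,
      hermForm_smul_left, hermForm_smul_right, hermForm_smul_right, hee, mul_zero, mul_zero,
      add_zero]
    have e1 : s / H e x * H e x = s := div_mul_cancel₀ s hex
    have e2 : (s / H e x) ^ q * H x e = s ^ q := by
      rw [← hermForm_conj hF e x, ← mul_pow, e1]
    rw [e1, e2]
    linear_combination hs
  · rw [hermForm_add_left, hermForm_smul_left, hee, mul_zero, add_zero]; exact hxe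
  · rw [hermForm_add_left, hermForm_smul_left, hev, mul_zero, add_zero]; exact hxv

end E

end Cfsg.Agent.Helper53.SUO
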