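import Mathlib
import Cfsg.Agent.Lib.Helper13.SUPrim
import Cfsg.Agent.Lib.Helper87.PsuA

/-!
# SUO toolkit (S2282): the "lower" conjugate `l = h u h⁻¹` from Witt's theorem (helper53)

If `v, u v, u² v` and `p, e0, x` are independent triples with the same Gram matrix (all
isotropic, `H v (u v) = 0 = H p e0`, `H p x = H v (u² v)`) and a unit vector `d` is orthogonal to
`p, e0, x`, then some conjugate `l = h u h⁻¹` (`h ∈ SU_n`) maps `p ↦ e0 ↦ x`.
-/

set_option autoImplicit false

namespace Cfsg.Agent.Helper53.SUO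

open Matrix Cfsg Cfsg.Agent.Helper13 Cfsg.Agent.Helper87.PsuA

variable {F : Type*} [Field F] [Fintype F] {q n : ℕ}

local notation "V" => Fin n → F
local notation "H" => Cfsg.hermForm n F q

theorem h53_exists_lower (hF : Fintype.card F = q ^ 2) (u : ↥(Cfsg.SU n F q)) (v p e0 x d : V)
    (hv1 : LinearIndependent F ![v, actv u v, actv u (actv u v)])
    (hv2 : LinearIndependent F ![p, e0, x])
    (hvv : H v v = 0) (hvu : H v (actv u v) = 0)
    (hpp : H p p = 0) (hpe : H p e0 = 0) (hee : H e0 e0 = 0) (hex : H e0 x = 0) (hxx : H x x = 0)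
    (hpx : H p x = H v (actv u (actv u v)))
    (hdd : H d d = 1) (hdp : H d p = 0) (hde : H d e0 = 0) (hdx : H d x = 0) :
    ∃ h : ↥(Cfsg.SU n F q), actv (h * u * h⁻¹) p = e0 ∧ actv (h * u * h⁻¹) e0 = x ∧
      actv (h * u * h⁻¹)⁻¹ e0 = p := by
  have huv : H (actv u v) v = 0 := H_symm_zero hF hvu
  have hep : H e0 p = 0 := H_symm_zero hF hpe
  have hxe : H x e0 = 0 := H_symm_zero hF hex
  have h11 : H (actv u v) (actv u v) = 0 := by rw [H_actv]; exact hvv
  have h12 : H (actv u v) (actv u (actv u v)) = 0 := by rw [H_actv]; exact hvu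
  have h21 : H (actv u (actv u v)) (actv u v) = 0 := H_symm_zero hF h12
  have h22 : H (actv u (actv u v)) (actv u (actv u v)) = 0 := by rw [H_actv, H_actv]; exact hvv
  have h20 : H (actv u (actv u v)) v = H x p := by
    rw [← hermForm_conj hF v, ← hpx, hermForm_conj hF]
  have hG : ∀ a b : Fin 3, stdB hF n (![v, actv u v, actv u (actv u v)] a)
      (![v, actv u v, actv u (actv u v)] b) = stdB hF n (![p, e0, x] a) (![p, e0, x] b) := by
    intro a b
    simp only [stdB_apply]
    fin_cases a <;> fin_cases b <;>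
      simp [hvv, hvu, huv, hpp, hpe, hep, hee, hex, hxe, hxx, hpx, h11, h12, h21, h22, h20]
  have hey : ∀ a : Fin 3, stdB hF n d (![p, e0, x] a) = 0 := by
    intro a
    simp only [stdB_apply]
    fin_cases a
    · simpa using H_symm_zero hF hdp
    · simpa using H_symm_zero hF hde
    · simpa using H_symm_zero hF hdx
  obtain ⟨g, hg⟩ := exists_SU_frame hF _ _ hv1 hv2 hG d (by rw [stdB_apply]; exact hdd) hey
  have g0 : actv g v = p := by simpa using hg 0
  have g1 : actv g (actv u v) = e0 := by simpa using hg 1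
  have g2 : actv g (actv u (actv u v)) = x := by simpa using hg 2
  have i0 : actv g⁻¹ p = v := actv_inv g v p g0
  have i1 : actv g⁻¹ e0 = actv u v := actv_inv g _ e0 g1
  have l0 : actv (g * u * g⁻¹) p = e0 := by rw [actv_mul, actv_mul, i0, g1]
  have l1 : actv (g * u * g⁻¹) e0 = x := by rw [actv_mul, actv_mul, i1, g2]
  exact ⟨g, l0, l1, actv_inv _ p e0 l0⟩

end Cfsg.Agent.Helper53.SUO
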