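import Mathlib
import Cfsg.Agent.Lib.Helper62.SUO0

/-!
# SUO lemma server (S2282, helper62), piece (U1) `superdiag_mul` (helper53)
-/

set_option autoImplicit false
set_option linter.unusedSectionVars false
set_option linter.unusedVariables false
set_option quotPrecheck false

namespace Cfsg.Agent.Helper53.SUO

open Matrix Cfsg Cfsg.Agent.Helper13 Cfsg.Agent.Helper87.PsuA Cfsg.Agent.Helper62.SUO

section U
variable {F : Type*} [Field F] [Fintype F] {q n : ℕ} (hF : Fintype.card F = q ^ 2)
  {b : Fin n → Fin n → F}

local notation "V" => Fin n → F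
local notation "G" => ↥(Cfsg.SU n F q)
local notation "H" => Cfsg.hermForm n F q

include hF

/-- (U1) `rhoM_mul`, `mem_Usub`: superdiagonal entries add -/
theorem superdiag_mul (hb : HB q b) {g h : G} (hg : g ∈ Usub hb) (hh : h ∈ Usub hb)
    (i j : Fin n) (hij : i.val + 1 = j.val) :
    co q b (actv (g * h) (b j)) i = co q b (actv g (b j)) i + co q b (actv h (b j)) i := by
  have hg' := (mem_Usub_iff hb).1 hg
  have hh' := (mem_Usub_iff hb).1 hh
  have hne : i ≠ j := by
    intro e; rw [e] at hij; omega
  rw [← rhoM_apply, ← rhoM_apply, ← rhoM_apply, rhoM_mul hb, Matrix.mul_apply,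
    Finset.sum_eq_add i j hne]
  · have e1 : rhoM q b g i i = 1 := by
      rw [rhoM_apply, hg' i i le_rfl, if_pos rfl]
    have e2 : rhoM q b h j j = 1 := by
      rw [rhoM_apply, hh' j j le_rfl, if_pos rfl]
    rw [e1, e2, one_mul, mul_one, add_comm]
  · intro k _ hk
    by_cases hki : k ≤ i
    · have : rhoM q b g i k = 0 := by
        rw [rhoM_apply, hg' i k hki, if_neg (fun e => hk.1 e.symm)]
      rw [this, zero_mul]
    · have hjk : j ≤ k := by
        rw [Fin.le_def]
        have h1 : i.val < k.val := by
          rw [not_le, Fin.lt_def] at hki; exact hki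
        omega
      have : rhoM q b h k j = 0 := by
        rw [rhoM_apply, hh' k j hjk, if_neg hk.2]
      rw [this, mul_zero]
  · intro hi; exact absurd (Finset.mem_univ i) hi
  · intro hj; exact absurd (Finset.mem_univ j) hj

end U

end Cfsg.Agent.Helper53.SUO
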