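import Cfsg.Agent.Lib.Helper53.Soft1

/-!
Soft subgroups: the relative notion and the two basic lemmas
(minimal overgroup; the second normalizer has index `p`).
-/

set_option autoImplicit false
open scoped Pointwise commutatorElement

namespace Cfsg.Agent.Helper53.Soft

variable {Q : Type*} [Group Q]

/-- `E` is soft in `K` modulo `Z`: abelian mod `Z`, self-centralizing in `K` mod `Z`, of index `p`
in its normalizer in `K`. -/
structure RelSoft (p : ℕ) (K Z E : Subgroup Q) : Prop where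
  hZE : Z ≤ E
  hEK : E ≤ K
  hab : ∀ a ∈ E, ∀ b ∈ E, ⁅a, b⁆ ∈ Z
  hcent : ∀ g ∈ K, (∀ e ∈ E, ⁅g, e⁆ ∈ Z) → g ∈ E
  hnorm : E.relIndex (nIn K E) = p

/-- every subgroup of `K` strictly containing `E` contains `N_K(E)`. -/
theorem nIn_le_of_lt {p : ℕ} [hp : Fact p.Prime] [Finite Q] (hQ : IsPGroup p Q) {K E H : Subgroup Q}
    (hnorm : E.relIndex (nIn K E) = p) (hEH : E < H) (hHK : H ≤ K) : nIn K E ≤ H := by
  have h1 : E < nIn H E := lt_nIn_of_lt hQ hEH
  have h2 : nIn H E ≤ nIn K E := nIn_mono hHK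
  have h3 := eq_of_relIndex_prime hp.out h1.le h2 hnorm (not_le_of_gt h1)
  exact h3.trans (nIn_le H E)

theorem relIndex_eq_of_card_eq [Finite Q] {A B N : Subgroup Q} (hA : A ≤ N) (hB : B ≤ N)
    (hc : Nat.card A = Nat.card B) : A.relIndex N = B.relIndex N := by
  have h1 := card_mul_relIndex hA
  have h2 := card_mul_relIndex hB
  rw [hc] at h1
  have hpos : 0 < Nat.card B := Nat.card_pos
  exact Nat.eq_of_mul_eq_mul_left hpos (h1.trans h2.symm)

theorem card_filter_mem [Fintype Q] (H : Subgroup Q) [DecidablePred (· ∈ H)] :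
    (Finset.univ.filter (· ∈ H)).card = Nat.card H := by
  rw [Nat.card_eq_fintype_card, Fintype.card_subtype]

theorem card_filter_mem_not_mem [Fintype Q] (A B : Subgroup Q) [DecidablePred (· ∈ A)]
    [DecidablePred (· ∈ B)] (h : B ≤ A) :
    (Finset.univ.filter (fun y => y ∈ A ∧ y ∉ B)).card = Nat.card A - Nat.card B := by
  classical
  have : Finset.univ.filter (fun y => y ∈ A ∧ y ∉ B) =
      Finset.univ.filter (· ∈ A) \ Finset.univ.filter (· ∈ B) := by
    ext y; simp
  rw [this, Finset.card_sdiff_of_subset, card_filter_mem, card_filter_mem]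
  intro y hy
  simp only [Finset.mem_filter, Finset.mem_univ, true_and] at hy ⊢
  exact h hy

/-- the normalizer of the normalizer of a soft subgroup has index `p` over it. -/
theorem lemmaB {p : ℕ} [hp : Fact p.Prime] [Finite Q] (hQ : IsPGroup p Q) {K Z E : Subgroup Q}
    [Z.Normal] (hs : RelSoft p K Z E) (hne : nIn K E ≠ K) :
    (nIn K E).relIndex (nIn K (nIn K E)) = p := by
  classical
  have : Fintype Q := Fintype.ofFinite Q
  set N1 := nIn K E with hN1
  set N2 := nIn K N1 with hN2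
  have hN1K : N1 ≤ K := nIn_le K E
  have hEN1 : E ≤ N1 := le_nIn hs.hEK
  have hN1lt : N1 < K := lt_of_le_of_ne hN1K hne
  have hN12 : N1 < N2 := lt_nIn_of_lt hQ hN1lt
  have hN2K : N2 ≤ K := nIn_le K N1
  have hN2norm : ∀ u ∈ N2, cj u N1 = N1 := fun u hu => cj_eq_self_iff.mpr (mem_nIn.mp hu).1
  set Zs := secCent N1 Z (N1 : Set Q) with hZs
  have hZsE : Zs ≤ E := by
    intro g hg
    exact hs.hcent g (hN1K hg.1) (fun e he => hg.2 e (hEN1 he))
  have hZs_cj : ∀ u ∈ N2, cj u Zs = Zs := fun u hu => cj_secCent_self (mem_nIn.mp hu).1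
  have hZs_le : ∀ u ∈ N2, Zs ≤ cj u E := by
    intro u hu
    rw [← hZs_cj u hu]
    exact cj_mono hZsE
  have hcjN1 : ∀ u ∈ N2, cj u E ≤ N1 := by
    intro u hu
    rw [← hN2norm u hu]; exact cj_mono hEN1
  have hab_cj : ∀ u : Q, ∀ a ∈ cj u E, ∀ b ∈ cj u E, ⁅a, b⁆ ∈ Z := by
    intro u a ha b hb
    rw [mem_cj] at ha hb
    have h1 := hs.hab _ ha _ hb
    have h2 := Subgroup.Normal.conj_mem ‹Z.Normal› _ h1 u
    have e : u * ⁅u⁻¹ * a * u, u⁻¹ * b * u⁆ * u⁻¹ = ⁅a, b⁆ := by
      simp only [commutatorElement_def]; group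
    rwa [e] at h2
  have hidx : ∀ u ∈ N2, (cj u E).relIndex N1 = p := by
    intro u hu
    rw [relIndex_eq_of_card_eq (hcjN1 u hu) hEN1 (card_cj u E)]
    exact hs.hnorm
  have hmeet : ∀ u ∈ N2, ∀ v ∈ N2, cj u E ≠ cj v E →
      ∀ y, y ∈ cj u E → y ∈ cj v E → y ∈ Zs := by
    intro u hu v hv hne' y hyu hyv
    have hjoin : N1 ≤ cj u E ⊔ cj v E := by
      apply eq_of_relIndex_prime hp.out le_sup_left (sup_le (hcjN1 u hu) (hcjN1 v hv)) (hidx u hu)
      intro hle
      have hvu : cj v E ≤ cj u E := le_sup_right.trans hle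
      exact hne' (eq_of_le_of_card_eq hvu (by rw [card_cj, card_cj])).symm
    refine ⟨hcjN1 u hu hyu, fun a ha => ?_⟩
    have hsub : cj u E ⊔ cj v E ≤ secCent N1 Z {y} := by
      apply sup_le
      · intro a ha
        exact ⟨hcjN1 u hu ha, fun b hb => by
          rw [Set.mem_singleton_iff.mp hb]; exact hab_cj u a ha y hyu⟩
      · intro a ha
        exact ⟨hcjN1 v hv ha, fun b hb => by
          rw [Set.mem_singleton_iff.mp hb]; exact hab_cj v a ha y hyv⟩
    have h1 : ⁅a, y⁆ ∈ Z := (hsub (hjoin ha)).2 y rfl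
    rw [comm_swap]
    exact Z.inv_mem h1
  -- `Zs ≠ E`
  obtain ⟨g, hgN2, hgN1⟩ := SetLike.exists_of_lt hN12
  have hgE : cj g E ≠ E := by
    intro h
    exact hgN1 (mem_nIn.mpr ⟨cj_eq_self_iff.mp h, hN2K hgN2⟩)
  have hZsne : ¬ E ≤ Zs := by
    intro h
    have h1 : E ≤ cj g E := h.trans (hZs_le g hgN2)
    exact hgE (eq_of_le_of_card_eq h1 (card_cj g E).symm).symm
  -- numbers
  set e := Nat.card E with he
  set z := Nat.card Zs with hz
  set n1 := Nat.card N1 with hn1
  set n2 := Nat.card N2 with hn2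
  have hn1e : e * p = n1 := by
    have := card_mul_relIndex hEN1
    rwa [hs.hnorm] at this
  have hepos : 0 < e := Nat.card_pos
  have hzpos : 0 < z := Nat.card_pos
  have hn1pos : 0 < n1 := Nat.card_pos
  have hze : 2 * z ≤ e := by
    have h1 := card_mul_relIndex hZsE
    have h2 : Zs.relIndex E ≠ 1 := by rw [Ne, Subgroup.relIndex_eq_one]; exact hZsne
    have h3 : Zs.relIndex E ≠ 0 := by
      intro h0; rw [h0, mul_zero] at h1; omega
    have h4 : 2 ≤ Zs.relIndex E := by omega
    calc 2 * z = z * 2 := by ring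
      _ ≤ z * Zs.relIndex E := Nat.mul_le_mul_left _ h4
      _ = e := h1
  -- the double count
  let U : Finset Q := Finset.univ.filter (· ∈ N2)
  let Y : Finset Q := Finset.univ.filter (fun y => y ∈ N1 ∧ y ∉ Zs)
  have hcount := Finset.sum_card_bipartiteAbove_eq_sum_card_bipartiteBelow
    (s := U) (t := Y) (fun u y => y ∈ cj u E)
  have hL : ∀ u ∈ U, (Finset.bipartiteAbove (fun u y => y ∈ cj u E) Y u).card = e - z := by
    intro u hu
    have huN2 : u ∈ N2 := by simpa [U] using hu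
    have : Finset.bipartiteAbove (fun u y => y ∈ cj u E) Y u =
        Finset.univ.filter (fun y => y ∈ cj u E ∧ y ∉ Zs) := by
      ext y
      simp only [Finset.bipartiteAbove, Y, Finset.mem_filter, Finset.mem_univ, true_and]
      constructor
      · rintro ⟨⟨_, h2⟩, h3⟩; exact ⟨h3, h2⟩
      · rintro ⟨h1, h2⟩; exact ⟨⟨hcjN1 u huN2 h1, h2⟩, h1⟩
    rw [this, card_filter_mem_not_mem _ _ (hZs_le u huN2), card_cj]
  have hR : ∀ y ∈ Y, (Finset.bipartiteBelow (fun u y => y ∈ cj u E) U y).card ≤ n1 := by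
    intro y hy
    have hyY : y ∈ N1 ∧ y ∉ Zs := by simpa [Y] using hy
    set S := Finset.bipartiteBelow (fun u y => y ∈ cj u E) U y with hS
    rcases S.eq_empty_or_nonempty with h0 | ⟨u0, hu0⟩
    · rw [h0]; simp
    · have hmemS : ∀ u, u ∈ S ↔ u ∈ N2 ∧ y ∈ cj u E := by
        intro u
        simp only [hS, Finset.bipartiteBelow, U, Finset.mem_filter, Finset.mem_univ, true_and]
      have hu0' := (hmemS u0).mp hu0
      rw [hn1, ← card_filter_mem N1]
      apply Finset.card_le_card_of_injOn (fun u => u0⁻¹ * u)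
      · intro u hu
        have hu' := (hmemS u).mp hu
        have heq : cj u E = cj u0 E := by
          by_contra hne'
          exact hyY.2 (hmeet u hu'.1 u0 hu0'.1 hne' y hu'.2 hu0'.2)
        have h1 : u0⁻¹ * u ∈ Subgroup.normalizer (E : Set Q) := cj_eq_cj_iff.mp heq
        have h2 : u0⁻¹ * u ∈ K := hN2K (N2.mul_mem (N2.inv_mem hu0'.1) hu'.1)
        simp only [Finset.coe_filter, Finset.mem_univ, true_and, Set.mem_ofPred_eq]
        exact mem_nIn.mpr ⟨h1, h2⟩
      · intro a _ b _ hab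
        exact mul_left_cancel hab
  have hUcard : U.card = n2 := card_filter_mem N2
  have hYcard : Y.card = n1 - z := card_filter_mem_not_mem N1 Zs (hZsE.trans hEN1)
  have hineq : n2 * (e - z) ≤ (n1 - z) * n1 := by
    calc n2 * (e - z) = ∑ u ∈ U, (e - z) := by
          rw [Finset.sum_const, smul_eq_mul, hUcard]
      _ = ∑ u ∈ U, (Finset.bipartiteAbove (fun u y => y ∈ cj u E) Y u).card :=
          (Finset.sum_congr rfl hL).symm
      _ = ∑ y ∈ Y, (Finset.bipartiteBelow (fun u y => y ∈ cj u E) U y).card := hcount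
      _ ≤ ∑ y ∈ Y, n1 := Finset.sum_le_sum hR
      _ = (n1 - z) * n1 := by rw [Finset.sum_const, smul_eq_mul, hYcard]
  -- the index is a power of `p`
  obtain ⟨k, hk⟩ := (hQ.to_subgroup N2).index (N1.subgroupOf N2)
  have hr : N1.relIndex N2 = p ^ k := hk
  have hn2 : n1 * p ^ k = n2 := by
    have := card_mul_relIndex hN12.le
    rwa [hr] at this
  have hk0 : k ≠ 0 := by
    rintro rfl
    rw [pow_zero] at hr
    exact not_le_of_gt hN12 (Subgroup.relIndex_eq_one.mp hr)
  have hk1 : k < 2 := by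
    by_contra hk2
    push Not at hk2
    have hp2 : 2 ≤ p := hp.out.two_le
    have hpk : p * p ≤ p ^ k := by
      calc p * p = p ^ 2 := by ring
        _ ≤ p ^ k := Nat.pow_le_pow_right hp.out.pos hk2
    -- n1 * p^k * (e - z) ≤ (n1 - z) * n1 < n1 * n1
    rw [← hn2] at hineq
    have h1 : p ^ k * (e - z) ≤ n1 - z := by
      have : n1 * (p ^ k * (e - z)) ≤ n1 * (n1 - z) := by
        calc n1 * (p ^ k * (e - z)) = n1 * p ^ k * (e - z) := by ring
          _ ≤ (n1 - z) * n1 := hineq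
          _ = n1 * (n1 - z) := by ring
      exact Nat.le_of_mul_le_mul_left this hn1pos
    have h2 : e ≤ 2 * (e - z) := by omega
    have h3 : p ^ k * e ≤ 2 * (p ^ k * (e - z)) := by
      calc p ^ k * e ≤ p ^ k * (2 * (e - z)) := Nat.mul_le_mul_left _ h2
        _ = 2 * (p ^ k * (e - z)) := by ring
    have h4 : p ^ k * e < 2 * (e * p) := by
      have : n1 - z < n1 := by omega
      rw [hn1e]; omega
    have h5 : p * p * e < 2 * p * e := by
      calc p * p * e ≤ p ^ k * e := Nat.mul_le_mul_right _ hpk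
        _ < 2 * (e * p) := h4
        _ = 2 * p * e := by ring
    have h6 : p * p < 2 * p := Nat.lt_of_mul_lt_mul_right h5
    nlinarith
  have : k = 1 := by omega
  rw [hr, this, pow_one]

end Cfsg.Agent.Helper53.Soft
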