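import Cfsg.Agent.Lib.Helper53.Soft2

/-!
Soft subgroups: the overgroups form the normalizer tower (all steps of index `p`).
-/

set_option autoImplicit false
open scoped Pointwise commutatorElement

namespace Cfsg.Agent.Helper53.Soft

variable {Q : Type*} [Group Q]

theorem le_secCent_of_normal (K Z : Subgroup Q) [Z.Normal] (hZK : Z ≤ K) (A : Set Q) :
    Z ≤ secCent K Z A := by
  intro z hz
  refine ⟨hZK hz, fun a _ => ?_⟩
  rw [commutatorElement_def]
  have h1 : a * z⁻¹ * a⁻¹ ∈ Z := Subgroup.Normal.conj_mem ‹Z.Normal› _ (Z.inv_mem hz) a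
  have : z * a * z⁻¹ * a⁻¹ = z * (a * z⁻¹ * a⁻¹) := by group
  rw [this]
  exact Z.mul_mem hz h1

/-- elements of `K` centralizing `E` modulo a subgroup of `E` normalize `E`. -/
theorem secCent_le_normalizer {K Z E : Subgroup Q} [Z.Normal] (hZE : Z ≤ E) :
    secCent K Z (E : Set Q) ≤ Subgroup.normalizer (E : Set Q) := by
  have key : ∀ g ∈ secCent K Z (E : Set Q), ∀ h ∈ E, g * h * g⁻¹ ∈ E := by
    intro g hg h hh
    have h1 : ⁅g, h⁆ ∈ E := hZE (hg.2 h hh)
    have : g * h * g⁻¹ = ⁅g, h⁆ * h := by rw [commutatorElement_def]; group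
    rw [this]
    exact E.mul_mem h1 hh
  intro g hg
  rw [Subgroup.mem_normalizer_iff]
  intro h
  constructor
  · exact key g hg h
  · intro hh
    have := key g⁻¹ (inv_mem hg) _ hh
    have e : g⁻¹ * (g * h * g⁻¹) * g⁻¹⁻¹ = h := by group
    rwa [e] at this

/-- if `N_K(E)` centralizes `E` modulo `Z₂`, then `N_K(E)` is abelian modulo `Z₂`. -/
theorem comm_mem_of_normalizer_centralizes {p : ℕ} (hp : p.Prime) {K Z2 E : Subgroup Q} [Z2.Normal]
    (hEK : E ≤ K) (hnorm : E.relIndex (nIn K E) = p)
    (hab : ∀ a ∈ E, ∀ b ∈ E, ⁅a, b⁆ ∈ Z2)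
    (hC : ∀ g ∈ nIn K E, ∀ e ∈ E, ⁅g, e⁆ ∈ Z2) {g0 : Q} (hg0 : g0 ∈ nIn K E) (hg0E : g0 ∉ E) :
    ∀ a ∈ nIn K E, ∀ b ∈ nIn K E, ⁅a, b⁆ ∈ Z2 := by
  set N1 := nIn K E with hN1
  have hEN1 : E ≤ N1 := le_nIn hEK
  have hgen : N1 ≤ E ⊔ Subgroup.zpowers g0 := by
    apply eq_of_relIndex_prime hp le_sup_left (sup_le hEN1 (by simpa using hg0)) hnorm
    intro hle
    exact hg0E (hle (le_sup_right (a := E) (Subgroup.mem_zpowers g0)))
  -- everything in N1 commutes with g0 modulo Z2
  have h1 : N1 ≤ secCent ⊤ Z2 {g0} := by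
    refine hgen.trans (sup_le ?_ ?_)
    · intro e he
      refine ⟨Subgroup.mem_top _, fun b hb => ?_⟩
      rw [Set.mem_singleton_iff.mp hb, comm_swap]
      exact Z2.inv_mem (hC g0 hg0 e he)
    · rw [Subgroup.zpowers_le]
      refine ⟨Subgroup.mem_top _, fun b hb => ?_⟩
      rw [Set.mem_singleton_iff.mp hb]
      simp [commutatorElement_def]
  -- the centre of N1 modulo Z2 contains E and g0
  have h2 : N1 ≤ secCent ⊤ Z2 (N1 : Set Q) := by
    refine hgen.trans (sup_le ?_ ?_)
    · intro e he
      refine ⟨Subgroup.mem_top _, fun b hb => ?_⟩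
      rw [comm_swap]
      exact Z2.inv_mem (hC b hb e he)
    · rw [Subgroup.zpowers_le]
      refine ⟨Subgroup.mem_top _, fun b hb => ?_⟩
      rw [comm_swap]
      exact Z2.inv_mem ((h1 hb).2 g0 rfl)
  intro a ha b hb
  exact (h2 ha).2 b hb

theorem index_ne_one_of_sq_le {p : ℕ} (hp : p.Prime) {E : Subgroup Q} (h : p ^ 2 ≤ E.index) :
    E ≠ ⊤ := by
  rintro rfl
  rw [Subgroup.index_top] at h
  have := hp.two_le
  nlinarith

/-- the overgroups of a soft subgroup form a chain, with normalizers of index `p`. -/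
theorem claim1 {p : ℕ} [hp : Fact p.Prime] [Finite Q] (hQ : IsPGroup p Q) :
    ∀ (n : ℕ) (Z E : Subgroup Q) [Z.Normal], Z.index ≤ n → RelSoft p ⊤ Z E → p ^ 2 ≤ E.index →
      (∀ K L : Subgroup Q, E ≤ K → E ≤ L → K ≤ L ∨ L ≤ K) ∧
      (∀ K : Subgroup Q, E ≤ K → K ≠ ⊤ → K.relIndex (Subgroup.normalizer (K : Set Q)) = p) := by
  intro n
  induction n with
  | zero =>
    intro Z E _ hZ
    exact absurd (Nat.le_zero.mp hZ) Subgroup.index_ne_zero_of_finite
  | succ n ih =>
    intro Z E _ hZ hs hidx
    have hEtop : E ≠ ⊤ := index_ne_one_of_sq_le hp.out hidx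
    have hZlt : Z < ⊤ := lt_of_le_of_lt hs.hZE (lt_top_iff_ne_top.mpr hEtop)
    set Z2 := secCent ⊤ Z ((⊤ : Subgroup Q) : Set Q) with hZ2
    have hZZ2 : Z ≤ Z2 := le_secCent_of_normal ⊤ Z le_top _
    have hZ2lt : Z < Z2 := by
      obtain ⟨g, hg, hgZ⟩ := exists_mem_secCent_not_mem hQ hZlt
      exact lt_of_le_of_ne hZZ2 (fun h => hgZ (h ▸ hg))
    have hZ2idx : Z2.index ≤ n := by
      have := Subgroup.index_strictAnti hZ2lt
      omega
    have hZ2E : Z2 ≤ E := by
      intro g hg
      exact hs.hcent g (Subgroup.mem_top _) (fun e _ => hg.2 e (Subgroup.mem_top _))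
    set Cs := secCent ⊤ Z2 (E : Set Q) with hCs
    have hECs : E ≤ Cs := by
      intro a ha
      exact ⟨Subgroup.mem_top _, fun b hb => hZZ2 (hs.hab a ha b hb)⟩
    have hCsN : Cs ≤ nIn ⊤ E := by
      rw [nIn_top]; exact secCent_le_normalizer hZ2E
    by_cases hC : Cs ≤ E
    · -- `E` is soft modulo `Z2`
      have hs2 : RelSoft p ⊤ Z2 E :=
        { hZE := hZ2E
          hEK := le_top
          hab := fun a ha b hb => hZZ2 (hs.hab a ha b hb)
          hcent := fun g _ hg => hC ⟨Subgroup.mem_top _, hg⟩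
          hnorm := hs.hnorm }
      exact ih Z2 E hZ2idx hs2 hidx
    · -- `N_1` is soft modulo `Z2`
      set N1 := nIn ⊤ E with hN1
      have hEN1 : E ≤ N1 := le_nIn le_top
      have hN1Cs : N1 ≤ Cs := eq_of_relIndex_prime hp.out hECs hCsN hs.hnorm hC
      obtain ⟨g0, hg0, hg0E⟩ := SetLike.not_le_iff_exists.mp hC
      have hN1ne : N1 ≠ ⊤ := by
        intro h
        have h1 := Subgroup.relIndex_mul_index hEN1
        rw [hs.hnorm, h, Subgroup.index_top, mul_one] at h1
        rw [← h1] at hidx
        have := hp.out.two_le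
        nlinarith
      have hB := lemmaB hQ hs hN1ne
      have hab1 := comm_mem_of_normalizer_centralizes hp.out (le_top : E ≤ ⊤) hs.hnorm
        (fun a ha b hb => hZZ2 (hs.hab a ha b hb)) (fun g hg e he => (hN1Cs hg).2 e he)
        (hCsN hg0) hg0E
      have hs1 : RelSoft p ⊤ Z2 N1 :=
        { hZE := hZ2E.trans hEN1
          hEK := le_top
          hab := hab1
          hcent := fun g _ hg => hCsN ⟨Subgroup.mem_top _, fun e he => hg e (hEN1 he)⟩
          hnorm := hB }
      have hA : ∀ K : Subgroup Q, E ≤ K → K ≠ E → N1 ≤ K := by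
        intro K hEK hKE
        exact nIn_le_of_lt hQ hs.hnorm (lt_of_le_of_ne hEK (Ne.symm hKE)) le_top
      have hidx1 : p * N1.index = E.index := by
        have h1 := Subgroup.relIndex_mul_index hEN1
        rwa [hs.hnorm] at h1
      by_cases hbig : p ^ 2 ≤ N1.index
      · obtain ⟨hch, hno⟩ := ih Z2 N1 hZ2idx hs1 hbig
        refine ⟨fun K L hK hL => ?_, fun K hK hKtop => ?_⟩
        · by_cases hKE : K = E
          · left; rw [hKE]; exact hL
          · by_cases hLE : L = E
            · right; rw [hLE]; exact hK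
            · exact hch K L (hA K hK hKE) (hA L hL hLE)
        · by_cases hKE : K = E
          · rw [hKE, ← nIn_top]; exact hs.hnorm
          · exact hno K (hA K hK hKE) hKtop
      · -- `N1` has index `p`
        have hN1idx : N1.index = p := by
          obtain ⟨j, hj⟩ := hQ.index N1
          rw [hj] at hbig hidx1 ⊢
          have hj0 : j ≠ 0 := by
            rintro rfl
            rw [pow_zero, mul_one] at hidx1
            rw [← hidx1] at hidx
            have := hp.out.two_le
            nlinarith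
          have hj2 : j < 2 := by
            by_contra h
            push Not at h
            exact hbig (Nat.pow_le_pow_right hp.out.pos h)
          have : j = 1 := by omega
          rw [this, pow_one]
        have hmax : ∀ K : Subgroup Q, N1 ≤ K → K = N1 ∨ K = ⊤ := by
          intro K hK
          have h1 := Subgroup.relIndex_mul_index hK
          rw [hN1idx] at h1
          have h2 : K.index ∣ p := Dvd.intro_left _ h1
          rcases (Nat.dvd_prime hp.out).mp h2 with h3 | h3
          · right; exact Subgroup.index_eq_one.mp h3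
          · left
            rw [h3] at h1
            have h4 : N1.relIndex K = 1 := by
              have hp0 : 0 < p := hp.out.pos
              exact Nat.eq_of_mul_eq_mul_right hp0 (by rw [h1, one_mul])
            exact le_antisymm (Subgroup.relIndex_eq_one.mp h4) hK
        refine ⟨fun K L hK hL => ?_, fun K hK hKtop => ?_⟩
        · by_cases hKE : K = E
          · left; rw [hKE]; exact hL
          · by_cases hLE : L = E
            · right; rw [hLE]; exact hK
            · rcases hmax K (hA K hK hKE) with h | h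
              · left; rw [h]; exact hA L hL hLE
              · right; rw [h]; exact le_top
        · by_cases hKE : K = E
          · rw [hKE, ← nIn_top]; exact hs.hnorm
          · rcases hmax K (hA K hK hKE) with h | h
            · rw [h, ← nIn_top]; exact hB
            · exact absurd h hKtop

end Cfsg.Agent.Helper53.Soft
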