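import Cfsg.Agent.Lib.Helper53.Soft3

/-!
Soft subgroups: the bound on the nilpotency class of a member of the tower which is generated by
two conjugates of the soft subgroup.
-/

set_option autoImplicit false
open scoped Pointwise commutatorElement

namespace Cfsg.Agent.Helper53.Soft

variable {Q : Type*} [Group Q]

theorem hab_cj {Z E : Subgroup Q} [Z.Normal] (hab : ∀ a ∈ E, ∀ b ∈ E, ⁅a, b⁆ ∈ Z) (u : Q) :
    ∀ a ∈ cj u E, ∀ b ∈ cj u E, ⁅a, b⁆ ∈ Z := by
  intro a ha b hb
  rw [mem_cj] at ha hb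
  have h1 := hab _ ha _ hb
  have h2 := Subgroup.Normal.conj_mem ‹Z.Normal› _ h1 u
  have e : u * ⁅u⁻¹ * a * u, u⁻¹ * b * u⁆ * u⁻¹ = ⁅a, b⁆ := by
    simp only [commutatorElement_def]; group
  rwa [e] at h2

/-- a normal subgroup of prime index contains the commutator subgroup (relative version). -/
theorem commutator_le_of_relIndex_prime {p : ℕ} [hp : Fact p.Prime] {E K : Subgroup Q} (hEK : E ≤ K)
    (hn : K ≤ Subgroup.normalizer (E : Set Q)) (hidx : E.relIndex K = p) : ⁅K, K⁆ ≤ E := by
  haveI : (E.subgroupOf K).Normal := (Subgroup.normal_subgroupOf_iff_le_normalizer hEK).mpr hn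
  have hcard : Nat.card (K ⧸ E.subgroupOf K) = p := hidx
  haveI : IsCyclic (K ⧸ E.subgroupOf K) := isCyclic_of_prime_card hcard
  have hcomm : IsMulCommutative (K ⧸ E.subgroupOf K) := inferInstance
  have h1 : _root_.commutator K ≤ E.subgroupOf K :=
    Subgroup.Normal.quotient_commutative_iff_commutator_le.mp hcomm
  rw [← Subgroup.map_subtype_commutator]
  intro x hx
  obtain ⟨y, hy, rfl⟩ := Subgroup.mem_map.mp hx
  exact Subgroup.mem_subgroupOf.mp (h1 hy)

/-- the intersection of `E` and a conjugate generating `K` together with it is central mod `Z`. -/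
theorem inf_cj_le_secCent {K Z E : Subgroup Q} [Z.Normal] (hab : ∀ a ∈ E, ∀ b ∈ E, ⁅a, b⁆ ∈ Z)
    (hEK : E ≤ K) (h : Q) (hgen : E ⊔ cj h E = K) :
    E ⊓ cj h E ≤ secCent K Z (K : Set Q) := by
  intro y hy
  obtain ⟨hy1, hy2⟩ := Subgroup.mem_inf.mp hy
  refine ⟨hEK hy1, fun a ha => ?_⟩
  have hsub : E ⊔ cj h E ≤ secCent ⊤ Z {y} := by
    apply sup_le
    · intro a ha
      exact ⟨Subgroup.mem_top _, fun b hb => by
        rw [Set.mem_singleton_iff.mp hb]; exact hab a ha y hy1⟩
    · intro a ha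
      exact ⟨Subgroup.mem_top _, fun b hb => by
        rw [Set.mem_singleton_iff.mp hb]; exact hab_cj hab h a ha y hy2⟩
  have ha' : a ∈ E ⊔ cj h E := by rw [hgen]; exact ha
  have h1 : ⁅a, y⁆ ∈ Z := (hsub ha').2 y rfl
  rw [comm_swap]
  exact Z.inv_mem h1

theorem commutator_secCent_le (K Z : Subgroup Q) [Z.Normal] :
    ⁅secCent K Z (K : Set Q), K⁆ ≤ Z := by
  rw [Subgroup.commutator_le]
  intro g hg a ha
  exact hg.2 a ha

/-- if `K` is generated by a soft subgroup `E` of index `p ^ (n + 1)` and one conjugate of `E`,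
then the `(n + 2)`-th term of the lower central series of `K` lies in `Z`. -/
theorem class_bound {p : ℕ} [hp : Fact p.Prime] [Finite Q] (hQ : IsPGroup p Q) (K : Subgroup Q)
    [K.Normal] (h : Q) :
    ∀ (n : ℕ) (Z E : Subgroup Q) [Z.Normal], RelSoft p K Z E → E ⊔ cj h E = K →
      E.relIndex K = p ^ (n + 1) → K.lowerCentralSeries (n + 2) ≤ Z := by
  intro n
  induction n with
  | zero =>
    intro Z E _ hs hgen hidx
    rw [zero_add, pow_one] at hidx
    -- `E` and its conjugate are normal in `K`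
    have hKn : K ≤ nIn K E := by
      have h1 := Subgroup.relIndex_mul_relIndex E (nIn K E) K (le_nIn hs.hEK) (nIn_le K E)
      rw [hs.hnorm, hidx] at h1
      have h2 : (nIn K E).relIndex K = 1 := by
        have hp0 : 0 < p := hp.out.pos
        exact Nat.eq_of_mul_eq_mul_left hp0 (by rw [h1, mul_one])
      exact Subgroup.relIndex_eq_one.mp h2
    have hKnE : K ≤ Subgroup.normalizer (E : Set Q) := hKn.trans inf_le_left
    have hcjK : cj h K = K := cj_normal h K
    have hcjEK : cj h E ≤ K := by rw [← hcjK]; exact cj_mono hs.hEK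
    have hKncj : K ≤ Subgroup.normalizer ((cj h E : Subgroup Q) : Set Q) := by
      rw [normalizer_cj, ← hcjK]
      exact cj_mono hKnE
    have hidx' : (cj h E).relIndex K = p := by
      rw [relIndex_eq_of_card_eq hcjEK hs.hEK (card_cj h E)]; exact hidx
    have h1 : ⁅K, K⁆ ≤ E ⊓ cj h E :=
      le_inf (commutator_le_of_relIndex_prime hs.hEK hKnE hidx)
        (commutator_le_of_relIndex_prime hcjEK hKncj hidx')
    have h2 : ⁅K, K⁆ ≤ secCent K Z (K : Set Q) :=
      h1.trans (inf_cj_le_secCent hs.hab hs.hEK h hgen)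
    show ⁅⁅K, K⁆, K⁆ ≤ Z
    exact (Subgroup.commutator_mono h2 le_rfl).trans (commutator_secCent_le K Z)
  | succ n ih =>
    intro Z E _ hs hgen hidx
    set Z2 := secCent K Z (K : Set Q) with hZ2
    have hZZ2 : Z ≤ Z2 := le_secCent_of_normal K Z (hs.hZE.trans hs.hEK) _
    have hZ2E : Z2 ≤ E := fun g hg => hs.hcent g hg.1 (fun e he => hg.2 e (hs.hEK he))
    have hinf : E ⊓ cj h E ≤ Z2 := inf_cj_le_secCent hs.hab hs.hEK h hgen
    have hEneK : ¬ K ≤ E := by
      intro hle
      have : E.relIndex K = 1 := Subgroup.relIndex_eq_one.mpr hle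
      rw [hidx] at this
      have h2 : 1 < p ^ (n + 1 + 1) := Nat.one_lt_pow (by omega) hp.out.one_lt
      omega
    set Cs := secCent K Z2 (E : Set Q) with hCs
    have hECs : E ≤ Cs := fun a ha => ⟨hs.hEK ha, fun b hb => hZZ2 (hs.hab a ha b hb)⟩
    have hCsN : Cs ≤ nIn K E := le_inf (secCent_le_normalizer hZ2E) (secCent_le K Z2 _)
    by_cases hC : Cs ≤ E
    · -- impossible: the centre of `K` mod `Z2` would be trivial
      exfalso
      set Z3 := secCent K Z2 (K : Set Q) with hZ3
      have hZ3E : Z3 ≤ E := fun g hg => hC ⟨hg.1, fun e he => hg.2 e (hs.hEK he)⟩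
      have hZ3cj : Z3 ≤ cj h E := by
        have : cj h Z3 = Z3 := cj_normal h Z3
        rw [← this]; exact cj_mono hZ3E
      have hZ3Z2 : Z3 ≤ Z2 := (le_inf hZ3E hZ3cj).trans hinf
      have hZ2K : Z2 < K := lt_of_le_of_ne (secCent_le K Z _) (fun heq => hEneK (heq ▸ hZ2E))
      obtain ⟨g, hg, hgZ⟩ := exists_mem_secCent_not_mem hQ hZ2K
      exact hgZ (hZ3Z2 hg)
    · set N1 := nIn K E with hN1
      have hEN1 : E ≤ N1 := le_nIn hs.hEK
      have hN1K : N1 ≤ K := nIn_le K E
      have hN1Cs : N1 ≤ Cs := eq_of_relIndex_prime hp.out hECs hCsN hs.hnorm hC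
      obtain ⟨g0, hg0, hg0E⟩ := SetLike.not_le_iff_exists.mp hC
      have hrel : p * N1.relIndex K = p ^ (n + 1 + 1) := by
        have h1 := Subgroup.relIndex_mul_relIndex E N1 K hEN1 hN1K
        rwa [hs.hnorm, hidx] at h1
      have hrel' : N1.relIndex K = p ^ (n + 1) := by
        have hp0 : 0 < p := hp.out.pos
        apply Nat.eq_of_mul_eq_mul_left hp0
        rw [hrel]; ring
      have hN1ne : N1 ≠ K := by
        intro heq
        have : N1.relIndex K = 1 := Subgroup.relIndex_eq_one.mpr (heq ▸ le_rfl)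
        rw [hrel'] at this
        have h2 : 1 < p ^ (n + 1) := Nat.one_lt_pow (by omega) hp.out.one_lt
        omega
      have hB := lemmaB hQ hs hN1ne
      have hab1 := comm_mem_of_normalizer_centralizes hp.out hs.hEK hs.hnorm
        (fun a ha b hb => hZZ2 (hs.hab a ha b hb)) (fun g hg e he => (hN1Cs hg).2 e he)
        (hCsN hg0) hg0E
      have hs1 : RelSoft p K Z2 N1 :=
        { hZE := hZ2E.trans hEN1
          hEK := hN1K
          hab := hab1
          hcent := fun g hgK hg => hCsN ⟨hgK, fun e he => hg e (hEN1 he)⟩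
          hnorm := hB }
      have hgen1 : N1 ⊔ cj h N1 = K := by
        apply le_antisymm
        · refine sup_le hN1K ?_
          have : cj h K = K := cj_normal h K
          rw [← this]; exact cj_mono hN1K
        · rw [← hgen]
          exact sup_le_sup hEN1 (cj_mono hEN1)
      have := ih Z2 N1 hs1 hgen1 hrel'
      show ⁅K.lowerCentralSeries (n + 2), K⁆ ≤ Z
      exact (Subgroup.commutator_mono this le_rfl).trans (commutator_secCent_le K Z)

end Cfsg.Agent.Helper53.Soft
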