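import Cfsg.Agent.Lib.Helper53.Soft4

/-!
Soft subgroups: the nilpotency class of the members of the tower.
-/

set_option autoImplicit false
open scoped Pointwise commutatorElement

namespace Cfsg.Agent.Helper53.Soft

variable {Q : Type*} [Group Q]

theorem card_lt_of_lt [Finite Q] {M L : Subgroup Q} (h : M < L) : Nat.card M < Nat.card L := by
  rcases lt_or_eq_of_le (Subgroup.card_le_of_le h.le) with h1 | h1
  · exact h1
  · exact absurd (eq_of_le_of_card_eq h.le h1) (ne_of_lt h)

/-- a proper member `K` of the tower is generated by `E` and its conjugate under an element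
normalizing `K` outside `K`. -/
theorem gen_of_tower {p : ℕ} [hp : Fact p.Prime] [Finite Q] (hQ : IsPGroup p Q) {E K : Subgroup Q}
    (hch : ∀ K L : Subgroup Q, E ≤ K → E ≤ L → K ≤ L ∨ L ≤ K)
    (hno : ∀ K : Subgroup Q, E ≤ K → K ≠ ⊤ → K.relIndex (Subgroup.normalizer (K : Set Q)) = p)
    (hEK : E ≤ K) {h : Q} (hh : h ∈ Subgroup.normalizer (K : Set Q)) (hhK : h ∉ K) :
    E ⊔ cj h E = K := by
  have hcjK : cj h K = K := cj_eq_self_iff.mpr hh
  have hle : E ⊔ cj h E ≤ K := by
    refine sup_le hEK ?_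
    rw [← hcjK]; exact cj_mono hEK
  by_contra hne
  have hlt : E ⊔ cj h E < K := lt_of_le_of_ne hle hne
  obtain ⟨M, hHM, hMK, hMmax⟩ : ∃ M : Subgroup Q, E ⊔ cj h E ≤ M ∧ M < K ∧
      ∀ L : Subgroup Q, M < L → L ≤ K → L = K := by
    let S := {L : Subgroup Q // E ⊔ cj h E ≤ L ∧ L < K}
    haveI : Nonempty S := ⟨⟨E ⊔ cj h E, le_rfl, hlt⟩⟩
    obtain ⟨⟨M, hM1, hM2⟩, hMmax⟩ := Finite.exists_max (fun L : S => Nat.card (L.1 : Subgroup Q))
    refine ⟨M, hM1, hM2, fun L hML hLK => ?_⟩
    by_contra hLne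
    have := hMmax ⟨L, hM1.trans hML.le, lt_of_le_of_ne hLK hLne⟩
    have h2 := card_lt_of_lt hML
    simp only at this
    omega
  have hEM : E ≤ M := le_sup_left.trans hHM
  have hMtop : M ≠ ⊤ := fun h => not_le_of_gt hMK (h ▸ le_top)
  have h1 : nIn K M = K := hMmax _ (lt_nIn_of_lt hQ hMK) (nIn_le K M)
  have hKnM : K ≤ Subgroup.normalizer (M : Set Q) := by
    rw [← h1]; exact inf_le_left
  have h2 := hno M hEM hMtop
  have h3 : Subgroup.normalizer (M : Set Q) ≤ K :=
    eq_of_relIndex_prime hp.out hMK.le hKnM h2 (not_le_of_gt hMK)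
  have hEM' : E ≤ cj h⁻¹ M := by
    have h4 : cj h E ≤ M := le_sup_right.trans hHM
    have h5 := cj_mono (g := h⁻¹) h4
    rwa [cj_inv_cj] at h5
  have heq : cj h⁻¹ M = M := by
    rcases hch M (cj h⁻¹ M) hEM hEM' with h4 | h4
    · exact (eq_of_le_of_card_eq h4 (card_cj _ _).symm).symm
    · exact eq_of_le_of_card_eq h4 (card_cj _ _)
  have h6 : h⁻¹ ∈ Subgroup.normalizer (M : Set Q) := cj_eq_self_iff.mp heq
  exact hhK (h3 (inv_mem_iff.mp h6))

/-- the lower bound for the class. -/
theorem lcs_ne_bot {p : ℕ} [hp : Fact p.Prime] [Finite Q] {E K : Subgroup Q}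
    (hC : Subgroup.centralizer (E : Set Q) ≤ E) (hE : E ≠ ⊥)
    (hno : ∀ K : Subgroup Q, E ≤ K → K ≠ ⊤ → K.relIndex (Subgroup.normalizer (K : Set Q)) = p)
    (hEK : E ≤ K) (hKtop : K ≠ ⊤) (i : ℕ) (hidx : E.relIndex K = p ^ i) :
    K.lowerCentralSeries i ≠ ⊥ := by
  intro hbot
  have hLK : ∀ j, K.lowerCentralSeries j ≤ K := fun j =>
    K.lowerCentralSeries_antitone (Nat.zero_le j)
  have hnormal : ∀ j, E ⊔ K.lowerCentralSeries j ≤
      Subgroup.normalizer ((E ⊔ K.lowerCentralSeries (j + 1) : Subgroup Q) : Set Q) := by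
    intro j
    refine sup_le (le_sup_left.trans Subgroup.le_normalizer) ?_
    have key : ∀ g ∈ K.lowerCentralSeries j,
        cj g (E ⊔ K.lowerCentralSeries (j + 1)) ≤ E ⊔ K.lowerCentralSeries (j + 1) := by
      intro g hg
      rw [cj_sup]
      refine sup_le ?_ ?_
      · intro x hx
        rw [mem_cj] at hx
        have h1 : ⁅g, g⁻¹ * x * g⁆ ∈ K.lowerCentralSeries (j + 1) :=
          Subgroup.commutator_mem_commutator hg (hEK hx)
        have h2 : x = ⁅g, g⁻¹ * x * g⁆ * (g⁻¹ * x * g) := by
          rw [commutatorElement_def]; group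
        rw [h2]
        exact Subgroup.mul_mem _ (le_sup_right (a := E) h1) (le_sup_left (b := K.lowerCentralSeries (j + 1)) hx)
      · have : cj g (K.lowerCentralSeries (j + 1)) = K.lowerCentralSeries (j + 1) :=
          cj_eq_self_iff.mpr (K.self_le_normalizer_lowerCentralSeries (j + 1) (hLK j hg))
        rw [this]; exact le_sup_right
    intro g hg
    rw [← cj_eq_self_iff]
    apply le_antisymm (key g hg)
    have := cj_mono (g := g) (key g⁻¹ (inv_mem hg))
    rwa [cj_cj_inv] at this
  have hclaim : ∀ m j, j + m + 1 = i → E.relIndex (E ⊔ K.lowerCentralSeries j) ∣ p ^ m := by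
    intro m
    induction m with
    | zero =>
      intro j hj
      have h1 : K.lowerCentralSeries j ≤ E := by
        apply le_trans _ hC
        intro g hg
        rw [Subgroup.mem_centralizer_iff]
        intro e he
        have h2 : ⁅g, e⁆ ∈ K.lowerCentralSeries (j + 1) :=
          Subgroup.commutator_mem_commutator hg (hEK he)
        have h3 : j + 1 = i := by omega
        rw [h3, hbot, Subgroup.mem_bot] at h2
        rw [commutatorElement_def] at h2
        have : g * e = e * g := by
          have := congrArg (fun t => t * e * g) h2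
          simpa [mul_assoc] using this
        exact this.symm
      rw [sup_eq_left.mpr h1, pow_zero]
      exact dvd_of_eq (Subgroup.relIndex_eq_one.mpr le_rfl)
    | succ m ih =>
      intro j hj
      have h1 := ih (j + 1) (by omega)
      set H' := E ⊔ K.lowerCentralSeries (j + 1) with hH'
      have hH'K : H' ≤ K := sup_le hEK (hLK _)
      have hH'top : H' ≠ ⊤ := fun h => hKtop (top_le_iff.mp (h ▸ hH'K))
      have h2 := hno H' le_sup_left hH'top
      have hH'le : H' ≤ E ⊔ K.lowerCentralSeries j :=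
        sup_le_sup_left (K.lowerCentralSeries_antitone (Nat.le_succ j)) E
      have h3 := Subgroup.relIndex_mul_relIndex H' (E ⊔ K.lowerCentralSeries j) _ hH'le (hnormal j)
      rw [h2] at h3
      have h4 : H'.relIndex (E ⊔ K.lowerCentralSeries j) ∣ p := Dvd.intro _ h3
      have h5 := Subgroup.relIndex_mul_relIndex E H' (E ⊔ K.lowerCentralSeries j) le_sup_left hH'le
      rw [← h5, pow_succ]
      exact mul_dvd_mul h1 h4
  rcases Nat.eq_zero_or_pos i with hi | hi
  · subst hi
    rw [Subgroup.lowerCentralSeries_zero] at hbot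
    exact hE (le_bot_iff.mp (hbot ▸ hEK))
  · have h1 := hclaim (i - 1) 0 (by omega)
    rw [Subgroup.lowerCentralSeries_zero, sup_eq_right.mpr hEK, hidx] at h1
    have h2 : p ^ i ≤ p ^ (i - 1) := Nat.le_of_dvd (Nat.pow_pos hp.out.pos) h1
    have h3 : p ^ (i - 1) < p ^ i := Nat.pow_lt_pow_right hp.out.one_lt (by omega)
    omega

/-- characterization of the class through the lower central series computed in the big group. -/
theorem nilpotencyClass_eq_of_lcs {K : Subgroup Q} [Group.IsNilpotent K] (i : ℕ)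
    (h1 : K.lowerCentralSeries (i + 1) = ⊥) (h2 : K.lowerCentralSeries i ≠ ⊥) :
    Group.nilpotencyClass K = i + 1 := by
  have key : ∀ n, K.lowerCentralSeries n = ⊥ ↔ Group.nilpotencyClass K ≤ n := by
    intro n
    rw [← Subgroup.top_subtype_lowerCentralSeries,
      Subgroup.map_eq_bot_iff_of_injective _ K.subtype_injective,
      Subgroup.lowerCentralSeries_eq_bot_iff_nilpotencyClass_le]
  have h3 := (key (i + 1)).mp h1
  have h4 : ¬ Group.nilpotencyClass K ≤ i := fun h => h2 ((key i).mpr h)
  omega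

/-- the upper bound for the class, by transfer to the normalizer of `K`. -/
theorem lcs_eq_bot {p : ℕ} [hp : Fact p.Prime] [Finite Q] (hQ : IsPGroup p Q) {E K : Subgroup Q}
    (hab : ∀ a ∈ E, ∀ b ∈ E, a * b = b * a)
    (hC : Subgroup.centralizer (E : Set Q) ≤ E)
    (hN : E.relIndex (Subgroup.normalizer (E : Set Q)) = p)
    (hEK : E ≤ K) (i : ℕ) (hidx : E.relIndex K = p ^ (i + 1))
    {h : Q} (hh : h ∈ Subgroup.normalizer (K : Set Q)) (hgen : E ⊔ cj h E = K) :
    K.lowerCentralSeries (i + 2) = ⊥ := by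
  set NK := Subgroup.normalizer (K : Set Q) with hNK
  have hKNK : K ≤ NK := Subgroup.le_normalizer
  have hENK : E ≤ NK := hEK.trans hKNK
  haveI : (K.subgroupOf NK).Normal := Subgroup.normal_in_normalizer
  have hQ' : IsPGroup p NK := hQ.to_subgroup NK
  -- `E < K`, hence the normalizer of `E` lies in `K`
  have hElt : E < K := by
    refine lt_of_le_of_ne hEK ?_
    intro heq
    have : E.relIndex K = 1 := Subgroup.relIndex_eq_one.mpr (heq ▸ le_rfl)
    rw [hidx] at this
    have h2 : 1 < p ^ (i + 1) := Nat.one_lt_pow (by omega) hp.out.one_lt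
    omega
  have hNE : Subgroup.normalizer (E : Set Q) ≤ K := by
    have := nIn_le_of_lt hQ (K := ⊤) (by rw [nIn_top]; exact hN) hElt le_top
    rwa [nIn_top] at this
  have hnIn : nIn K E = Subgroup.normalizer (E : Set Q) := inf_eq_left.mpr hNE
  -- transfer
  have hnIn' : nIn (K.subgroupOf NK) (E.subgroupOf NK) = (nIn K E).subgroupOf NK := by
    unfold nIn
    rw [Subgroup.subgroupOf, Subgroup.subgroupOf, Subgroup.subgroupOf, Subgroup.comap_inf]
    congr 1
    exact (Subgroup.subgroupOf_normalizer_eq hENK).symm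
  have hs' : RelSoft p (K.subgroupOf NK) ⊥ (E.subgroupOf NK) :=
    { hZE := bot_le
      hEK := Subgroup.comap_mono hEK
      hab := by
        intro a ha b hb
        rw [Subgroup.mem_bot, commutatorElement_def]
        have := hab a ha b hb
        apply Subtype.ext
        have e : ((a * b * a⁻¹ * b⁻¹ : NK) : Q) = (a : Q) * b * (a : Q)⁻¹ * (b : Q)⁻¹ := rfl
        rw [e, this]
        simp
      hcent := by
        intro g _ hg
        rw [Subgroup.mem_subgroupOf]
        apply hC
        rw [Subgroup.mem_centralizer_iff]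
        intro e he
        have h1 := hg ⟨e, hENK he⟩ (Subgroup.mem_subgroupOf.mpr he)
        rw [Subgroup.mem_bot, commutatorElement_def] at h1
        have h2 : (g : Q) * e * (g : Q)⁻¹ * e⁻¹ = 1 := congrArg Subtype.val h1
        have : (g : Q) * e = e * g := by
          have := congrArg (fun t => t * e * (g : Q)) h2
          simpa [mul_assoc] using this
        exact this.symm
      hnorm := by
        rw [hnIn', Subgroup.relIndex_subgroupOf (nIn_le K E |>.trans hKNK), hnIn]
        exact hN }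
  have hcj' : cj (⟨h, hh⟩ : NK) (E.subgroupOf NK) = (cj h E).subgroupOf NK := by
    ext x
    rw [mem_cj, Subgroup.mem_subgroupOf, Subgroup.mem_subgroupOf, mem_cj]
    rfl
  have hcjNK : cj h E ≤ NK := by
    have : cj h E ≤ K := by rw [← hgen]; exact le_sup_right
    exact this.trans hKNK
  have hgen' : E.subgroupOf NK ⊔ cj (⟨h, hh⟩ : NK) (E.subgroupOf NK) = K.subgroupOf NK := by
    rw [hcj', ← Subgroup.subgroupOf_sup hENK hcjNK, hgen]
  have hidx' : (E.subgroupOf NK).relIndex (K.subgroupOf NK) = p ^ (i + 1) := by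
    rw [Subgroup.relIndex_subgroupOf hKNK]; exact hidx
  have hres := class_bound hQ' (K.subgroupOf NK) ⟨h, hh⟩ i ⊥ (E.subgroupOf NK) hs' hgen' hidx'
  have hmap : (K.subgroupOf NK).map NK.subtype = K := by
    rw [Subgroup.subgroupOf_map_subtype]; exact inf_eq_left.mpr hKNK
  rw [← hmap, ← Subgroup.map_lowerCentralSeries, le_bot_iff.mp hres, Subgroup.map_bot]

end Cfsg.Agent.Helper53.Soft
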